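import Cfsg.Agent.GD2.Odd
import Cfsg.Agent.Inv.ZStarCor
import Cfsg.Agent.Transfer.ThompsonExtremal
import Cfsg.Agent.PLocal.AmbSyl
import Cfsg.Agent.Grp.PChain

/-! Group level set-up for S3259.  `G` carries a `HasDistribNeg` structure (`-g = z g`, `z` the
central involution), `ρ : G →* R` is faithful with `ρ (-1) = -1`. -/

set_option autoImplicit false
set_option linter.unusedSectionVars false

namespace Cfsg.Agent.GD2

open Subgroup Cfsg.Agent.PLocal.Amb
open scoped commutatorElement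

variable {R : Type*} [Ring R] [Algebra ℚ R] [Nontrivial R] [Rk2 R]
variable {G : Type*} [Group G]

/-- the negation given by a central involution -/
@[reducible] def mkNeg (z : G) (hz : z * z = 1) (hc : ∀ g, g * z = z * g) : HasDistribNeg G where
  neg := fun g => z * g
  neg_neg := fun g => by rw [← mul_assoc, hz, one_mul]
  neg_mul := fun a b => mul_assoc _ _ _
  mul_neg := fun a b => by rw [← mul_assoc, hc, mul_assoc]

/-- the normalised trace, extended to `R` -/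
structure TQ [Fintype G] (ρ : G →* R) (T : R →ₗ[ℚ] ℚ) : Prop where
  inj : Function.Injective ρ
  one : T 1 = 1
  comm : ∀ a ∈ Sp ρ, ∀ b ∈ Sp ρ, T (a * b) = T (b * a)
  idem : ∀ e ∈ Sp ρ, e * e = e → e = 0 ∨ e = 1 ∨ T e = 1 / 2
  two : ∀ a ∈ Sp ρ, ∀ k, a ^ 2 ^ (k + 1) = -1 → T a = 0
  ineq : ∀ (B : Subgroup G) [Fintype B], (Nat.card G : ℚ)⁻¹ * ∑ g, T (ρ g) ^ 2 ≤
    (Nat.card B : ℚ)⁻¹ * ∑ b : B, T (ρ b) ^ 2

theorem exists_TQ [Fintype G] {ρ : G →* R} (hρ : Function.Injective ρ) (hn : ¬ Red ρ) :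
    ∃ T, TQ ρ T := by
  obtain ⟨T, h⟩ := exists_TR hρ hn
  obtain ⟨T', hT⟩ := LinearMap.exists_leftInverse_of_injective (Sp ρ).val.toLinearMap
    (LinearMap.ker_eq_bot.2 Subtype.val_injective)
  have k : ∀ a : Sp ρ, (T ∘ₗ T') a = T a := fun a => congrArg T (LinearMap.congr_fun hT a)
  refine ⟨T ∘ₗ T', hρ, (k 1).trans h.one, fun a ha b hb => ?_, fun e he h1 => ?_,
    fun a ha n h1 => (k ⟨a, ha⟩).trans (h.two _ n (Subtype.ext h1)), fun B _ => ?_⟩
  · exact ((k (⟨a, ha⟩ * ⟨b, hb⟩)).trans (h.comm _ _)).trans (k (⟨b, hb⟩ * ⟨a, ha⟩)).symm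
  · exact (h.idem ⟨e, he⟩ (Subtype.ext h1)).imp (congrArg Subtype.val)
      (Or.imp (congrArg Subtype.val) (k ⟨e, he⟩).trans)
  · have : ∀ g, (T ∘ₗ T') (ρ g) = T (ρ.codRestrict (Sp ρ) (mem_Sp ρ) g) := fun g =>
      k ⟨ρ g, mem_Sp ρ g⟩
    simp only [this]
    exact h.ineq B

theorem TQ.conj [Fintype G] {ρ : G →* R} {T : R →ₗ[ℚ] ℚ} (h : TQ ρ T) (g x : G) :
    T (ρ (g * x * g⁻¹)) = T (ρ x) := by
  rw [map_mul, h.comm _ (mem_Sp ρ _) _ (mem_Sp ρ _), ← map_mul, ← mul_assoc, inv_mul_cancel,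
    one_mul]

variable [HasDistribNeg G]

/-- `a = ± b` -/
def Pm (a b : G) : Prop := a = b ∨ a = -b

theorem Pm.rfl {a : G} : Pm a a := Or.inl (Eq.refl a)

theorem Pm.neg (a : G) : Pm (-a) a := Or.inr (Eq.refl _)

theorem Pm.symm {a b : G} (h : Pm a b) : Pm b a :=
  h.imp Eq.symm fun e => by rw [e, neg_neg]

theorem Pm.trans {a b c : G} (h : Pm a b) (h' : Pm b c) : Pm a c := by
  rcases h with rfl | rfl <;> rcases h' with rfl | rfl <;> simp [Pm]

theorem Pm.mul {a b c d : G} (h : Pm a b) (h' : Pm c d) : Pm (a * c) (b * d) := by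
  rcases h with rfl | rfl <;> rcases h' with rfl | rfl <;> simp [Pm]

theorem Pm.inv {a b : G} (h : Pm a b) : Pm a⁻¹ b⁻¹ := by
  rcases h with rfl | rfl <;> simp [Pm, inv_neg]

theorem Pm.conj {a b : G} (h : Pm a b) (g : G) : Pm (g * a * g⁻¹) (g * b * g⁻¹) :=
  (Pm.rfl.mul h).mul Pm.rfl

theorem Pm.sq {a b : G} (h : Pm a b) : a * a = b * b := by
  rcases h with rfl | rfl <;> simp

theorem Pm.comm {a b c : G} (h : Pm a b) (hc : c * b = b * c) : c * a = a * c := by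
  rcases h with rfl | rfl <;> simp [hc]

theorem Pm.anti {a b c : G} (h : Pm a b) (hc : c * b = -(b * c)) : c * a = -(a * c) := by
  rcases h with rfl | rfl <;> simp [hc]

theorem neg_mem' {X : Subgroup G} (hz : -1 ∈ X) {a : G} (ha : a ∈ X) : -a ∈ X := by
  rw [← neg_one_mul]; exact mul_mem hz ha

theorem Pm.mem {X : Subgroup G} (hz : -1 ∈ X) {a b : G} (h : Pm a b) (hb : b ∈ X) : a ∈ X := by
  rcases h with rfl | rfl
  exacts [hb, neg_mem' hz hb]

/-- the subgroup `{1, -1}` -/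
def Zz (G : Type*) [Group G] [HasDistribNeg G] : Subgroup G where
  carrier := {g | Pm g 1}
  one_mem' := Pm.rfl
  mul_mem' := fun ha hb => by simpa using Pm.mul ha hb
  inv_mem' := fun ha => by simpa using Pm.inv ha

theorem mem_Zz {g : G} : g ∈ Zz G ↔ Pm g 1 := Iff.rfl

theorem Zz_le_center : Zz G ≤ center G := fun _ h => mem_center_iff.2 fun g =>
  Pm.comm h (by simp)

instance Zz_normal : (Zz G).Normal := ⟨fun n hn g => by
  rwa [mem_center_iff.1 (Zz_le_center hn), mul_inv_cancel_right]⟩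

theorem Zz_two : IsPGroup 2 (Zz G) := isPGroup_iff.2 fun x hx => ⟨1, by
  rw [pow_one, pow_two, Pm.sq hx, one_mul]⟩

theorem pm_iff {a b : G} : Pm a b ↔ Pm (a * b⁻¹) 1 :=
  ⟨fun h => by simpa using h.mul (Pm.rfl (a := b⁻¹)), fun h => by simpa using h.mul (Pm.rfl (a := b))⟩

/-- a `2`-group `P` normalising `N`, `K`: an element of `N \ K` central of order two mod `K` -/
theorem exists_cen [Finite G] {P N K : Subgroup G} (hP : IsPGroup 2 P) (hN : N ≤ P)
    (nN : P ≤ 𝐍[N]) (nK : P ≤ 𝐍[K]) (h : ¬ N ≤ K) :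
    ∃ q ∈ N, q ∉ K ∧ q * q ∈ K ∧ ∀ x ∈ P, q * x * q⁻¹ * x⁻¹ ∈ K := by
  have := normal_subgroupOf' nN
  have := normal_subgroupOf' nK
  obtain ⟨u, h1, h2, h3, h4⟩ := Grp.PChain.exists_central_mod_pow hP (N.subgroupOf P)
    (K.subgroupOf P) fun hle => h fun x hx => hle (x := ⟨x, hN hx⟩) hx
  exact ⟨u, h1, h2, by simpa [pow_two, mem_subgroupOf] using h3, fun x hx => h4 ⟨x, hx⟩⟩

/-- the same with `K = {±1}`, for a `2`-group `N` normalised by a `2`-group `P` -/
theorem exists_cenZ [Finite G] {P N : Subgroup G} (hP : IsPGroup 2 P) (hN : IsPGroup 2 N)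
    (nN : P ≤ 𝐍[N]) (h : ¬ N ≤ Zz G) :
    ∃ q ∈ N, ¬ Pm q 1 ∧ Pm (q * q) 1 ∧ ∀ x ∈ P ⊔ N, Pm (q * x) (x * q) := by
  obtain ⟨q, h1, h2, h3, h4⟩ := exists_cen (isPGroup_sup hP hN nN) le_sup_right
    (sup_le nN le_normalizer) (by rw [normalizer_eq_top]; exact le_top) h
  exact ⟨q, h1, h2, h3, fun x hx => pm_iff.2 (by simpa [mul_assoc, mem_Zz] using h4 x hx)⟩

/-- reflections -/
structure Rg (t : G) : Prop where
  sq : t * t = 1
  ne : ¬ Pm t 1

theorem Rg.pm {a b : G} (h : Rg b) (e : Pm a b) : Rg a :=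
  ⟨e.sq.trans h.sq, fun h1 => h.ne (e.symm.trans h1)⟩

theorem Rg.conj {t : G} (h : Rg t) (g : G) : Rg (g * t * g⁻¹) :=
  ⟨by rw [conj_mul, h.sq]; simp, fun e => h.ne (by simpa [mul_assoc] using e.conj g⁻¹)⟩

theorem Rg.inv {t : G} (h : Rg t) : t⁻¹ = t := inv_eq_of_mul_eq_one_right h.sq

theorem inv_of_sq {i : G} (h : i * i = -1) : i⁻¹ = -i :=
  inv_eq_of_mul_eq_one_right (by simp [h])

/-- faithful representation with `-1 ↦ -1` -/
structure Bs (ρ : G →* R) : Prop where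
  inj : Function.Injective ρ
  neg1 : ρ (-1) = -1

variable {ρ : G →* R}

theorem Bs.neg (h : Bs ρ) (g : G) : ρ (-g) = -ρ g := by
  rw [← neg_one_mul, map_mul, h.neg1, neg_one_mul]

theorem Bs.ne_neg (h : Bs ρ) (g : G) : g ≠ -g := fun e => by
  have : (1 : G) = -1 := mul_right_cancel (b := g) (by simpa using e)
  exact neg_one_ne (by rw [← h.neg1, ← this, map_one] : (-1 : R) = 1)

theorem Bs.not_both (h : Bs ρ) {a b : G} (h1 : a * b = b * a) (h2 : a * b = -(b * a)) : False :=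
  h.ne_neg _ (h1.symm.trans h2)

theorem Bs.ne_one (h : Bs ρ) {i : G} (hi : i * i = -1) : ¬ Pm i 1 := fun e =>
  h.ne_neg 1 (by rw [← hi, e.sq, one_mul])

theorem Bs.pm_iff (h : Bs ρ) {a b : G} : Pm a b ↔ ρ a = ρ b ∨ ρ a = -ρ b := by
  rw [← h.neg, h.inj.eq_iff, h.inj.eq_iff]; rfl

theorem Bs.rf (h : Bs ρ) {t : G} (ht : Rg t) : Rf (ρ t) :=
  ⟨by rw [← map_mul, ht.sq, map_one], fun e => ht.ne (h.pm_iff.2 (Or.inl (by simpa using e))),
    fun e => ht.ne (h.pm_iff.2 (Or.inr (by simpa using e)))⟩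

/-- F1: an involution commuting with a reflection `t` is `±1` or `±t` -/
theorem Bs.cases (h : Bs ρ) {t r : G} (ht : Rg t) (hr : r * r = 1) (hc : r * t = t * r) :
    Pm r 1 ∨ Pm r t := by
  rw [h.pm_iff, h.pm_iff, map_one]
  have := (h.rf ht).cases (r := ρ r) (by rw [← map_mul, hr, map_one]) (by
    rw [← map_mul, hc, map_mul])
  tauto

theorem Bs.pm (h : Bs ρ) {t r : G} (ht : Rg t) (hr : Rg r) (hc : r * t = t * r) : Pm r t :=
  (h.cases ht hr.sq hc).resolve_left hr.ne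

/-- `i, j` generate a quaternion group with centre `±1` -/
structure Qu (i j : G) : Prop where
  ii : i * i = -1
  jj : j * j = -1
  ij : i * j = -(j * i)

theorem Qu.symm {i j : G} (h : Qu i j) : Qu j i := ⟨h.jj, h.ii, by rw [h.ij, neg_neg]⟩

theorem Qu.next {i j : G} (h : Qu i j) : Qu j (i * j) :=
  ⟨h.jj, by rw [mul_assoc, ← mul_assoc j, h.symm.ij]; simp [h.ii, mul_assoc, h.jj],
    by rw [← mul_assoc, h.symm.ij, neg_mul]⟩

theorem Qu.conj {i j : G} (h : Qu i j) (g : G) : Qu (g * i * g⁻¹) (g * j * g⁻¹) :=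
  ⟨by simp [h.ii], by simp [h.jj], by simp [h.ij]⟩

theorem Qu.pm {i j a b : G} (h : Qu i j) (ha : Pm a i) (hb : Pm b j) : Qu a b :=
  ⟨ha.sq.trans h.ii, hb.sq.trans h.jj, hb.anti (by
    rw [← neg_inj, neg_neg, eq_comm]; exact ha.anti h.symm.ij)⟩

/-- if `c² = -1` commutes with a quaternion group then `c i` is a reflection -/
theorem Bs.rg_mul (h : Bs ρ) {i j c : G} (hq : Qu i j) (hc : c * c = -1) (ci : c * i = i * c)
    (cj : c * j = j * c) : Rg (c * i) :=
  ⟨by rw [mul_assoc, ← mul_assoc i, ← ci, mul_assoc, hq.ii, ← mul_assoc, hc]; simp, fun e =>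
    h.not_both (e.comm (c := j) (by simp)) (by
      rw [← mul_assoc, ← cj, mul_assoc, hq.symm.ij, mul_neg, mul_assoc])⟩

/-- F2: nothing commuting with a quaternion group and a reflection `r` centralising it has
square `-1` or `± r`; so a `2`-element centralising `i, j, r` is `±1` or `±r`. -/
theorem Bs.sq_ne (h : Bs ρ) {i j r c : G} (hq : Qu i j) (hr : Rg r) (ri : r * i = i * r)
    (rj : r * j = j * r) (ci : c * i = i * c) (cj : c * j = j * c) (cr : c * r = r * c) :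
    c * c ≠ -1 ∧ ¬ Pm (c * c) r := by
  have key : ∀ r, Rg r → r * i = i * r → r * j = j * r → c * r = r * c →
      ρ (c * c) * ep (ρ r) ≠ -ep (ρ r) := fun r hr ri rj cr e => by
    have he := (h.rf hr).idm
    have m : ∀ {a b : G}, a * b = b * a → ρ a * ρ b = ρ b * ρ a := fun e => by
      rw [← map_mul, e, map_mul]
    have k2 : ∀ i, i * i = -1 → c * i = i * c → r * i = i * r →
        ρ i * ep (ρ r) = ρ c * ep (ρ r) ∨ ρ i * ep (ρ r) = -(ρ c * ep (ρ r)) := fun i ii ci ri => by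
      have := he.corner (x := ρ i - ρ c) (y := ρ i + ρ c) (by
        rw [add_mul, mul_add, ep_comm (m ri.symm), ep_comm (m cr)]) (by
        rw [sub_mul, mul_add, mul_add, m ci, ← map_mul, ← map_mul ρ c c, ii, h.neg1, sub_mul,
          add_mul, add_mul, e, neg_one_mul]; abel)
      rwa [sub_mul, add_mul, sub_eq_zero, add_eq_zero_iff_eq_neg] at this
    have k3 : ρ i * ρ j * ep (ρ r) = ρ j * ρ i * ep (ρ r) := by
      rcases k2 i hq.ii ci ri with a | a <;> rcases k2 j hq.jj cj rj with b | b <;>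
        simp only [mul_assoc, a, b, mul_neg] <;>
        simp only [← mul_assoc, ← m ci, ← m cj] <;> simp only [mul_assoc, a, b, mul_neg, neg_neg]
    rw [← map_mul, hq.ij, h.neg, map_mul, neg_mul] at k3
    have k4 := eq_zero_of_neg k3.symm
    have k5 := congrArg (ρ (j * i)⁻¹ * ·) k4
    simp only [← map_mul, mul_zero] at k5
    rw [← mul_assoc, ← map_mul, inv_mul_cancel, map_one, one_mul] at k5
    exact he.ne0 k5
  refine ⟨fun e => key r hr ri rj cr (by rw [e, h.neg1, neg_one_mul]), fun e => ?_⟩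
  refine key (-(c * c)) (hr.pm ((Pm.neg _).trans e)) ?_ ?_ (by simp [mul_assoc]) ?_
  · exact (((Pm.neg _).trans e).comm ri.symm).symm
  · exact (((Pm.neg _).trans e).comm rj.symm).symm
  · have := mul_ep (h.rf (hr.pm ((Pm.neg _).trans e))).sq
    rw [h.neg, neg_mul] at this
    rw [h.neg, ← this, neg_neg, this]

/-- the hypotheses on `G → H = G / {±1}` -/
structure HY (ρ : G →* R) {H : Type*} [Group H] (π : G →* H) : Prop extends Bs ρ where
  surj : Function.Surjective π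
  ker : ∀ g, π g = 1 ↔ Pm g 1
  idx : ∀ N : Subgroup H, N.index ≠ 2
  odd : oddCore H = ⊥
  two : pCore 2 H = ⊥

variable {H : Type*} [Group H] {π : G →* H}

theorem HY.eq_iff (h : HY ρ π) {a b : G} : π a = π b ↔ Pm a b := by
  rw [pm_iff, ← h.ker, map_mul, map_inv, mul_inv_eq_one]

theorem HY.ord (h : HY ρ π) {u : G} (h1 : ¬ Pm u 1) (h2 : Pm (u * u) 1) : orderOf (π u) = 2 :=
  orderOf_eq_prime (by rw [pow_two, ← map_mul, h.ker]; exact h2) fun e => h1 ((h.ker u).1 e)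

theorem HY.not_center (h : HY ρ π) {x : H} (hx : orderOf x = 2) : x ∉ center H := fun hc => by
  have : (zpowers x).Normal := ⟨fun n hn g => by
    rwa [mem_center_iff.1 (zpowers_le.2 hc hn), mul_inv_cancel_right]⟩
  have h1 := le_pCore' (p := 2) (Inv.isPGroup_zpowers_of_orderOf_two hx)
  rw [h.two, le_bot_iff, zpowers_eq_bot] at h1
  simp [h1] at hx

theorem HY.mem_of (h : HY ρ π) {S : Subgroup G} (hz : -1 ∈ S) {g : G} (hg : π g ∈ S.map π) :
    g ∈ S := by
  obtain ⟨s, hs, e⟩ := hg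
  exact (h.eq_iff.1 e.symm).mem hz hs

theorem neg_one_mem_syl [Finite G] {S : Subgroup G} (hS : IsSyl 2 S ⊤) : -1 ∈ S :=
  hS.le_of_le_normalizer Zz_two le_top (by rw [normalizer_eq_top]; exact le_top) (Pm.neg 1)

/-- Z* inside a Sylow subgroup -/
theorem HY.zstarS [Finite G] (h : HY ρ π) {S : Subgroup G} (hS : IsSyl 2 S ⊤) {u : G} (hu : u ∈ S)
    (h1 : ¬ Pm u 1) (h2 : Pm (u * u) 1) : ∃ g, g * u * g⁻¹ ∈ S ∧ ¬ Pm (g * u * g⁻¹) u := by
  have := Finite.of_surjective π h.surj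
  have h3 := hS.map π
  rw [← MonoidHom.range_eq_map, MonoidHom.range_eq_top.2 h.surj] at h3
  obtain ⟨P, hP⟩ := h3.exists_sylow_top
  by_contra hn
  push Not at hn
  refine h.not_center (h.ord h1 h2) (Inv.ZStar.mem_center_of_oddCore_eq_bot h.odd P (h.ord h1 h2)
    (hP ▸ mem_map_of_mem π hu) fun x hx => ?_)
  obtain ⟨g, rfl⟩ := h.surj x
  rw [← map_inv, ← map_mul, ← map_mul] at hx ⊢
  exact h.eq_iff.2 (hn g (h.mem_of (neg_one_mem_syl hS) (hP ▸ hx)))

/-- Z*: a conjugate commuting up to sign -/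
theorem HY.zstar [Finite G] (h : HY ρ π) {u : G} (h1 : ¬ Pm u 1) (h2 : Pm (u * u) 1) :
    ∃ g, Pm (g * u * g⁻¹ * u) (u * (g * u * g⁻¹)) ∧ ¬ Pm (g * u * g⁻¹) u := by
  have := Finite.of_surjective π h.surj
  by_contra hn
  push Not at hn
  refine h.not_center (h.ord h1 h2) (mem_center_iff.2 fun x => ?_)
  have h3 := Inv.ZStar.commutator_mem_oddCore_of_isolated (u := π u) ⟨h.ord h1 h2, fun c hc => by
    obtain ⟨g, rfl⟩ := h.surj c
    rw [← map_inv, ← map_mul, ← map_mul] at hc ⊢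
    refine h.eq_iff.2 (hn g (h.eq_iff.1 ?_))
    rw [map_mul, map_mul π u]; exact hc.eq.symm⟩ x
  rw [h.odd, mem_bot, mul_inv_eq_one, mul_inv_eq_iff_eq_mul] at h3
  exact h3.symm

/-- Thompson transfer for an involution of `H` central in a Sylow subgroup -/
theorem HY.thompson [Finite G] (h : HY ρ π) {S M : Subgroup G} (hS : IsSyl 2 S ⊤) (hM : M ≤ S)
    (hz : -1 ∈ M) (hi : M.relIndex S = 2) {u : G} (h2 : Pm (u * u) 1)
    (hc : ∀ s ∈ S, Pm (s * u) (u * s)) :
    ∃ g, g * u * g⁻¹ ∈ M ∧ ∀ s ∈ S, Pm (s * (g * u * g⁻¹)) (g * u * g⁻¹ * s) := by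
  have := Finite.of_surjective π h.surj
  have h3 := hS.map π
  rw [← MonoidHom.range_eq_map, MonoidHom.range_eq_top.2 h.surj] at h3
  have k : ∀ {X : Subgroup G}, -1 ∈ X → (X.map π).comap π = X := fun hX =>
    le_antisymm (fun g hg => h.mem_of hX hg) (le_comap_map _ _)
  rcases Transfer.thompson_transfer_extremal (P := S.map π) (Q := M.map π) (u := π u)
    (T := S.map π) (by
      have := h3.not_dvd_relIndex
      rwa [relIndex_top_right, ← even_iff_two_dvd, Nat.not_even_iff_odd] at this) (map_mono hM)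
    (by rw [← relIndex_comap, k hz, hi])
    (by rw [pow_two, ← map_mul, h.ker]; exact h2) h3.2 (by
      rintro _ ⟨s, hs, rfl⟩
      rw [← map_mul, ← map_mul]; exact h.eq_iff.2 (hc s hs)) with ⟨N, -, hN, -⟩ | ⟨x, h4, h5⟩
  · exact absurd hN (h.idx N)
  obtain ⟨g, rfl⟩ := h.surj x
  rw [← map_inv, ← map_mul, ← map_mul] at h4
  refine ⟨g, h.mem_of hz h4, fun s hs => ?_⟩
  have h6 := inv_conj_mem_of_mem_normalizer (mem_normalizer_of_cj_le h5) (mem_map_of_mem π hs)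
  rw [← map_inv, ← map_mul, ← map_mul] at h6
  simpa [mul_assoc] using (hc _ (h.mem_of (hM hz) h6)).conj g

end Cfsg.Agent.GD2
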