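import Cfsg.Agent.GD2.Q8
import Cfsg.Agent.Perm.FpfPerfect

/-! Facts on subgroups isomorphic to `SL₂(5)`. -/

set_option autoImplicit false
set_option linter.unusedSectionVars false

namespace Cfsg.Agent.GD2

open Subgroup Cfsg.Agent.PLocal.Amb

variable {R : Type*} [Ring R] [Algebra ℚ R] [Nontrivial R] [Rk2 R]
variable {G : Type*} [Group G] [HasDistribNeg G] {ρ : G →* R}

/-- `X ≅ SL₂(5)` with centre `±1` -/
structure X5 (X : Subgroup G) : Prop where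
  iso : Nonempty (X ≃* S25)
  neg : -1 ∈ X

theorem X5.cj {X : Subgroup G} (h : X5 X) (g : G) : X5 cj(g, X) :=
  ⟨h.iso.map fun e => (X.equivMapOfInjective _ (MulAut.conj g).injective).symm.trans e,
    mem_cj.2 (by simpa using h.neg)⟩

namespace F5

open Matrix

/-- the element with given entries -/
def mk (a b c d : ZMod 5) (h : a * d - b * c = 1) : S25 := ⟨!![a, b; c, d], by rw [det_fin_two_of, h]⟩

theorem ind {P : S25 → Prop} (h : ∀ a b c d h, P (mk a b c d h)) (x : S25) : P x := by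
  have := h (x 0 0) (x 0 1) (x 1 0) (x 1 1) (by rw [← det_fin_two]; exact x.2)
  rwa [show mk (x 0 0) (x 0 1) (x 1 0) (x 1 1) _ = x from Subtype.ext (eta_fin_two x.1).symm] at this

/-- an element of order four -/
def I : S25 := mk 0 1 4 0 (by decide)
/-- another one -/
def J : S25 := mk 2 0 0 3 (by decide)

theorem qu : Qu I J := ⟨by decide +kernel, by decide +kernel, by decide +kernel⟩

theorem inv2 : ∀ x : S25, (x * x = 1 → Pm x 1) ∧ x * x * (x * x) ≠ -1 :=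
  ind (by unfold Pm; decide +kernel)

theorem tr_iff : ∀ x : S25, (x.1.trace = 0 ↔ x * x = -1) ∧ (x.1.trace = 2 ↔ x * x * x * (x * x) = 1) ∧
    (x.1.trace = -2 ↔ x * x * x * (x * x) = -1) ∧ (x.1.trace = -1 ↔ x * x * x = 1 ∧ x ≠ 1) :=
  ind (by decide +kernel)

theorem cls : ∀ x : S25, x * x = -1 → ∃ g, g * I = x * g := fun x hx => by
  obtain ⟨a, b, c, d, h, e⟩ : ∃ a b c d h, mk a b c d h * I = x * mk a b c d h := by
    revert x; exact ind (by decide +kernel)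
  exact ⟨_, e⟩

theorem th : ∀ x : S25, x * x = -1 → ∀ y : S25, y * y = -1 → x * y = -(y * x) →
    ∃ g, g * x = y * g ∧ g * y = x * y * g := fun x hx y hy e => by
  have k : (3 • (1 + x.1 + y.1 + x.1 * y.1)).det = 1 ∧
      3 • (1 + x.1 + y.1 + x.1 * y.1) * x.1 = y.1 * 3 • (1 + x.1 + y.1 + x.1 * y.1) ∧
      3 • (1 + x.1 + y.1 + x.1 * y.1) * y.1 = x.1 * y.1 * 3 • (1 + x.1 + y.1 + x.1 * y.1) := by
    rw [det_fin_two]
    revert y
    refine ind ?_
    revert x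
    exact ind (by decide +kernel)
  exact ⟨⟨_, k.1⟩, Subtype.ext k.2.1, Subtype.ext k.2.2⟩

theorem two (k : ℕ) : ∀ x : S25, x ^ 2 ^ k = 1 → Pm x 1 ∨ x * x = -1 := by
  induction k with
  | zero => exact fun x h => Or.inl (Or.inl (by simpa using h))
  | succ k ih =>
    intro x h
    rcases ih (x * x) (by rwa [← sq, ← pow_mul, ← pow_succ']) with (e | e) | e
    exacts [Or.inl ((inv2 x).1 e), Or.inr e, absurd e (inv2 x).2]

theorem fix (α : S25 ≃* S25) (h1 : α I = I) (h2 : α J = J) (x : S25) : α x = x := by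
  have hn : α (-1) = -1 := by rw [← qu.ii, map_mul, h1]
  have tr : ∀ x, (α x).1.trace = x.1.trace := fun x => by
    obtain ⟨a1, a2, a3, a4⟩ := tr_iff x
    obtain ⟨b1, b2, b3, b4⟩ := tr_iff (α x)
    have e1 : ∀ y, α y = -1 ↔ y = -1 := fun y => by rw [← α.injective.eq_iff (a := y), hn]
    simp only [← map_mul, e1, ne_eq, map_eq_one_iff _ α.injective] at b1 b2 b3 b4
    exact (by decide : ∀ s t : ZMod 5, (s = 0 ↔ t = 0) → (s = 2 ↔ t = 2) → (s = -2 ↔ t = -2) →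
      (s = -1 ↔ t = -1) → s = t) _ _ (b1.trans a1.symm) (b2.trans a2.symm) (b3.trans a3.symm)
      (b4.trans a4.symm)
  have t0 := tr x
  have t1 : ((α x).1 * I.1).trace = (x.1 * I.1).trace := by
    have := tr (x * I); rwa [map_mul, h1] at this
  have t2 : ((α x).1 * J.1).trace = (x.1 * J.1).trace := by
    have := tr (x * J); rwa [map_mul, h2] at this
  have t3 : ((α x).1 * (I.1 * J.1)).trace = (x.1 * (I.1 * J.1)).trace := by
    have := tr (x * (I * J)); rwa [map_mul, map_mul, h1, h2] at this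
  generalize α x = y at t0 t1 t2 t3
  induction x using ind with | _ a b c d h =>
  induction y using ind with | _ a' b' c' d' h' =>
  simp [mk, I, J, trace_fin_two] at t0 t1 t2 t3
  obtain ⟨r1, r2, r3, r4⟩ := (by decide +kernel : ∀ a b c d : ZMod 5, a + d = 0 → b * 4 + c = 0 →
    a * 2 + d * 3 = 0 → b * (4 * 2) + c * 3 = 0 → a = 0 ∧ b = 0 ∧ c = 0 ∧ d = 0) (a' - a) (b' - b) (c' - c)
    (d' - d) (by linear_combination t0) (by linear_combination t1) (by linear_combination t2)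
    (by linear_combination t3)
  rw [sub_eq_zero] at r1 r2 r3 r4
  subst r1 r2 r3 r4
  rfl

end F5

theorem X5.hom (hb : Bs ρ) {X : Subgroup G} (h : X5 X) :
    ∃ φ : S25 →* G, Function.Injective φ ∧ φ.range = X ∧ ∀ x, φ (-x) = -φ x := by
  obtain ⟨e⟩ := h.iso
  let φ := X.subtype.comp e.symm.toMonoidHom
  have i : Function.Injective φ := X.subtype_injective.comp e.symm.injective
  have r : φ.range = X := by
    rw [MonoidHom.range_comp, MonoidHom.range_eq_top.2 e.symm.surjective, ← MonoidHom.range_eq_map,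
      range_subtype]
  obtain ⟨z, hz⟩ : -1 ∈ φ.range := r.symm ▸ h.neg
  rcases (F5.inv2 z).1 (i (by rw [map_mul, hz, map_one]; simp)) with rfl | rfl
  · exact absurd ((map_one φ).symm.trans hz) (hb.ne_neg 1)
  · exact ⟨φ, i, r, fun x => by rw [← neg_one_mul, map_mul, hz, neg_one_mul]⟩

theorem Qu.cj {i j : G} (h : Qu i j) (g : G) : cj(g, Q8 h) = Q8 (h.conj g) := by
  refine le_antisymm (cj_le_iff_forall.2 ?_) (Qu.le _ (conj_mem_cj g h.i_mem) (conj_mem_cj g h.j_mem))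
  rintro x (e | e | e | e)
  exacts [Or.inl (by simpa using e.conj g), Or.inr (Or.inl (e.conj g)), Or.inr (Or.inr (Or.inl (e.conj g))),
    Or.inr (Or.inr (Or.inr (conj_mul (b := g) ▸ e.conj g)))]

theorem Bs.isSyl_Q8 (hb : Bs ρ) {φ : S25 →* G} (hi : Function.Injective φ) (hn : ∀ x, φ (-x) = -φ x)
    {i j : G} (hq : Qu i j) (h1 : i ∈ φ.range) (h2 : j ∈ φ.range) : IsSyl 2 (Q8 hq) φ.range :=
  ⟨hq.le h1 h2, hq.two, fun T hT l1 l2 y hy => hb.mem_Q8 hq fun q hq' => by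
    obtain ⟨k, hk⟩ := isPGroup_iff.1 hT _ (mul_mem hy (l1 hq'))
    obtain ⟨x, hx⟩ := l2 (mul_mem hy (l1 hq'))
    rw [← hx] at hk ⊢
    rcases F5.two k x (hi (by rw [map_pow, hk, map_one])) with (rfl | rfl) | e
    exacts [Or.inl (Or.inl (map_one φ)), Or.inl (Or.inr (by rw [hn, map_one])),
      Or.inr (by rw [← map_mul, e, hn, map_one])]⟩

theorem Qu.map {φ : S25 →* G} (hn : ∀ x, φ (-x) = -φ x) {x y : S25} (h : Qu x y) : Qu (φ x) (φ y) :=
  ⟨by rw [← map_mul, h.ii, hn, map_one], by rw [← map_mul, h.jj, hn, map_one],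
    by rw [← map_mul, h.ij, hn, map_mul]⟩

theorem X5.syl [Finite G] (hb : Bs ρ) {X Q : Subgroup G} (h : X5 X) (hQ : IsSyl 2 Q X) :
    ∃ (i j : G) (hq : Qu i j), Q = Q8 hq := by
  obtain ⟨φ, i, rfl, n⟩ := h.hom hb
  obtain ⟨g, -, e⟩ := hQ.exists_cj_eq (hb.isSyl_Q8 i n (F5.qu.map n) ⟨_, rfl⟩ ⟨_, rfl⟩)
  exact ⟨_, _, _, e.symm.trans (Qu.cj _ g)⟩

theorem X5.theta (hb : Bs ρ) {X : Subgroup G} (h : X5 X) {i j : G} (hq : Qu i j) (hi : i ∈ X)
    (hj : j ∈ X) : ∃ θ ∈ X, θ * i * θ⁻¹ = j ∧ θ * j * θ⁻¹ = i * j := by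
  obtain ⟨φ, i, rfl, n⟩ := h.hom hb
  obtain ⟨x, rfl⟩ := hi
  obtain ⟨y, rfl⟩ := hj
  obtain ⟨g, a, b⟩ := F5.th x (i (by rw [map_mul, hq.ii, n, map_one])) y
    (i (by rw [map_mul, hq.jj, n, map_one])) (i (by rw [map_mul, hq.ij, n, map_mul]))
  exact ⟨φ g, ⟨g, rfl⟩, by rw [← map_mul, a, map_mul, mul_inv_cancel_right],
    by rw [← map_mul, b, map_mul, mul_inv_cancel_right, map_mul]⟩

theorem X5.fix [Finite G] (hb : Bs ρ) {X : Subgroup G} (h : X5 X) {i j : G} (hq : Qu i j)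
    (hi : i ∈ X) (hj : j ∈ X) {a : G} (ha : a ∈ 𝐍[X]) (ai : a * i = i * a) (aj : a * j = j * a) :
    a ∈ 𝐂[X] := by
  obtain ⟨φ, inj, rfl, n⟩ := h.hom hb
  obtain ⟨g, hg, e⟩ := (hb.isSyl_Q8 inj n (F5.qu.map n) ⟨_, rfl⟩ ⟨_, rfl⟩).exists_cj_eq
    (hb.isSyl_Q8 inj n hq hi hj)
  have hb' : g * a * g⁻¹ ∈ 𝐍[φ.range] := mul_mem (mul_mem (le_normalizer hg) ha) (inv_mem (le_normalizer hg))
  have c : ∀ q ∈ Q8 (F5.qu.map n), g * a * g⁻¹ * q * (g * a * g⁻¹)⁻¹ = q := fun q hq' => by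
    rw [← e] at hq'
    obtain ⟨y, hy, rfl⟩ := mem_cj_iff_exists.1 hq'
    rw [conj_mul, hq.comm ai aj hy, ← conj_mul, mul_inv_cancel_right]
  let ψ := MonoidHom.ofInjective inj
  let α := (ψ.trans (φ.range.normalizerMonoidHom ⟨_, hb'⟩)).trans ψ.symm
  have k : ∀ x, φ (α x) = g * a * g⁻¹ * φ x * (g * a * g⁻¹)⁻¹ := fun x =>
    MonoidHom.apply_ofInjective_symm inj _
  have f := F5.fix α (inj ((k _).trans (c _ (Qu.i_mem _)))) (inj ((k _).trans (c _ (Qu.j_mem _))))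
  have : g * a * g⁻¹ ∈ 𝐂[φ.range] := by
    rintro _ ⟨x, rfl⟩
    exact (mul_inv_eq_iff_eq_mul.1 ((k x).symm.trans (congrArg φ (f x)))).symm
  simpa [mul_assoc] using inv_conj_mem_of_mem_normalizer
    (normalizer_le_normalizer_centralizer _ (le_normalizer hg)) this

theorem X5.conj [Finite G] (hb : Bs ρ) {X : Subgroup G} (h : X5 X) {x y : G} (hx : x ∈ X)
    (hy : y ∈ X) (x2 : x * x = -1) (y2 : y * y = -1) : ∃ g ∈ X, Pm (g * x * g⁻¹) y := by
  obtain ⟨φ, i, rfl, n⟩ := h.hom hb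
  obtain ⟨x, rfl⟩ := hx
  obtain ⟨y, rfl⟩ := hy
  obtain ⟨g, a⟩ := F5.cls x (i (by rw [map_mul, x2, n, map_one]))
  obtain ⟨k, b⟩ := F5.cls y (i (by rw [map_mul, y2, n, map_one]))
  refine ⟨φ (k * g⁻¹), ⟨_, rfl⟩, Or.inl ?_⟩
  have : k * g⁻¹ * x * (k * g⁻¹)⁻¹ = y := by
    rw [← mul_inv_eq_iff_eq_mul.2 a, ← mul_inv_eq_iff_eq_mul.2 b]
    generalize F5.I = u
    group
  rw [← map_inv, ← map_mul, ← map_mul, this]

end Cfsg.Agent.GD2
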