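import Cfsg.Agent.GD2.Q8

/-! Integrality arguments for reflections . -/

set_option autoImplicit false
set_option linter.unusedSectionVars false
set_option linter.unusedVariables false

namespace Cfsg.Agent.GD2

open Subgroup Cfsg.Agent.PLocal.Amb

variable {R : Type*} [Ring R] [Algebra ℚ R] [Nontrivial R] [Rk2 R]
variable {G : Type*} [Group G] [HasDistribNeg G] {ρ : G →* R}

/-- `k` centralises `t, s` and `ep t + k ep (-t)` (trivial on the `+1` eigenspace of `t`, `k` on the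
`-1` eigenspace) lies in `G` -/
def Pk (ρ : G →* R) (t s : G) : Set G :=
  {k | k * t = t * k ∧ k * s = s * k ∧ ∃ a, ρ a = ep (ρ t) + ρ k * ep (-ρ t)}

theorem map_comm (ρ : G →* R) {a b : G} (e : a * b = b * a) : ρ a * ρ b = ρ b * ρ a := by
  rw [← map_mul, e, map_mul]

theorem Bs.map_anti (h : Bs ρ) {a b : G} (e : a * b = -(b * a)) : ρ a * ρ b = -(ρ b * ρ a) := by
  rw [← map_mul, e, h.neg, map_mul]

theorem map_sq (ρ : G →* R) {a : G} (e : a * a = 1) : ρ a * ρ a = 1 := by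
  rw [← map_mul, e, map_one]

theorem blk_mul {t a b : R} (ht : t * t = 1) (hb : b * t = t * b) :
    (ep t + a * ep (-t)) * (ep t + b * ep (-t)) = ep t + a * b * ep (-t) := by
  have h1 : b * ep t = ep t * b := ep_comm hb
  have h2 : b * ep (-t) = ep (-t) * b := ep_comm (by simp [hb])
  rw [add_mul, mul_add, mul_add, ep_mul ht, ← mul_assoc, ← h1, mul_assoc, ep_orth ht, mul_assoc,
    ep_orth' ht, mul_assoc a, ← mul_assoc (ep (-t)), ← h2, mul_assoc, ep_mul (x := -t) (by simpa using ht)]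
  simp [mul_assoc]

theorem blk_pow {t a : R} (ht : t * t = 1) (ha : a * t = t * a) (n : ℕ) :
    (ep t + a * ep (-t)) ^ n = ep t + a ^ n * ep (-t) := by
  induction n with
  | zero => simp [ep_add]
  | succ n ih => rw [pow_succ, ih, blk_mul ht ha, pow_succ]

theorem ep_conj {g g' x : R} (h : g * g' = 1) : g * ep x * g' = ep (g * x * g') := by
  simp [ep, mul_add, add_mul, h]

theorem Pk.conj {t s k : G} (hk : k ∈ Pk ρ t s) (g : G) :
    g * k * g⁻¹ ∈ Pk ρ (g * t * g⁻¹) (g * s * g⁻¹) := by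
  obtain ⟨h1, h2, a, h3⟩ := hk
  have h4 : ρ g * ρ g⁻¹ = 1 := by rw [← map_mul, mul_inv_cancel, map_one]
  refine ⟨by simp [h1], by simp [h2], g * a * g⁻¹, ?_⟩
  simp only [map_mul]
  rw [h3, ← neg_mul, ← mul_neg, ← ep_conj h4, ← ep_conj h4, mul_add, add_mul]
  simp only [mul_assoc]
  rw [← mul_assoc (ρ g⁻¹), ← map_mul, inv_mul_cancel, map_one, one_mul]

/-- `Pk` is a subgroup -/
theorem Bs.exists_Pk (h : Bs ρ) {t : G} (ht : t * t = 1) (s : G) :
    ∃ P : Subgroup G, (∀ k, k ∈ P ↔ k ∈ Pk ρ t s) ∧ -1 ∈ P ∧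
      ∀ c, c * t = t * c → c * s = s * c → c ∈ 𝐍[P] := by
  let P : Submonoid G :=
    { carrier := Pk ρ t s
      one_mem' := ⟨by simp, by simp, 1, by simp [ep_add]⟩
      mul_mem' := by
        rintro a b ⟨a1, a2, x, hx⟩ ⟨b1, b2, y, hy⟩
        refine ⟨by rw [mul_assoc, b1, ← mul_assoc, a1, mul_assoc],
          by rw [mul_assoc, b2, ← mul_assoc, a2, mul_assoc], x * y, ?_⟩
        rw [map_mul, hx, hy, blk_mul (map_sq ρ ht) (map_comm ρ b1), map_mul] }
  have inv : ∀ {k}, k ∈ P → k⁻¹ ∈ P := by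
    rintro k ⟨a1, a2, x, hx⟩
    have b1 : k⁻¹ * t = t * k⁻¹ := by rw [inv_mul_eq_iff_eq_mul, ← mul_assoc, a1]; simp
    refine ⟨b1, by rw [inv_mul_eq_iff_eq_mul, ← mul_assoc, a2]; simp, x⁻¹, ?_⟩
    have : ρ x * (ep (ρ t) + ρ k⁻¹ * ep (-ρ t)) = 1 := by
      rw [hx, blk_mul (map_sq ρ ht) (map_comm ρ b1), ← map_mul, mul_inv_cancel, map_one, one_mul,
        ep_add]
    rw [← mul_one (ρ x⁻¹), ← this, ← mul_assoc, ← map_mul, inv_mul_cancel, map_one, one_mul]
  refine ⟨{ P with inv_mem' := inv }, fun k => Iff.rfl, ⟨by simp, by simp, t, ?_⟩, fun c h1 h2 => ?_⟩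
  · rw [h.neg1, neg_one_mul, ← sub_eq_add_neg, ep_sub]
  have key : ∀ c k, c * t = t * c → c * s = s * c → k ∈ P → c * k * c⁻¹ ∈ P := fun c k h1 h2 hk => by
    have := Pk.conj hk c
    rwa [h1, h2, mul_inv_cancel_right, mul_inv_cancel_right] at this
  refine mem_normalizer_iff.2 fun k => ⟨key c k h1 h2, fun hk => ?_⟩
  simpa [mul_assoc] using key c⁻¹ _ (by rw [inv_mul_eq_iff_eq_mul, ← mul_assoc, h1]; simp)
    (by rw [inv_mul_eq_iff_eq_mul, ← mul_assoc, h2]; simp) hk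

/-- `Pk t s` and `Pk (-t) s` agree when `s` is an involution inverting the sign of `t` -/
theorem Bs.Pk_neg (h : Bs ρ) {t s k : G} (hs : s * s = 1) (ha : s * t = -(t * s))
    (hk : k ∈ Pk ρ t s) : k ∈ Pk ρ (-t) s := by
  have := Pk.conj hk s
  rwa [hk.2.1.symm, ha, mul_inv_cancel_right, mul_inv_cancel_right, neg_mul,
    mul_inv_cancel_right] at this

/-- if `a` commutes with `t` and acts trivially on the `+1` eigenspace then `a (s a s) ∈ Pk t s` acts as `a`
on the `-1` eigenspace -/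
theorem Bs.mem_Pk (h : Bs ρ) {t s a : G} (ht : t * t = 1) (hs : s * s = 1) (ha : s * t = -(t * s))
    (h1 : a * t = t * a) (h2 : ρ a * ep (ρ t) = ep (ρ t)) : a * (s * a * s) ∈ Pk ρ t s ∧
      ρ a = ep (ρ t) + ρ (a * (s * a * s)) * ep (-ρ t) := by
  have ss := map_sq ρ hs
  have a1 := ep_anti (h.map_anti ha)
  have a2 : ρ s * ep (-ρ t) = ep (ρ t) * ρ s := by
    simpa using ep_anti (x := -ρ t) (y := ρ s) (by simp [h.map_anti ha])
  have b1 : ρ (s * a * s) * ep (-ρ t) = ep (-ρ t) := by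
    rw [map_mul, map_mul, mul_assoc, a2, ← mul_assoc, mul_assoc _ (ρ a), h2, a1, mul_assoc, ss,
      mul_one]
  have b2 : ρ a = ep (ρ t) + ρ (a * (s * a * s)) * ep (-ρ t) := by
    rw [map_mul, mul_assoc, b1, ← h2, ← mul_add, ep_add, mul_one]
  have b3 : s * a * s * t = t * (s * a * s) := by
    rw [mul_assoc, ha, mul_neg, mul_assoc, ← mul_assoc a, h1, ← mul_assoc, ← mul_assoc, ha]
    simp [mul_assoc]
  have b4 : a * (s * a * s) = s * a * s * a := by
    refine h.inj ?_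
    generalize s * a * s = a' at b1 b3
    rw [← mul_one (ρ _), ← mul_one (ρ (_ * a)), ← ep_add (ρ t), mul_add, mul_add, map_mul ρ a,
      map_mul ρ _ a, mul_assoc, mul_assoc, mul_assoc, mul_assoc, b1, h2, ep_comm (map_comm ρ b3),
      ← mul_assoc, h2, ep_comm (x := -ρ t) (y := ρ a) (by simp [map_comm ρ h1]), ← mul_assoc, b1]
  refine ⟨⟨by rw [mul_assoc, b3, ← mul_assoc, h1, mul_assoc], ?_, a, b2⟩, b2⟩
  nth_rw 2 [b4]
  simp [← mul_assoc, hs, mul_assoc _ s s]

/-- the centraliser of two anticommuting reflections has a unique involution -/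
theorem Bs.dom (h : Bs ρ) {t s x y : G} (ht : Rg t) (ha : s * t = -(t * s)) (xt : x * t = t * x)
    (xs : x * s = s * x) (yt : y * t = t * y) (ys : y * s = s * y) (hc : x * y = y * x)
    (h2 : x * x = y * y) : Pm x y := by
  have yi : ∀ {z}, y * z = z * y → y⁻¹ * z = z * y⁻¹ := fun e => by
    rw [inv_mul_eq_iff_eq_mul, ← mul_assoc, e]; simp
  rw [GD2.pm_iff]
  refine (h.cases ht ?_ ?_).resolve_right fun e => h.not_both (b := x * y⁻¹) ?_ (e.anti ha)
  · rw [mul_assoc, ← mul_assoc y⁻¹, yi hc.symm, mul_assoc, ← mul_assoc, h2]; simp [mul_assoc]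
  · rw [mul_assoc, yi yt, ← mul_assoc, xt, mul_assoc]
  · rw [mul_assoc, yi ys, ← mul_assoc, ← xs, mul_assoc]

theorem two_blk (t k : R) : 2 * (ep t + k * ep (-t)) = 1 + k + (1 - k) * t := by
  rw [mul_add, two_ep, ← mul_assoc, show 2 * k = k * 2 by rw [two_mul, mul_two], mul_assoc, two_ep]
  noncomm_ring

theorem int_pair {t s k l : R} (ht : t * t = 1) (hs : s * s = 1) (kt : k * t = t * k)
    (ks : k * s = s * k) (lt : l * t = t * l) (ls : l * s = s * l) (kl : k * l = l * k) {n m : ℕ}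
    (hn : 0 < n) (h1 : ((ep t + k * ep (-t)) * (ep s + l * ep (-s))) ^ n = 1) (hm : 0 < m)
    (h2 : (k * l) ^ m = 1) : ∃ w, IsIntegral ℤ w ∧
      4 * w = 2 * ((1 + k) * (1 + l)) + (1 - k) * (1 - l) * (t * s + s * t) := by
  have key : ∀ {t k : R}, t * t = 1 → k * t = t * k →
      (ep t + k * ep (-t)) * (ep (-t) + k * ep (- -t)) = k := fun {t k} ht kt => by
    rw [neg_neg, add_mul, mul_add, mul_add, ep_orth ht, ← mul_assoc, ← ep_comm kt, mul_assoc,
      ep_mul ht, mul_assoc, ep_mul (x := -t) (by simpa using ht), mul_assoc, ← mul_assoc (ep (-t)),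
      ← ep_comm (x := -t) (y := k) (by simp [kt]), mul_assoc, ep_orth' ht, zero_add, mul_zero,
      mul_zero, add_zero, ← mul_add, ep_add, mul_one]
  have cm : ∀ {c t k : R}, Commute c t → Commute c k → Commute c (ep t + k * ep (-t)) :=
    fun h1 h2 => Commute.add_right (ep_comm h1) (h2.mul_right (ep_comm h1.neg_right))
  set y := (ep t + k * ep (-t)) * (ep s + l * ep (-s)) with hy
  set y' := (ep (-s) + l * ep (- -s)) * (ep (-t) + k * ep (- -t)) with hy'
  have e1 : y * y' = k * l := by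
    rw [hy, hy', mul_assoc, ← mul_assoc (ep s + _), key hs ls, ← mul_assoc, ← (cm lt kl.symm).eq,
      mul_assoc, key ht kt, kl]
  have c1 : Commute (k * l) y := Commute.mul_left ((cm kt rfl).mul_right (cm ks kl))
    ((cm lt kl.symm).mul_right (cm ls rfl))
  have e2 : y' = y ^ (n - 1) * (k * l) := by
    rw [← e1, ← mul_assoc, ← pow_succ, Nat.sub_add_cancel hn, h1, one_mul]
  have i1 := zi_pow hn h1
  have i2 : IsIntegral ℤ y' := e2 ▸ (zi_pair (i1.pow _) (zi_pow hm h2) (c1.symm.pow_left _)).2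
  refine ⟨y + y', (zi_pair i1 i2 (e2 ▸ ((Commute.refl y).pow_right _).mul_right c1.symm)).1, ?_⟩
  have f : ∀ a b : R, 4 * (a * b) = 2 * a * (2 * b) := fun a b => by noncomm_ring
  rw [mul_add, hy, hy', f, f, two_blk, two_blk, two_blk, two_blk, two_mul]
  have g : ∀ {a b : R}, a * b = b * a → ∀ x, b * (a * x) = a * (b * x) := fun e x => by
    rw [← mul_assoc, ← e, mul_assoc]
  simp only [mul_add, add_mul, mul_sub, sub_mul, mul_one, one_mul, mul_neg, neg_mul, mul_assoc,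
    ← ks, ← lt, ← kl, g ks, g lt, g kl]
  abel

/-- `1 + y` is a unit: `(1 + y)^n / 2` is not integral -/
theorem not_half {p n : ℕ} (hp : Odd p) {y c w : R} (hy : y ^ p = 1) (h0 : nm p y = 0) {m : ℕ}
    (hm : 0 < m) (hc : c ^ m = 1) (cy : c * y = y * c) (hw : IsIntegral ℤ w)
    (h2 : 2 * w = c * (1 + y) ^ n) : False := by
  obtain ⟨l, rfl⟩ := hp
  let v : R := -∑ j ∈ Finset.range l, y ^ (2 * j + 1)
  have h1 : ∀ l, (1 + y) * ∑ j ∈ Finset.range l, y ^ (2 * j + 1) + 1 = nm (2 * l + 1) y := by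
    intro l
    induction l with
    | zero => simp [nm]
    | succ l ih =>
      rw [Finset.sum_range_succ, mul_add, add_right_comm, ih, nm, nm,
        show 2 * (l + 1) + 1 = 2 * l + 1 + 1 + 1 by ring, Finset.sum_range_succ _ (2 * l + 1 + 1),
        Finset.sum_range_succ _ (2 * l + 1), add_mul, one_mul, ← pow_succ']
      abel
  have h3 : (1 + y) * v = 1 := by
    have := h1 l
    rw [h0, add_eq_zero_iff_eq_neg] at this
    rw [mul_neg, this, neg_neg]
  have iy := zi_pow (Nat.succ_pos _) hy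
  have h4 : IsIntegral ℤ v ∧ ∀ x, Commute x y → Commute x v := by
    refine (fun (H : IsIntegral ℤ (-v) ∧ ∀ x, Commute x y → Commute x (-v)) =>
      ⟨by simpa using H.1.neg, fun x hx => by simpa using (H.2 x hx).neg_right⟩) ?_
    rw [neg_neg]
    refine Finset.sum_induction _ (fun v => IsIntegral ℤ v ∧ ∀ x, Commute x y → Commute x v)
      (fun a b ha hb => ⟨(zi_pair ha.1 hb.1 (hb.2 a (ha.2 y rfl).symm)).1,
        fun x hx => (ha.2 x hx).add_right (hb.2 x hx)⟩)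
      ⟨isIntegral_zero, fun x _ => Commute.zero_right x⟩ fun j _ => ⟨iy.pow _, fun x hx => hx.pow_right _⟩
  have cw : ∀ x, Commute x c → Commute x y → Commute x w := fun x h5 h6 => by
    have : Commute x (2 * w) := h2 ▸ h5.mul_right (((Commute.one_right x).add_right h6).pow_right n)
    refine sub_eq_zero.1 (two_cancel ?_)
    rw [mul_sub, ← mul_assoc 2 w, ← this.eq]; noncomm_ring
  have cv : Commute c v := h4.2 c cy
  have yv : Commute (1 + y) v := h4.2 _ ((Commute.one_left y).add_left rfl)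
  have i1 := (zi_pair ((zi_pow hm hc).pow (m - 1)) hw ((cw c rfl cy).pow_left _)).2
  refine zi_half (zi_pair i1 (h4.1.pow n) (((cv.pow_left _).mul_left
    (cw v cv.symm (h4.2 y rfl).symm).symm).pow_right n)).2 0 ?_
  rw [← mul_assoc, show 2 * (c ^ (m - 1) * w) = c ^ (m - 1) * (2 * w) by noncomm_ring, h2,
    ← mul_assoc, ← pow_succ, Nat.sub_add_cancel hm, hc, one_mul, ← yv.mul_pow, h3]
  simp

theorem Bs.blk_pow_iff (h : Bs ρ) {t s k a : G} (ht : t * t = 1) (ha : s * t = -(t * s))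
    (kt : k * t = t * k) (ks : k * s = s * k) (e : ρ a = ep (ρ t) + ρ k * ep (-ρ t)) (n : ℕ) :
    a ^ n = 1 ↔ k ^ n = 1 := by
  have e2 : ρ (a ^ n) = ep (ρ t) + ρ (k ^ n) * ep (-ρ t) := by
    rw [map_pow, e, blk_pow (map_sq ρ ht) (map_comm ρ kt), map_pow]
  refine ⟨fun h1 => h.inj ?_, fun h1 => h.inj (by rw [e2, h1, map_one, one_mul, ep_add])⟩
  rw [h1, map_one, ← ep_add (ρ t), add_right_inj] at e2
  have e3 := congrArg (ρ s⁻¹ * · * ρ s) e2
  have e4 : ρ s⁻¹ * ρ s = 1 := by rw [← map_mul, inv_mul_cancel, map_one]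
  simp only [mul_assoc, ← ep_anti (h.map_anti ha)] at e3
  rw [← mul_assoc (ρ (k ^ n)), map_comm ρ (Commute.pow_left ks n), mul_assoc, ← mul_assoc,
    ← mul_assoc, e4, one_mul, one_mul] at e3
  rw [map_one, ← mul_one (ρ _), ← ep_add (ρ t), mul_add, ← e2, ← e3]

theorem Bs.Pk_swap (h : Bs ρ) {t s g k : G} (ht : Rg t) (ha : s * t = -(t * s))
    (hg : Pm (g * t * g⁻¹) s) (hk : k ∈ Pk ρ t s) :
    ∃ k' ∈ Pk ρ s t, ∀ n, k' ^ n = 1 ↔ k ^ n = 1 := by
  obtain ⟨-, -, a, e⟩ := Pk.conj hk g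
  have kt : g * k * g⁻¹ * (g * t * g⁻¹) = g * t * g⁻¹ * (g * k * g⁻¹) := by simp [hk.1]
  have h1 := (ht.conj g).sq
  have h0 := h.blk_pow_iff h1 (s := g * s * g⁻¹) (by simp [ha]) kt (by simp [hk.2.1]) e
  have h2 : t * (g * t * g⁻¹) = -(g * t * g⁻¹ * t) := hg.anti (by rw [ha, neg_neg])
  have c : Commute (ρ (g * t * g⁻¹)) (ρ a) := e ▸ Commute.add_right (ep_comm rfl)
    (Commute.mul_right (map_comm ρ kt.symm) (ep_comm (by simp)))
  obtain ⟨h3, h4⟩ := h.mem_Pk (a := a) h1 ht.sq h2 (h.inj (by rw [map_mul, map_mul ρ _ a, c.eq]))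
    (by rw [e, add_mul, ep_mul (map_sq ρ h1), mul_assoc (ρ _), ep_orth' (map_sq ρ h1), mul_zero, add_zero])
  refine ⟨_, ?_, fun n => ((h.blk_pow_iff h1 h2 h3.1 h3.2.1 h4 n).symm.trans (h0 n)).trans
    (by simp [conj_pow])⟩
  rcases hg with e | e
  · exact e ▸ h3
  · simpa [e] using h.Pk_neg ht.sq h2 h3

theorem Bs.nm_zero (h : Bs ρ) {t s v : G} (ht : Rg t) (hs : s * s = 1) (ha : s * t = -(t * s))
    (vt : v * t = t * v) (vs : v * s = s * v) {p : ℕ} (h1 : v ≠ 1) (hp : v ^ p = 1) :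
    nm p (ρ v) = 0 := by
  have c : ∀ {x}, Commute x (ρ v) → Commute x (nm p (ρ v)) := fun hx =>
    Commute.sum_right _ _ _ fun j _ => hx.pow_right j
  refine ((h.rf ht).dom (map_sq ρ hs) (h.map_anti ha) (x := 1 - ρ v) (by
    rw [mul_sub, sub_mul, map_comm ρ vs]; simp) (c (map_comm ρ vt.symm)).symm (c (map_comm ρ vs.symm))
    (by rw [sub_mul, one_mul, mul_nm (by rw [← map_pow, hp, map_one]), sub_self])).resolve_left
    fun e => h1 (h.inj (by rw [map_one, sub_eq_zero.1 e]))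

/-- I1 -/
theorem Bs.Pk_two [Finite G] (h : Bs ρ) {t s g : G} (ht : Rg t) (ha : s * t = -(t * s))
    (hg : Pm (g * t * g⁻¹) s) {P : Subgroup G} (hP : ∀ k, k ∈ P ↔ k ∈ Pk ρ t s) : IsPGroup 2 P := by
  refine isPGroup_of_forall_coprime fun x hx hc => by_contra fun x1 => ?_
  obtain ⟨p, hp, hd⟩ := Nat.exists_prime_and_dvd (mt orderOf_eq_one_iff.1 x1)
  have := Fact.mk hp
  have p2 : p ≠ 2 := fun e => by simpa [← e, hp.coprime_iff_not_dvd, hd] using hc.symm
  have ok := orderOf_pow_orderOf_div (orderOf_pos x).ne' hd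
  have hk := pow_mem hx (orderOf x / p)
  generalize x ^ (orderOf x / p) = k at ok hk
  have hs := (ht.conj g).pm hg.symm
  obtain ⟨P', hP', -, nP'⟩ := h.exists_Pk hs.sq t
  obtain ⟨k', h1, h2⟩ := h.Pk_swap ht ha hg ((hP k).1 hk)
  have mL : ∀ {x}, x ∈ centralizer {t} ⊓ centralizer {s} ↔ x * t = t * x ∧ x * s = s * x := by
    simp [mem_centralizer_singleton_iff]
  have kp : k ^ p = 1 := ok ▸ pow_orderOf_eq_one k
  have kL := mL.2 ⟨((hP k).1 hk).1, ((hP k).1 hk).2.1⟩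
  obtain ⟨S, hS, kS⟩ := exists_isSyl_ge (isPGroup_zpowers ⟨1, by rwa [pow_one]⟩) (zpowers_le.2 kL)
  obtain ⟨c, cL, hc⟩ := hS.exists_cj_le (isPGroup_zpowers ⟨1, by rw [pow_one, h2, kp]⟩)
    (zpowers_le.2 (mL.2 ⟨h1.2.1, h1.1⟩))
  have lS := hc (conj_mem_cj c (mem_zpowers k'))
  have l1 := (hP' _).1 (conj_mem_of_mem_normalizer (nP' c (mL.1 cL).2 (mL.1 cL).1) ((hP' _).2 h1))
  have lp : (c * k' * c⁻¹) ^ p = 1 := by simp [conj_pow, h2, kp]
  have l0 : c * k' * c⁻¹ ≠ 1 := fun e => hp.one_lt.ne (by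
    rw [← ok, eq_comm, orderOf_eq_one_iff, ← pow_one k, ← h2]; simpa using e)
  generalize c * k' * c⁻¹ = l at lS l1 lp l0
  have l2 := (hP l).1 (zpowers_le.2 hk (mem_of_free ρ one_ne_zero ok lp
    (comm_odd p2 h.inj hS.pgrp (kS (mem_zpowers k)) lS) fun v hv v1 vp => by
      have := mL.1 ((closure_le _).2 (Set.pair_subset kL (hS.le lS)) hv)
      rw [h.nm_zero ht hs.sq ha this.1 this.2 v1 vp, zero_mul]))
  obtain ⟨lt, ls, a, e1⟩ := l2
  obtain ⟨-, -, b, e2⟩ := l1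
  have lp' : ρ l ^ p = 1 := by rw [← map_pow, lp, map_one]
  obtain ⟨w, h3, h4⟩ := int_pair (map_sq ρ ht.sq) (map_sq ρ hs.sq) (map_comm ρ lt) (map_comm ρ ls)
    (map_comm ρ lt) (map_comm ρ ls) rfl (orderOf_pos (a * b))
    (by rw [← e1, ← e2, ← map_mul, ← map_pow, pow_orderOf_eq_one, map_one]) hp.pos
    (by rw [(Commute.refl _).mul_pow, lp', one_mul])
  rw [h.map_anti ha, add_neg_cancel, mul_zero, add_zero] at h4
  refine not_half (n := 2) (hp.odd_of_ne_two p2) lp' (h.nm_zero ht hs.sq ha lt ls l0 lp) one_pos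
    (one_pow 1) (by simp) h3 (sub_eq_zero.1 (two_cancel ?_))
  rw [mul_sub, ← mul_assoc, show (2 * 2 : R) = 4 by norm_num, h4, one_mul, pow_two, sub_self]

/-- I1 + I2 -/
theorem Bs.Pk_four [Finite G] (h : Bs ρ) {t s g k : G} (ht : Rg t) (ha : s * t = -(t * s))
    (hg : Pm (g * t * g⁻¹) s) (hk : k ∈ Pk ρ t s) : k ^ 4 = 1 := by
  have hs := (ht.conj g).pm hg.symm
  have ha' : t * s = -(s * t) := by rw [ha, neg_neg]
  obtain ⟨P, hP, -, -⟩ := h.exists_Pk ht.sq s
  obtain ⟨P', hP', zP', nP'⟩ := h.exists_Pk hs.sq t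
  have core : ∀ k ∈ P, k ^ 8 = 1 → k ^ 4 = 1 := fun k hk k8 => by_contra fun k4 => by
    obtain ⟨kt, ks, a, e1⟩ := (hP k).1 hk
    have k4' : k ^ 4 = -1 := (h.dom ht ha (Commute.pow_left kt 4) (Commute.pow_left ks 4) (y := 1)
      (by simp) (by simp) (by simp) (by rw [← pow_add, k8, one_mul])).resolve_left k4
    obtain ⟨k', h1, h2⟩ := h.Pk_swap ht ha hg ((hP k).1 hk)
    obtain ⟨q, h3, h4, h5, h6⟩ := exists_cenZ (isPGroup_zpowers ⟨3, k8⟩)
      (h.Pk_two hs ha' (g := g⁻¹) (by simpa [mul_assoc] using hg.symm.conj g⁻¹) hP')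
      (zpowers_le.2 (nP' k ks kt)) fun hle => k4 ((h2 4).1 (by
        rw [show k' ^ 4 = k' * k' * (k' * k') by simp only [pow_succ, pow_zero, one_mul, mul_assoc],
          Pm.sq (hle ((hP' _).2 h1))]; simp))
    obtain ⟨qs, qt, -⟩ := (hP' q).1 h3
    have q2 : q * q = -1 := h5.resolve_left fun e =>
      h4 (h.dom ht ha qt qs (by simp) (by simp) (by simp) (by simpa using e))
    have h7 : k * k * q = q * (k * k) := by
      rcases h6 k (mem_sup_left (mem_zpowers k)) with e | e <;> simp [← mul_assoc, e] <;>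
        simp [mul_assoc, e]
    have kk : k * k * (k * k) = -1 := by
      rw [← k4']; simp only [pow_succ, pow_zero, one_mul, mul_assoc]
    obtain ⟨k2s, k2t, b, e2⟩ := (hP' _).1 ((h.dom ht ha (Commute.mul_left kt kt)
      (Commute.mul_left ks ks) qt qs h7 (kk.trans q2.symm)).mem zP' h3)
    obtain ⟨w, h8, h9⟩ := int_pair (map_sq ρ ht.sq) (map_sq ρ hs.sq) (map_comm ρ kt) (map_comm ρ ks)
      (map_comm ρ k2t) (map_comm ρ k2s) (map_comm ρ (mul_assoc _ _ _).symm) (orderOf_pos (a * b))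
      (by rw [← e1, ← e2, ← map_mul, ← map_pow, pow_orderOf_eq_one, map_one])
      (orderOf_pos (k * (k * k)))
      (by rw [← map_mul, ← map_pow, pow_orderOf_eq_one, map_one])
    rw [h.map_anti ha, add_neg_cancel, mul_zero, add_zero, map_mul] at h9
    have x4 := congrArg ρ kk
    simp only [map_mul, h.neg1, mul_assoc] at x4
    have ix : IsIntegral ℤ (ρ k) := zi_pow (n := 8) (by norm_num) (by rw [← map_pow, k8, map_one])
    generalize ρ k = x at h9 x4 ix
    have t2 : ∀ {a b : R}, 2 * a = 2 * b → a = b := fun e =>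
      sub_eq_zero.1 (two_cancel (by rw [mul_sub, e, sub_self]))
    have f : ∀ a b : R, 2 * (2 * (a * b)) = 2 * a * (2 * b) := fun a b => by noncomm_ring
    have w1 : 2 * w = (1 + x) * (1 + x * x) := t2 (by rw [← h9]; noncomm_ring)
    have c1 : Commute x w := t2 (by
      rw [← mul_assoc 2 w, show 2 * (x * w) = x * (2 * w) by noncomm_ring, w1]; noncomm_ring)
    have w2 : 2 * (w * w - x ^ 3) = x * x - 1 := t2 (by
      rw [mul_sub, mul_sub, f, w1]
      simp only [two_mul]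
      simp only [mul_add, add_mul, mul_one, one_mul, mul_assoc, x4, pow_succ, pow_zero, mul_neg]
      abel)
    have c2 : Commute x (w * w - x ^ 3) := (c1.mul_right c1).sub_right ((Commute.refl x).pow_right 3)
    have i1 : IsIntegral ℤ (w * w - x ^ 3) := by
      rw [sub_eq_add_neg, ← pow_two]
      exact (zi_pair (h8.pow 2) (ix.pow 3).neg (c1.symm.pow_pow 2 3).neg_right).1
    refine zi_half (zi_pair (i1.pow 2) (ix.pow 2) (c2.symm.pow_pow 2 2)).2 0 (t2 ?_)
    rw [pow_two, ← mul_assoc 2 (_ * _), ← mul_assoc 2 (2 * _), f, w2]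
    simp only [mul_sub, sub_mul, mul_one, one_mul, mul_assoc, x4, pow_two, two_mul]
    simp
    abel
  obtain ⟨j, hj⟩ := isPGroup_iff.1 (h.Pk_two ht ha hg hP) k ((hP k).2 hk)
  replace hk := (hP k).2 hk
  induction j generalizing k with
  | zero => simp [show k = 1 by simpa using hj]
  | succ j ih => exact core k hk (by
      rw [show 8 = 2 * 4 from rfl, pow_mul]
      exact ih (by rw [← pow_mul, ← pow_succ', hj]) (pow_mem hk 2))

/-- two reflections with a common `k` of order four -/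
theorem Bs.half [Finite G] (h : Bs ρ) {s r t t' k : G} (hs : s * s = 1) (hr : r * r = 1)
    (h1 : k ∈ Pk ρ s t) (h2 : k ∈ Pk ρ r t') (hk : k * k = -1) :
    ∃ w, IsIntegral ℤ w ∧ 2 * w = ρ (s * r) + ρ (r * s) := by
  obtain ⟨ks, -, a, ha⟩ := h1
  obtain ⟨kr, -, b, hb⟩ := h2
  have kk : ρ k * ρ k = -1 := by rw [← map_mul, hk, h.neg1]
  obtain ⟨w, h3, h4⟩ := int_pair (map_sq ρ hs) (map_sq ρ hr) (map_comm ρ ks) (map_comm ρ kr)
    (map_comm ρ ks) (map_comm ρ kr) rfl (orderOf_pos (a * b))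
    (by rw [← ha, ← hb, ← map_mul, ← map_pow, pow_orderOf_eq_one, map_one]) two_pos
    (by simp [kk])
  have e1 : (1 + ρ k) * (1 + ρ k) = 2 * ρ k := by
    rw [add_mul, mul_add, mul_add, kk]; noncomm_ring
  have e2 : (1 - ρ k) * (1 - ρ k) = -(2 * ρ k) := by
    rw [sub_mul, mul_sub, mul_sub, kk]; noncomm_ring
  rw [e1, e2, ← map_mul, ← map_mul] at h4
  have c1 : Commute (ρ k) (ρ (s * r) + ρ (r * s)) := Commute.add_right
    (map_comm ρ (Commute.mul_right ks kr)) (map_comm ρ (Commute.mul_right kr ks))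
  generalize ρ (s * r) + ρ (r * s) = c at h4 c1
  have h5 : 2 * w = 2 * ρ k - ρ k * c := sub_eq_zero.1 (two_cancel (by
    rw [mul_sub, ← mul_assoc, show (2 * 2 : R) = 4 by norm_num, h4]; noncomm_ring))
  have c2 : ρ k * w = w * ρ k := sub_eq_zero.1 (two_cancel (by
    rw [mul_sub, ← mul_assoc 2 w, show 2 * (ρ k * w) = ρ k * (2 * w) by noncomm_ring, h5, sub_mul,
      mul_assoc _ c, ← c1.eq]; noncomm_ring))
  have ik : IsIntegral ℤ (ρ k) := zi_pow (n := 4) (by norm_num) (by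
    rw [show ρ k ^ 4 = ρ k * ρ k * (ρ k * ρ k) by noncomm_ring, kk]; simp)
  refine ⟨1 + ρ k * w, (zi_pair isIntegral_one (zi_pair ik h3 c2).2 (by simp)).1, ?_⟩
  rw [mul_add, show 2 * (ρ k * w) = ρ k * (2 * w) by noncomm_ring, h5, mul_sub, ← mul_assoc _ _ c,
    show ρ k * (2 * ρ k) = 2 * (ρ k * ρ k) by noncomm_ring, kk]
  noncomm_ring

end Cfsg.Agent.GD2
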