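import Cfsg.Agent.GD2.F5

/-! S3259, a subgroup `X ≅ SL₂(5)` determined by any `v ∈ C(X)` with `v ≠ ±1 = v²`: local lemmas. -/

set_option autoImplicit false
set_option linter.unusedSectionVars false

namespace Cfsg.Agent.GD2

open Subgroup Cfsg.Agent.PLocal.Amb

variable {R : Type*} [Ring R] [Algebra ℚ R] [Nontrivial R] [Rk2 R]
variable {G : Type*} [Group G] [HasDistribNeg G] [Finite G] {ρ : G →* R}

/-- the hypotheses on `X` -/
structure N2H (ρ : G →* R) (X : Subgroup G) : Prop extends Bs ρ where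
  x5 : X5 X
  uq : ∀ g v, ¬ Pm v 1 → Pm (v * v) 1 → v ∈ 𝐂[X] → v ∈ 𝐂[cj(g, X)] → cj(g, X) = X
  ex : ∃ u ∈ 𝐂[X], ¬ Pm u 1 ∧ Pm (u * u) 1

theorem n2_lc {a b : G} (h : a * b = b * a) (x : G) : a * (b * x) = b * (a * x) := by
  rw [← mul_assoc, h, mul_assoc]

theorem n2_la {a b : G} (h : a * b = -(b * a)) (x : G) : a * (b * x) = -(b * (a * x)) := by
  rw [← mul_assoc, h, neg_mul, mul_assoc]

theorem n2_s1 {a : G} (h : a * a = 1) (x : G) : a * (a * x) = x := by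
  rw [← mul_assoc, h, one_mul]

theorem n2_sn {a : G} (h : a * a = -1) (x : G) : a * (a * x) = -x := by
  rw [← mul_assoc, h, neg_one_mul]

theorem n2_anti {a b : G} (h : a * b = -(b * a)) : b * a = -(a * b) := by rw [h, neg_neg]

theorem n2_memC {X : Subgroup G} {g v : G} : v ∈ 𝐂[cj(g, X)] ↔ g⁻¹ * v * g ∈ 𝐂[X] := by
  rw [centralizer_cj, mem_cj]

theorem n2_negC (X : Subgroup G) : -1 ∈ 𝐂[X] := mem_centralizer_iff.2 fun _ _ => by simp

theorem n2_cm {X : Subgroup G} {c x : G} (hc : c ∈ 𝐂[X]) (hx : x ∈ X) : c * x = x * c :=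
  (mem_centralizer_iff.1 hc x hx).symm

theorem n2_pm1 {g v : G} : Pm (g * v * g⁻¹) 1 ↔ Pm v 1 :=
  ⟨fun e => by simpa [mul_assoc] using e.conj g⁻¹, fun e => by simpa using e.conj g⟩

theorem n2_zp {u : G} (h : Pm (u * u) 1) : IsPGroup 2 (zpowers u) := isPGroup_iff.2 fun x hx => by
  obtain ⟨n, rfl⟩ := hx
  refine ⟨2, ?_⟩
  have : u ^ 2 ^ 2 = 1 := by
    rw [show u ^ 2 ^ 2 = u * u * (u * u) by rw [← pow_two, ← pow_two, ← pow_mul]; rfl, h.sq, one_mul]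
  simp only
  rw [← zpow_natCast, ← zpow_mul, mul_comm, zpow_mul, zpow_natCast, this, one_zpow]

theorem N2H.cj {X : Subgroup G} (h : N2H ρ X) (g : G) : N2H ρ cj(g, X) := by
  refine ⟨h.toBs, h.x5.cj g, fun g' v h1 h2 h3 h4 => ?_, ?_⟩
  · have := h.uq (g⁻¹ * g' * g) (g⁻¹ * v * g⁻¹⁻¹) (mt n2_pm1.1 h1) (by
      rw [conj_mul]; exact n2_pm1.2 h2) (by rw [inv_inv]; exact n2_memC.1 h3) (by
      rw [← cj_mul, n2_memC] at h4
      rw [n2_memC]; simpa [mul_assoc] using h4)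
    rw [← cj_mul, show g' * g = g * (g⁻¹ * g' * g) by group, cj_mul, this]
  · obtain ⟨u, hu, h1, h2⟩ := h.ex
    exact ⟨g * u * g⁻¹, n2_memC.2 (by simpa [mul_assoc] using hu), mt n2_pm1.1 h1, by
      rw [conj_mul]; exact n2_pm1.2 h2⟩

theorem N2H.norm {X : Subgroup G} (h : N2H ρ X) {v a : G} (hv : v ∈ 𝐂[X]) (h1 : ¬ Pm v 1)
    (h2 : Pm (v * v) 1) (ha : Pm (a * v) (v * a)) : a ∈ 𝐍[X] := by
  refine cj_eq_iff.1 (h.uq a v h1 h2 hv (n2_memC.2 (Pm.mem (n2_negC X) ?_ hv)))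
  simpa [mul_assoc] using ((Pm.rfl (a := a⁻¹)).mul ha).symm

theorem Bs.cent_two (h : Bs ρ) {i j r c : G} (hq : Qu i j) (hr : Rg r) (ri : r * i = i * r)
    (rj : r * j = j * r) (ci : c * i = i * c) (cj : c * j = j * c) (cr : c * r = r * c) {k : ℕ}
    (hk : c ^ 2 ^ k = 1) : Pm c 1 ∨ Pm c r := by
  induction k generalizing c with
  | zero => left; left; simpa using hk
  | succ k ih =>
    obtain ⟨a, b⟩ := h.sq_ne hq hr ri rj ci cj cr
    have := ih (c := c * c) (by rw [mul_assoc, ci, n2_lc ci])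
      (by rw [mul_assoc, cj, n2_lc cj]) (by rw [mul_assoc, cr, n2_lc cr])
      (by rw [← pow_two, ← pow_mul, ← pow_succ', hk])
    exact h.cases hr (((this.resolve_right b).resolve_right (by simpa using a))) cr

theorem N2H.uniq {X U : Subgroup G} (h : N2H ρ X) (hU : IsPGroup 2 U) (hC : U ≤ 𝐂[X]) {u u' : G}
    (hu : u ∈ U) (hu' : u' ∈ U) (h1 : u * u = -1) (h2 : u' * u' = -1) : Pm u u' := by
  obtain ⟨Q, hQ⟩ := exists_isSyl 2 X
  obtain ⟨i, j, hq, rfl⟩ := h.x5.syl h.toBs hQ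
  have ki : ∀ c ∈ U, c * i = i * c := fun c hc => n2_cm (hC hc) (hQ.le hq.i_mem)
  have kj : ∀ c ∈ U, c * j = j * c := fun c hc => n2_cm (hC hc) (hQ.le hq.j_mem)
  obtain ⟨c, hc, c1, c2, c3⟩ := exists_cenZ hU hU le_normalizer fun hle => h.ne_one h1 (hle hu)
  have ci := ki c hc
  have cj' := kj c hc
  rcases c2 with c2 | c2
  · have hr : Rg c := ⟨c2, c1⟩
    have k : ∀ u ∈ U, u * u = -1 → c * u = -(u * c) := fun u hu h1 =>
      (c3 u (mem_sup_left hu)).resolve_left fun e =>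
        (h.sq_ne hq hr ci cj' (ki u hu) (kj u hu) e.symm).1 h1
    obtain ⟨n, hn⟩ := isPGroup_iff.1 hU _ (mul_mem hu hu')
    rcases h.cent_two hq hr ci cj' (ki _ (mul_mem hu hu')) (kj _ (mul_mem hu hu'))
      (by simp [mul_assoc, k u' hu' h2, n2_la (k u hu h1)]) hn with e | e
    · have := (Pm.rfl (a := u)).mul e
      rw [n2_sn h1, mul_one] at this
      exact this.symm.trans (Pm.neg _)
    · have := ((Pm.rfl (a := u)).mul e).sq
      rw [n2_sn h1, neg_mul_neg, h2, mul_assoc, n2_la (k u hu h1), c2, mul_one, mul_neg, h1,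
        neg_neg] at this
      exact absurd this.symm (h.ne_neg 1)
  · have k : ∀ u ∈ U, u * u = -1 → Pm u c := fun u hu h1 => by
      have ui := ki u hu
      have r1 := h.rg_mul hq h1 ui (kj u hu)
      rcases c3 u (mem_sup_left hu) with e | e
      · have := (h.pm (h.rg_mul hq c2 ci cj') r1 (by
          simp [mul_assoc, n2_lc ci.symm, n2_lc ui.symm, n2_lc e])).mul (Pm.rfl (a := i⁻¹))
        simpa using this
      · have := h.pm (h.rg_mul hq.symm c2 cj' ci) r1 (by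
          simp [mul_assoc, n2_lc ci.symm, n2_lc (kj u hu).symm, n2_la e, hq.ji])
        refine (h.not_both (this.symm.comm (c := i) (by simp [mul_assoc, n2_lc ui.symm])) ?_).elim
        simp [mul_assoc, n2_lc ci.symm, hq.ji]
    exact (k u hu h1).trans (k u' hu' h2).symm

theorem N2H.setup {X T : Subgroup G} (h : N2H ρ X) (hT : IsSyl 2 T 𝐍[X]) :
    ∃ (i j : G) (hq : Qu i j), Q8 hq = T ⊓ X ∧ ∀ x ∈ T, Pm (x * i) (i * x) := by
  obtain ⟨i, j, hq, e⟩ := h.x5.syl h.toBs (hT.inf_of_le le_normalizer le_rfl)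
  obtain ⟨a, b, h', e', h2⟩ := h.fix_one hq hT.pgrp (e ▸ le_normalizer_inf le_normalizer hT.le)
  exact ⟨a, b, h', e'.trans e.symm, h2⟩

/-- Lemma ρ. -/
theorem N2H.rho {X : Subgroup G} (h : N2H ρ X) {w a : G} (hw : w ∈ 𝐂[X]) (w2 : w * w = -1)
    (ha : a ∈ 𝐍[X]) (hr : Rg a) (aw : a * w = -(w * a)) : a ∈ 𝐂[X] := by
  obtain ⟨T, hT, hle⟩ := exists_isSyl_ge (n2_zp (Or.inl hr.sq)) (zpowers_le.2 ha)
  obtain ⟨i, j, hq, e, h2⟩ := h.setup hT
  have hi : i ∈ X := (e ▸ hq.i_mem : i ∈ T ⊓ X).2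
  have hj : j ∈ X := (e ▸ hq.j_mem : j ∈ T ⊓ X).2
  have key : ∀ {i j : G}, Qu i j → i ∈ X → j ∈ X → Pm (a * i) (i * a) → a * i = i * a :=
    fun {i j} hq hi hj e => e.resolve_right fun e => by
      have wi := n2_cm hw hi
      have := h.pm (h.rg_mul hq w2 wi (n2_cm hw hj)) hr (by simp [mul_assoc, n2_la aw, e])
      exact h.not_both (this.comm (c := w) (by rw [mul_assoc, wi])).symm aw
  have aT := hle (mem_zpowers a)
  have ai := key hq hi hj (h2 a aT)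
  exact h.x5.fix h.toBs hq hi hj ha ai (key hq.symm hj hi (h.conj_j' hq
    (e ▸ le_normalizer_inf le_normalizer hT.le aT) ai (by simp [hr.sq])))

theorem N2H.dec {X T : Subgroup G} (h : N2H ρ X) (hT : T ≤ 𝐍[X]) {i j : G} (hq : Qu i j)
    (hQ : Q8 hq ≤ T ⊓ X) {a : G} (ha : a ∈ T) (hi : Pm (a * i) (i * a)) (hj : Pm (a * j) (j * a)) :
    ∃ q ∈ Q8 hq, ∃ c ∈ T ⊓ 𝐂[X], a = q * c := by
  obtain ⟨q, h1, c, e, ci, cj'⟩ := hq.inner hi hj
  have hc : c ∈ T := by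
    rw [e] at ha; exact (T.mul_mem_cancel_left (hQ h1).1).1 ha
  exact ⟨q, h1, c, ⟨hc, h.x5.fix h.toBs hq (hQ hq.i_mem).2 (hQ hq.j_mem).2 (hT hc) ci cj'⟩, e⟩

/-- an element of square `-1` in `T ∩ C(X)` is central in `T` up to sign -/
theorem N2H.cen {X T : Subgroup G} (h : N2H ρ X) (hT : IsSyl 2 T 𝐍[X]) {u t : G}
    (hu : u ∈ T ⊓ 𝐂[X]) (u2 : u * u = -1) (ht : t ∈ T) : Pm (t * u) (u * t) := by
  have := h.uniq (hT.pgrp.to_inf_left (K := 𝐂[X])) inf_le_right (u := t * u * t⁻¹)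
    ⟨T.mul_mem (T.mul_mem ht hu.1) (T.inv_mem ht),
      conj_mem_of_mem_normalizer (normalizer_le_normalizer_centralizer X (hT.le ht)) hu.2⟩ hu
    (by rw [conj_mul, u2]; simp) u2
  simpa using this.mul (Pm.rfl (a := t))

theorem n2_into {X T : Subgroup G} (hT : IsSyl 2 T 𝐍[X]) {u : G} (hu : u ∈ 𝐂[X])
    (u2 : Pm (u * u) 1) : ∃ g, g * u * g⁻¹ ∈ T ⊓ 𝐂[X] := by
  obtain ⟨g, -, hg⟩ := (hT.inf_of_le (centralizer_le_normalizer' X)
    (normalizer_le_normalizer_centralizer X)).exists_cj_le (n2_zp u2) (zpowers_le.2 hu)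
  exact ⟨g, hg (conj_mem_cj g (mem_zpowers u))⟩

theorem N2H.pb {X X' T : Subgroup G} (h : N2H ρ X) (h' : N2H ρ X') (hT : IsSyl 2 T 𝐍[X])
    (hT' : IsSyl 2 T 𝐍[X']) (no : ∀ v, ¬ Pm v 1 → Pm (v * v) 1 → v ∈ 𝐂[X] → v ∈ 𝐂[X'] → False)
    {u u' : G} (hu : u ∈ T ⊓ 𝐂[X]) (hu' : u' ∈ T ⊓ 𝐂[X']) (u2 : u * u = -1)
    (u2' : u' * u' = -1) : u' ∈ X := by
  obtain ⟨i, j, hq, e, -⟩ := h.setup hT
  obtain ⟨q, h1, c, hc, rfl⟩ := h.dec hT.le hq e.le hu'.1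
    (h'.cen hT' hu' u2' (e.le hq.i_mem).1).symm (h'.cen hT' hu' u2' (e.le hq.j_mem).1).symm
  have q1 : ¬ Pm q 1 := fun e1 => no _ (h.ne_one u2') (Or.inr u2')
    (Pm.mem (n2_negC X) (by simpa using e1.mul (Pm.rfl (a := c))) hc.2) hu'.2
  obtain ⟨b, hb, hqb⟩ := hq.partner h1 q1
  have qX := (e.le h1).2
  have bX := (e.le hb).2
  have cq := n2_cm hc.2 qX
  have uq := n2_cm hu.2 qX
  have c2 : c * c = 1 := by
    simpa [mul_assoc, n2_lc cq, hqb.ii'] using u2'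
  by_contra hn
  have hr : Rg c := ⟨c2, fun e1 => hn (Pm.mem h.x5.neg
    (by simpa using (Pm.rfl (a := q)).mul e1) qX)⟩
  have cu : c * u = -(u * c) := (h.cen hT hu u2 hc.1).resolve_left fun e1 =>
    (h.sq_ne hqb hr cq (n2_cm hc.2 bX) uq (n2_cm hu.2 bX) e1.symm).1 u2
  have := h'.rho hu'.2 u2' (hT'.le (mul_mem hu.1 (e.le h1).1))
    (h.rg_mul hqb u2 uq (n2_cm hu.2 bX))
    (by simp [mul_assoc, hqb.ii', n2_la cu, cq, n2_lc uq.symm])
  refine no (c * u) (fun e1 => h.not_both (e1.comm (c := c) (by simp)) ?_) (Or.inl ?_)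
    (mul_mem hc.2 hu.2) (Pm.mem (n2_negC X') (Or.inr ?_) (mul_mem hu'.2 this))
  · rw [mul_assoc, ← mul_neg, ← cu]
  · simp [mul_assoc, n2_la (n2_anti cu), c2, u2]
  · simp [mul_assoc, uq, n2_lc cq, hqb.ii']

/-- Pair lemma. -/
theorem N2H.pair {X T : Subgroup G} (h : N2H ρ X) (hT : IsSyl 2 T 𝐍[X]) {g : G}
    (hg : T ≤ 𝐍[cj(g, X)]) : cj(g, X) = X := by
  by_contra hne
  have h' := h.cj g
  have hT' : IsSyl 2 T 𝐍[cj(g, X)] :=
    (normalizer_cj g X ▸ hT.cj g : IsSyl 2 cj(g, T) 𝐍[cj(g, X)]).of_card_ge hT.pgrp hg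
      (card_cj g T).le
  have no : ∀ v, ¬ Pm v 1 → Pm (v * v) 1 → v ∈ 𝐂[X] → v ∈ 𝐂[cj(g, X)] → False :=
    fun v a b c d => hne (h.uq g v a b c d)
  by_cases hA : ∃ u ∈ 𝐂[X], u * u = -1
  · obtain ⟨w, hw, w2⟩ := hA
    obtain ⟨x, hu⟩ := n2_into hT hw (Or.inr w2)
    have u2 : x * w * x⁻¹ * (x * w * x⁻¹) = -1 := by rw [conj_mul, w2]; simp
    obtain ⟨y, hi⟩ := n2_into hT' (u := g * w * g⁻¹) (n2_memC.2 (by simpa [mul_assoc] using hw))
      (Or.inr (by rw [conj_mul, w2]; simp))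
    have i2 : y * (g * w * g⁻¹) * y⁻¹ * (y * (g * w * g⁻¹) * y⁻¹) = -1 := by
      rw [conj_mul, conj_mul, w2]; simp
    generalize x * w * x⁻¹ = u at *
    generalize y * (g * w * g⁻¹) * y⁻¹ = i at *
    generalize cj(g, X) = X' at *
    have iX := h.pb h' hT hT' no hu hi u2 i2
    have uX := h'.pb h hT' hT (fun v a b c d => no v a b d c) hi hu i2 u2
    obtain ⟨i0, j0, hq0, e0, -⟩ := h.setup hT
    obtain ⟨i1, j1, hq1, e1, -⟩ := h'.setup hT'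
    obtain ⟨j, hj, hq⟩ := hq0.partner (e0.ge ⟨hi.1, iX⟩) (h.ne_one i2)
    obtain ⟨k, hk, hq'⟩ := hq1.partner (e1.ge ⟨hu.1, uX⟩) (h.ne_one u2)
    have e := (h.Q8_eq hq0 hq (e0.ge ⟨hi.1, iX⟩) hj).trans e0
    have kT := e1.le hk
    have nC : k ∉ 𝐂[X] := fun hc => h.not_both ((h.uniq (hT.pgrp.to_inf_left (K := 𝐂[X]))
      inf_le_right ⟨kT.1, hc⟩ hu hq'.jj u2).comm rfl) hq'.ij
    have ik := n2_cm hi.2 kT.2
    have iu := n2_cm hi.2 uX
    obtain ⟨q, h1, c, hc, e2⟩ := h.dec hT.le hq e.le kT.1 (Or.inl ik.symm) (h.conj_j' hq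
      (e ▸ le_normalizer_inf le_normalizer hT.le kT.1) ik.symm (by simp [hq'.jj]))
    have ci := n2_cm hc.2 iX
    rcases h.comm_i hq h1 (mul_right_cancel (b := c) (by
      rw [mul_assoc, ← ci, ← mul_assoc, ← e2, ← ik, e2, mul_assoc])) with e3 | e3
    · exact nC (Pm.mem (n2_negC X) (by rw [e2]; simpa using e3.mul (Pm.rfl (a := c))) hc.2)
    have rC : i * k ∈ 𝐂[X] := Pm.mem (n2_negC X) (by
      have := (Pm.rfl (a := i)).mul (e3.mul (Pm.rfl (a := c)))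
      rw [← e2, hq.ii'] at this
      exact this.trans (Pm.neg _)) hc.2
    have hr : Rg (i * k) := h.rg_mul hq'.symm i2 ik iu
    obtain ⟨θ, hθ, t1, t2⟩ := h'.x5.theta h.toBs hq' uX kT.2
    have t3 : θ * (i * k) * θ⁻¹ = u * (i * k) := by
      rw [← n2_lc (n2_cm hi.2 hθ), mul_assoc, t2, n2_lc iu]
    have := cj_eq_iff.1 (h.uq θ _ (hr.conj θ).ne (Or.inl (hr.conj θ).sq)
      (t3 ▸ mul_mem hu.2 rC) (n2_memC.2 (by simpa [mul_assoc] using rC)))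
    exact nC (t1 ▸ conj_mem_of_mem_normalizer (normalizer_le_normalizer_centralizer X this) hu.2)
  · push Not at hA
    obtain ⟨w, hw, w1, w2⟩ := h'.ex
    obtain ⟨x, hx⟩ := n2_into hT' hw w2
    obtain ⟨r, hr, r1, r2, r3⟩ := exists_cenZ hT.pgrp (hT.pgrp.to_inf_left (K := 𝐂[cj(g, X)]))
      (le_normalizer_inf le_normalizer (le_normalizer_centralizer hg))
      fun hle => w1 (n2_pm1.1 (hle hx))
    have r4 : r * r = 1 := r2.resolve_right fun e => hA _ (n2_memC.1 hr.2) (by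
      simp [mul_assoc, n2_sn e])
    obtain ⟨i, j, hq, e, -⟩ := h.setup hT
    obtain ⟨q, h1, c, hc, rfl⟩ := h.dec hT.le hq e.le hr.1
      (r3 _ (mem_sup_left (e.le hq.i_mem).1)) (r3 _ (mem_sup_left (e.le hq.j_mem).1))
    rcases hq.sq h1 with e1 | e1
    · exact no _ r1 r2 (Pm.mem (n2_negC X) (by simpa using e1.mul (Pm.rfl (a := c))) hc.2) hr.2
    · refine hA c hc.2 ?_
      rw [mul_assoc, n2_lc (n2_cm hc.2 (e.le h1).2), n2_sn e1, neg_eq_iff_eq_neg] at r4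
      exact r4

end Cfsg.Agent.GD2
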