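import Cfsg.Agent.GD2.NR1

/-! S3259, irreducible groups without reflections, part 2: Fermat primes. -/

set_option autoImplicit false
set_option linter.unusedSectionVars false

namespace Cfsg.Agent.GD2

open Subgroup Matrix

variable {R : Type*} [Ring R] [Algebra ℚ R] [Nontrivial R] [Rk2 R]

section SL

variable {F : Type*} [Field F]

/-- a matrix of determinant one -/
def nrM (a b c d : F) (h : a * d - b * c = 1) : Matrix.SpecialLinearGroup (Fin 2) F :=
  ⟨!![a, b; c, d], by simpa [det_fin_two] using h⟩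

theorem nrM_coe (a b c d : F) (h : a * d - b * c = 1) :
    (nrM a b c d h : Matrix (Fin 2) (Fin 2) F) = !![a, b; c, d] := rfl

theorem nr_det (g : Matrix.SpecialLinearGroup (Fin 2) F) : g 0 0 * g 1 1 - g 0 1 * g 1 0 = 1 := by
  have := g.det_coe
  rwa [det_fin_two] at this

theorem nr_mul (g h : Matrix.SpecialLinearGroup (Fin 2) F) (i j : Fin 2) :
    (g * h) i j = g i 0 * h 0 j + g i 1 * h 1 j := by
  simp [Matrix.mul_apply, Fin.sum_univ_two]

/-- the Borel subgroup -/
def nrB (F : Type*) [Field F] : Subgroup (Matrix.SpecialLinearGroup (Fin 2) F) where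
  carrier := {g | g 1 0 = 0}
  one_mem' := by simp
  mul_mem' := fun {a b} ha hb => by
    change (a * b) 1 0 = 0
    rw [nr_mul, show a 1 0 = 0 from ha, show b 1 0 = 0 from hb]; simp
  inv_mem' := fun {a} ha => by
    change (a⁻¹) 1 0 = 0
    simpa [Matrix.SpecialLinearGroup.coe_inv, adjugate_fin_two] using ha

theorem mem_nrB {g : Matrix.SpecialLinearGroup (Fin 2) F} : g ∈ nrB F ↔ g 1 0 = 0 := Iff.rfl

/-- coset representatives -/
def nrX : Option F → Matrix.SpecialLinearGroup (Fin 2) F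
  | none => nrM 0 (-1) 1 0 (by simp)
  | some t => nrM 1 0 t 1 (by simp)

/-- the unipotent elements -/
def nrC : Option F × F → Matrix.SpecialLinearGroup (Fin 2) F
  | (none, b) => nrM 1 0 (-b) 1 (by simp)
  | (some t, b) => nrM (1 - b * t) b (-(b * t ^ 2)) (1 + b * t) (by ring)

theorem nrC_eq (o : Option F) (b : F) :
    nrC (o, b) = nrX o * nrU (Multiplicative.ofAdd b) * (nrX o)⁻¹ := by
  rw [eq_mul_inv_iff_mul_eq]
  refine Matrix.SpecialLinearGroup.ext _ _ fun i j => ?_
  rw [Matrix.SpecialLinearGroup.coe_mul, Matrix.SpecialLinearGroup.coe_mul, nrU_coe]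
  cases o <;> fin_cases i <;> fin_cases j <;> simp [nrC, nrX, nrM_coe] <;> ring

theorem nrB_index [Fintype F] : (nrB F).index ≤ Fintype.card F + 1 := by
  rw [← Fintype.card_option, ← Nat.card_eq_fintype_card]
  refine Nat.card_le_card_of_surjective (fun o => (nrX o : _ ⧸ nrB F)) fun q => ?_
  obtain ⟨g, rfl⟩ := QuotientGroup.mk_surjective q
  by_cases h : g 0 0 = 0
  · refine ⟨none, QuotientGroup.eq.2 ?_⟩
    rw [mem_nrB, nr_mul]
    simp [nrX, nrM_coe, Matrix.SpecialLinearGroup.coe_inv, adjugate_fin_two, h]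
  · refine ⟨some (g 1 0 / g 0 0), QuotientGroup.eq.2 ?_⟩
    rw [mem_nrB, nr_mul]
    simp [nrX, nrM_coe, Matrix.SpecialLinearGroup.coe_inv, adjugate_fin_two, h]

theorem nrB_pow {g : Matrix.SpecialLinearGroup (Fin 2) F} (hg : g ∈ nrB F) (n : ℕ) :
    (g ^ n) 0 0 = g 0 0 ^ n := by
  induction n with
  | zero => simp
  | succ n ih => rw [pow_succ, nr_mul, ih, mem_nrB.1 hg, pow_succ]; simp

theorem nrB_neg {g : Matrix.SpecialLinearGroup (Fin 2) F} (hg : g ∈ nrB F) {k : ℕ}
    (hk : g 0 0 ^ 2 ^ k = 1) (h2 : g 0 0 ^ 2 ≠ 1) :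
    ∃ j, ((g ^ 2 ^ (j + 1) : Matrix.SpecialLinearGroup (Fin 2) F) :
      Matrix (Fin 2) (Fin 2) F) = -1 := by
  obtain ⟨j, -, hj⟩ := (Nat.dvd_prime_pow Nat.prime_two).1 (orderOf_dvd_of_pow_eq_one hk)
  obtain ⟨j, rfl⟩ : ∃ i, j = i + 2 := by
    refine ⟨j - 2, ?_⟩
    by_contra h
    refine h2 (orderOf_dvd_iff_pow_eq_one.1 ?_)
    rw [hj]
    exact (pow_dvd_pow 2 (by omega : j ≤ 1)).trans (by simp)
  refine ⟨j, ?_⟩
  have s1 : g 0 0 ^ 2 ^ (j + 1) = -1 := by
    refine (mul_self_eq_one_iff.1 ?_).resolve_left (pow_ne_one_of_lt_orderOf (by positivity) ?_)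
    · rw [← pow_two, ← pow_mul, ← pow_succ, ← hj, pow_orderOf_eq_one]
    · rw [hj]; exact Nat.pow_lt_pow_right (by norm_num) (by omega)
  have m0 := (nrB_pow hg (2 ^ (j + 1))).trans s1
  have m1 := mem_nrB.1 (pow_mem hg (2 ^ (j + 1)))
  have m2 := nr_det (g ^ 2 ^ (j + 1))
  have m3 := congrArg (fun x : Matrix.SpecialLinearGroup (Fin 2) F => x 0 1)
    (Commute.pow_self g (2 ^ (j + 1))).eq
  have m4 := nr_det g
  simp only [nr_mul] at m3
  rw [mem_nrB.1 hg] at m4
  generalize g ^ 2 ^ (j + 1) = M at *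
  have m5 : M 1 1 = -1 := by rw [m0, m1] at m2; linear_combination -m2
  have m6 : M 0 1 = 0 := by
    rw [m0, m5] at m3
    refine (mul_eq_zero.1 (show M 0 1 * (g 0 0 ^ 2 - 1) = 0 by
      linear_combination -g 0 0 * m3 + M 0 1 * m4)).resolve_right (sub_ne_zero.2 h2)
  ext i j; fin_cases i <;> fin_cases j <;> simp [m0, m1, m5, m6]

theorem nr_three {g : Matrix.SpecialLinearGroup (Fin 2) F} (h : g 0 0 + g 1 1 = -1) :
    g ^ 3 = 1 := by
  have d := nr_det g
  refine Matrix.SpecialLinearGroup.ext _ _ fun i j => ?_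
  rw [pow_succ, pow_two, nr_mul, nr_mul, nr_mul]
  obtain e : g 1 1 = -1 - g 0 0 := by linear_combination h
  rw [e] at d
  fin_cases i <;> fin_cases j <;> simp [e]
  · linear_combination (1 - g 0 0) * d
  · linear_combination (-g 0 1) * d
  · linear_combination (-g 1 0) * d
  · linear_combination (2 + g 0 0) * d

end SL

theorem nr17 : (!![0, -1; 1, 7] : Matrix (Fin 2) (Fin 2) (ZMod 17)) ^ 9 = 1 ∧
    ((!![0, -1; 1, 7] : Matrix (Fin 2) (Fin 2) (ZMod 17)) ^ 3) 0 0 +
      ((!![0, -1; 1, 7] : Matrix (Fin 2) (Fin 2) (ZMod 17)) ^ 3) 1 1 = -1 ∧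
    ∀ i ∈ ({1, 2, 4, 5, 7, 8} : Finset ℕ),
      ((!![0, -1; 1, 7] : Matrix (Fin 2) (Fin 2) (ZMod 17)) ^ i) 0 0 +
      ((!![0, -1; 1, 7] : Matrix (Fin 2) (Fin 2) (ZMod 17)) ^ i) 1 1 ∉
        ({2, -2, 1, -1} : Finset (ZMod 17)) := by
  decide +kernel

/-- `SL₂(p)`, `p = 2^k + 1 > 5` prime, has no faithful irreducible rank two representation. -/
theorem fermat {p k : ℕ} [Fact p.Prime] (hp : p = 2 ^ k + 1) (h5 : 5 < p)
    {ρ : SpecialLinearGroup (Fin 2) (ZMod p) →* R} (hρ : Function.Injective ρ) (hn : ¬ Red ρ)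
    (hz : ∀ g : SpecialLinearGroup (Fin 2) (ZMod p),
      (g : Matrix (Fin 2) (Fin 2) (ZMod p)) = -1 → ρ g = -1) : False := by
  classical
  obtain ⟨T, hT⟩ := exists_TQ hρ hn
  let f : Matrix.SpecialLinearGroup (Fin 2) (ZMod p) → ℚ := fun g => T (ρ g) ^ 2
  let tr : Matrix.SpecialLinearGroup (Fin 2) (ZMod p) → ZMod p := fun g => g 0 0 + g 1 1
  let u : ZMod p → Matrix.SpecialLinearGroup (Fin 2) (ZMod p) := fun b =>
    nrU (Multiplicative.ofAdd b)
  let Φ : ZMod p → ℚ := fun t => ∑ g with tr g = t, f g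
  have f0 : ∀ g, 0 ≤ f g := fun g => sq_nonneg _
  have f1 : f 1 = 1 := by simp [f, hT.one]
  have fneg : ∀ g, f (-g) = f g := fun g => by
    simp only [f]
    rw [← neg_one_mul g, map_mul, hz (-1) (by simp), neg_one_mul, map_neg, neg_sq]
  have Φ0 : ∀ t, 0 ≤ Φ t := fun t => Finset.sum_nonneg fun g _ => f0 g
  have Φneg : ∀ t, Φ (-t) = Φ t := fun t =>
    Finset.sum_equiv (Equiv.neg _) (fun g => by
      simp only [tr, Finset.mem_filter, Finset.mem_univ, true_and, Equiv.neg_apply,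
        Matrix.SpecialLinearGroup.coe_neg, Matrix.neg_apply, ← neg_add]
      exact neg_eq_iff_eq_neg.symm) fun g _ => (fneg g).symm
  have nz : ∀ n : ℕ, 0 < n → n ≤ 5 → (n : ZMod p) ≠ 0 := fun n h0 h1 h =>
    absurd (Nat.le_of_dvd h0 ((ZMod.natCast_eq_zero_iff n p).1 h)) (by omega)
  have n2 : (2 : ZMod p) ≠ 0 := by exact_mod_cast nz 2 (by norm_num) (by norm_num)
  have n3 : (3 : ZMod p) ≠ 0 := by exact_mod_cast nz 3 (by norm_num) (by norm_num)
  have n4 : (4 : ZMod p) ≠ 0 := by exact_mod_cast nz 4 (by norm_num) (by norm_num)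
  set S : ℚ := ∑ b ∈ Finset.univ.erase (0 : ZMod p), f (u b) with hS
  have S0 : 0 ≤ S := Finset.sum_nonneg fun g _ => f0 _
  have hSu : ∑ b, f (u b) = 1 + S := by
    rw [← Finset.add_sum_erase _ _ (Finset.mem_univ 0), show u 0 = 1 from map_one nrU, f1]
  -- the sum over the Borel subgroup
  have hB : ∑ b : nrB (ZMod p), f b ≤ 2 * (1 + S) := by
    rw [← Finset.sum_subtype (Finset.univ.filter (· ∈ nrB (ZMod p))) (by simp) f,
      ← Finset.sum_filter_ne_zero]
    refine (Finset.sum_le_sum_of_subset_of_nonneg (t := Finset.univ.image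
      (Sum.elim u fun b => -u b)) (fun g hg => ?_) fun g _ _ => f0 g).trans
      ((Finset.sum_image_le_of_nonneg fun g _ => f0 g).trans ?_)
    · simp only [Finset.mem_filter, Finset.mem_univ, true_and] at hg
      have d := nr_det g
      rw [mem_nrB.1 hg.1, mul_zero, sub_zero] at d
      have h2 : g 0 0 ^ 2 = 1 := by
        by_contra h2
        obtain ⟨j, hj⟩ := nrB_neg hg.1 (k := k) (by
          rw [show 2 ^ k = p - 1 by omega]
          exact ZMod.pow_card_sub_one_eq_one (left_ne_zero_of_mul_eq_one d)) h2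
        refine hg.2 ?_
        simp only [f]
        rw [hT.two _ (mem_Sp ρ g) j (by rw [← map_pow]; exact hz _ hj)]; simp
      rcases sq_eq_one_iff.1 h2 with h | h
      · refine Finset.mem_image.2 ⟨Sum.inl (g 0 1), Finset.mem_univ _,
          Matrix.SpecialLinearGroup.ext _ _ fun i j => ?_⟩
        rw [h, one_mul] at d
        fin_cases i <;> fin_cases j <;> simp [u, nrU_coe, h, d, mem_nrB.1 hg.1]
      · refine Finset.mem_image.2 ⟨Sum.inr (-g 0 1), Finset.mem_univ _,
          Matrix.SpecialLinearGroup.ext _ _ fun i j => ?_⟩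
        rw [h, neg_one_mul, neg_eq_iff_eq_neg] at d
        fin_cases i <;> fin_cases j <;> simp [u, nrU_coe, h, d, mem_nrB.1 hg.1]
    · rw [Fintype.sum_sum_type]
      simp only [Sum.elim_inl, Sum.elim_inr, fneg, hSu]
      linarith
  -- the unipotent elements
  have hU : 1 + (p + 1) * S ≤ Φ 2 := by
    have h1 : (1 : Matrix.SpecialLinearGroup (Fin 2) (ZMod p)) ∈
        Finset.univ.filter fun g => tr g = 2 := by simp [tr]; norm_num
    simp only [Φ]
    rw [← Finset.add_sum_erase _ _ h1, f1, add_le_add_iff_left]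
    have h2 : ∑ q ∈ Finset.univ ×ˢ Finset.univ.erase (0 : ZMod p), f (nrC q) = (p + 1) * S := by
      rw [Finset.sum_product]
      simp only [nrC_eq, f, hT.conj]
      rw [Finset.sum_const, Finset.card_univ, Fintype.card_option, ZMod.card, nsmul_eq_mul]
      push_cast; rfl
    rw [← h2, ← Finset.sum_image (g := nrC)]
    · refine Finset.sum_le_sum_of_subset_of_nonneg (fun g hg => ?_) fun g _ _ => f0 g
      obtain ⟨⟨o, b⟩, hq, rfl⟩ := Finset.mem_image.1 hg
      have hb : b ≠ 0 := by simpa using hq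
      refine Finset.mem_erase.2 ⟨fun h => hb ?_, Finset.mem_filter.2 ⟨Finset.mem_univ _, ?_⟩⟩
      · rw [nrC_eq, mul_inv_eq_one, mul_eq_left] at h
        simpa using nrU_inj (h.trans (map_one _).symm)
      · cases o <;> simp [tr, nrC, nrM_coe] <;> norm_num
    · rintro ⟨o, b⟩ hq ⟨o', b'⟩ hq' h
      have hb : b ≠ 0 := by simpa using hq
      have hb' : b' ≠ 0 := by simpa using hq'
      have e00 := congrArg (fun g : Matrix.SpecialLinearGroup (Fin 2) (ZMod p) => g 0 0) h
      have e01 := congrArg (fun g : Matrix.SpecialLinearGroup (Fin 2) (ZMod p) => g 0 1) h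
      have e10 := congrArg (fun g : Matrix.SpecialLinearGroup (Fin 2) (ZMod p) => g 1 0) h
      cases o <;> cases o' <;> simp [nrC, nrM_coe] at e00 e01 e10
      · rw [e10]
      · exact absurd e01.symm hb'
      · exact absurd e01 hb
      · subst e01
        rw [mul_left_cancel₀ hb e00]
  have hG : ∑ g, f g ≤ (p + 1) * (2 * (1 + S)) := by
    have h1 := hT.ineq (nrB (ZMod p))
    have h2 : ((nrB (ZMod p)).index : ℚ) ≤ p + 1 := by
      have := nrB_index (F := ZMod p)
      rw [ZMod.card] at this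
      exact_mod_cast this
    rw [← (nrB (ZMod p)).index_mul_card, Nat.cast_mul, mul_inv, mul_comm _ _⁻¹, mul_assoc] at h1
    have b0 : (0 : ℚ) < Nat.card (nrB (ZMod p)) := Nat.cast_pos.2 Nat.card_pos
    have i0 : (0 : ℚ) < (nrB (ZMod p)).index := Nat.cast_pos.2 (Nat.pos_of_ne_zero
      index_ne_zero_of_finite)
    have h3 := (inv_mul_le_iff₀ i0).1 (le_of_mul_le_mul_left h1 (inv_pos.2 b0))
    exact h3.trans (mul_le_mul h2 hB (Finset.sum_nonneg fun g _ => f0 _) (by positivity))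
  have H1 : ∀ t, t ∉ ({2, -2, 1, -1} : Finset (ZMod p)) → 2 * Φ (-1) + Φ t ≤ 2 * p := fun t ht => by
    have h1 := Finset.sum_le_sum_of_subset_of_nonneg (Finset.subset_univ (insert t {2, -2, 1, -1}))
      fun t _ _ => Φ0 t
    rw [Finset.sum_fiberwise, Finset.sum_insert ht, Finset.sum_insert (by
        simp only [Finset.mem_insert, Finset.mem_singleton, not_or]
        exact ⟨fun h => n4 (by linear_combination h), fun h => one_ne_zero (by linear_combination h),
          fun h => n3 (by linear_combination h)⟩), Finset.sum_insert (by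
        simp only [Finset.mem_insert, Finset.mem_singleton, not_or]
        exact ⟨fun h => n3 (by linear_combination -h),
          fun h => one_ne_zero (by linear_combination -h)⟩),
      Finset.sum_pair fun h => n2 (by linear_combination h), Φneg 2, ← Φneg 1] at h1
    linarith
  -- elements of order three
  have h3 : ∀ g, tr g = -1 → T (ρ g) + T (ρ g⁻¹) = -1 ∨ T (ρ g) + T (ρ g⁻¹) = 1 / 2 := fun g hg => by
    have g3 := nr_three hg
    have := hT.half (en_mem (p := 3) ρ g) (en_idem (by norm_num) (by rw [← map_pow, g3, map_one]))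
      (nr_ne_one hρ g3 fun h => n3 (by
        rw [h] at hg
        simp only [tr, Matrix.SpecialLinearGroup.coe_one, one_apply_eq] at hg
        linear_combination hg))
    rw [show g⁻¹ = g ^ 2 from inv_eq_of_mul_eq_one_right (by rw [← pow_succ', g3]), map_pow]
    simp only [en, nm, Finset.sum_range_succ, Finset.range_zero, Finset.sum_empty, map_smul, map_add,
      map_zero, pow_zero, pow_one, hT.one, smul_eq_mul, Nat.cast_ofNat] at this
    rcases this with h | h
    · left; linarith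
    · right; linarith
  have hW : p * (p - 1 : ℚ) ≤ (Finset.univ.filter fun g => tr g = -1).card := by
    have := Finset.card_le_card_of_injOn (s := (Finset.univ : Finset (ZMod p × (ZMod p)ˣ)))
      (t := Finset.univ.filter fun g => tr g = -1)
      (fun q => nrM q.1 q.2 (-(q.1 ^ 2 + q.1 + 1) / q.2) (-1 - q.1) (by
        have := q.2.ne_zero
        field_simp; ring)) (fun q _ => by simp [tr, nrM_coe]) fun q _ q' _ h => by
      have e00 := congrArg (fun g : Matrix.SpecialLinearGroup (Fin 2) (ZMod p) => g 0 0) h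
      have e01 := congrArg (fun g : Matrix.SpecialLinearGroup (Fin 2) (ZMod p) => g 0 1) h
      simp [nrM_coe] at e00 e01
      exact Prod.ext e00 (Units.ext e01)
    rw [Finset.card_univ, Fintype.card_prod, ZMod.card, ZMod.card_units] at this
    have h2 : ((p * (p - 1) : ℕ) : ℚ) = p * (p - 1 : ℚ) := by
      rw [Nat.cast_mul, Nat.cast_sub (by omega)]; simp
    rw [← h2]; exact_mod_cast this
  have h8 : ∀ g, tr g = -1 → 0 ≤ f g + f g⁻¹ - 1 / 8 := fun g hg => by
    simp only [f]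
    rcases h3 g hg with h | h <;> nlinarith [sq_nonneg (T (ρ g) - T (ρ g⁻¹))]
  have H2 : ∀ h, tr h = -1 → p * (p - 1 : ℚ) / 8 + (f h + f h⁻¹ - 1 / 8) ≤ 2 * Φ (-1) :=
    fun h hh => by
    have h1 := Finset.single_le_sum (s := Finset.univ.filter fun g => tr g = -1)
      (f := fun g => f g + f g⁻¹ - 1 / 8) (fun g hg => h8 g (Finset.mem_filter.1 hg).2)
      (Finset.mem_filter.2 ⟨Finset.mem_univ h, hh⟩)
    have h2 : ∑ g with tr g = -1, f g⁻¹ = Φ (-1) :=
      Finset.sum_equiv (Equiv.inv _) (fun g => by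
        simp [tr, Matrix.SpecialLinearGroup.coe_inv, adjugate_fin_two, add_comm]) fun g _ => rfl
    rw [Finset.sum_sub_distrib, Finset.sum_add_distrib, h2, Finset.sum_const, nsmul_eq_mul] at h1
    simp only [Φ] at h1 ⊢
    linarith
  have H3 : ∀ g, f g ≤ Φ (tr g) := fun g => Finset.single_le_sum (f := f) (fun g _ => f0 g)
    (Finset.mem_filter.2 ⟨Finset.mem_univ _, rfl⟩)
  have a1 := H1 0 (by
    simp only [Finset.mem_insert, Finset.mem_singleton, not_or]
    exact ⟨n2.symm, (neg_ne_zero.2 n2).symm, zero_ne_one, (neg_ne_zero.2 one_ne_zero).symm⟩)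
  have h17 : p = 17 := by
    have a2 := H2 (nrM 0 (-1) 1 (-1) (by simp)) (by simp [tr, nrM_coe])
    have a3 := h8 (nrM 0 (-1) 1 (-1) (by simp)) (by simp [tr, nrM_coe])
    have a4 := Φ0 0
    have a5 : (5 : ℚ) < p := by exact_mod_cast h5
    have a6 : (p : ℚ) ≤ 17 := by nlinarith
    have a7 : p ≤ 17 := by exact_mod_cast a6
    have a8 : k ≤ 4 := by
      by_contra h
      have := Nat.pow_le_pow_right (by norm_num : 0 < 2) (by omega : 5 ≤ k)
      omega
    have a9 := (Fact.out : p.Prime)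
    interval_cases k <;> first | omega | (rw [hp] at a9; norm_num at a9)
  subst h17
  obtain ⟨g9, g3, gi⟩ := nr17
  let g : Matrix.SpecialLinearGroup (Fin 2) (ZMod 17) := nrM 0 (-1) 1 7 (by simp)
  have g9' : g ^ 9 = 1 := Subtype.ext g9
  have a2 := H2 (g ^ 3) g3
  have a3 := h3 (g ^ 3) g3
  have a4 := hT.half (en_mem (p := 9) ρ g) (en_idem (by norm_num) (by rw [← map_pow, g9', map_one]))
    (nr_ne_one hρ g9' fun h => by
      have := congrArg (fun g : Matrix.SpecialLinearGroup (Fin 2) (ZMod 17) => g 0 0) h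
      simp [g, nrM_coe] at this)
  have a5 : ∀ i ∈ ({1, 2, 4, 5, 7, 8} : Finset ℕ), T (ρ (g ^ i)) = 0 := fun i hi => by
    have b1 := H1 (tr (g ^ i)) (gi i hi)
    have b2 := H3 (g ^ i)
    have b3 := h8 (g ^ 3) g3
    refine pow_eq_zero_iff (two_ne_zero) |>.1 (le_antisymm ?_ (f0 _))
    change f _ ≤ 0
    push_cast at a2 b1
    linarith
  have a6 := Φ0 0
  rw [show (g ^ 3)⁻¹ = g ^ 6 from inv_eq_of_mul_eq_one_right (by rw [← pow_add, g9'])] at a2 a3
  simp only [en, nm, Finset.sum_range_succ, Finset.range_zero, Finset.sum_empty, map_smul, map_add,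
    map_zero, smul_eq_mul, Nat.cast_ofNat, ← map_pow, a5 1 (by simp), a5 2 (by simp),
    a5 4 (by simp), a5 5 (by simp), a5 7 (by simp), a5 8 (by simp), pow_zero, map_one,
    hT.one] at a4
  simp only [f] at a2
  push_cast at a2 a1
  rcases a3 with a3 | a3
  · nlinarith [sq_nonneg (T (ρ (g ^ 3)) - T (ρ (g ^ 6)))]
  · rcases a4 with a4 | a4 <;> linarith

end Cfsg.Agent.GD2
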