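import Cfsg.Agent.GD2.NR1
import Cfsg.Agent.GD2.NR2
import Cfsg.Agent.S3099
import Cfsg.Agent.S0205
import Cfsg.Agent.Class.FieldTransport

/-! S3259: irreducible perfect groups without reflections. -/

set_option autoImplicit false
set_option linter.unusedSectionVars false

namespace Cfsg.Agent.GD2

open Subgroup Matrix

variable {R : Type*} [Ring R] [Algebra ℚ R] [Nontrivial R] [Rk2 R]
variable {G : Type*} [Group G] [Finite G] {ρ : G →* R}

theorem Red.of_comp {G' : Type*} [Group G'] {f : G' →* G} (hf : Function.Surjective f)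
    (h : Red (ρ.comp f)) : Red ρ := by
  obtain ⟨e, h1, h2, h3⟩ := h
  refine ⟨e, Algebra.adjoin_mono ?_ h1, h2, fun g => ?_⟩
  · rintro _ ⟨g, rfl⟩; exact ⟨f g, rfl⟩
  · obtain ⟨g, rfl⟩ := hf g; exact h3 g

theorem red_of_rf {t : G} (ht : Rf (ρ t)) (hc : ∀ g, g * t = t * g) : Red ρ :=
  ⟨ep (ρ t), Subalgebra.smul_mem _ (add_mem (one_mem _) (mem_Sp ρ t)) _, ht.idm, fun g =>
    ep_comm (by rw [← map_mul, hc, map_mul])⟩

theorem even_of_perf [Nontrivial G] (hp : commutator G = ⊤) : Even (Nat.card G) := by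
  by_contra h
  have := S0205.result (Nat.not_even_iff_odd.1 h)
  exact (Group.IsSolvable.commutator_lt_top_of_nontrivial G).ne hp

theorem exists_neg [Nontrivial G] (hρ : Function.Injective ρ) (hp : commutator G = ⊤)
    (hn : ¬ Red ρ) : ∃ z, ρ z = -1 := by
  by_contra h
  push Not at h
  obtain ⟨t, ht⟩ := exists_prime_orderOf_dvd_card' 2 (even_of_perf hp).two_dvd
  have key : ∀ t : G, orderOf t = 2 → Rf (ρ t) := fun t ht =>
    ⟨by rw [← map_mul, ← pow_two, ← ht, pow_orderOf_eq_one, map_one],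
      fun e => by simp [hρ (e.trans (map_one ρ).symm)] at ht, h t⟩
  refine hn (red_of_rf (key t ht) fun g => ?_)
  have h1 := Inv.ZStar.commutator_mem_oddCore_of_isolated (u := t) ⟨ht, fun g hc => by
    rcases (key t ht).eq_or (key (g * t * g⁻¹) ((PLocal.Amb.orderOf_conj' g t).trans ht))
      (hc.map ρ).symm with e | e
    · exact hρ e
    · exact absurd (by rw [map_mul, e, neg_mul, (key t ht).sq]) (h (g * t * g⁻¹ * t))⟩ g
  rw [oddCore_bot hρ hp hn, mem_bot, mul_inv_eq_one, mul_inv_eq_iff_eq_mul] at h1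
  exact h1.symm

theorem nr [Nontrivial G] (hρ : Function.Injective ρ) (hp : commutator G = ⊤) (hn : ¬ Red ρ)
    (hr : ∀ t, ¬ Rf (ρ t)) : Nonempty (G ≃* S25) ∨ ∃ (F : Type) (_ : Field F) (_ : Fintype F),
      Fintype.card F = 9 ∧ Nonempty (G ≃* SpecialLinearGroup (Fin 2) F) := by
  have hO := oddCore_bot hρ hp hn
  have sq : ∀ g, g * g = 1 → ρ g = 1 ∨ ρ g = -1 := fun g hg => by
    by_contra h
    push Not at h
    exact hr g ⟨by rw [← map_mul, hg, map_one], h.1, h.2⟩
  let e0 : G ≃* G ⧸ oddCore G :=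
    QuotientGroup.quotientBot.symm.trans (QuotientGroup.quotientMulEquivOfEq hO.symm)
  have h1 : PRankLE 2 1 G := fun A _ hA => by
    classical
    refine (Nat.card_le_card_of_injective (fun a : A => decide (ρ a = 1)) fun a b h => ?_).trans
      (by simp)
    refine Subtype.ext (hρ ?_)
    simp only [decide_eq_decide] at h
    rcases sq a (by rw [← pow_two, hA a a.2]) with h1 | h1 <;>
      rcases sq b (by rw [← pow_two, hA b b.2]) with h2 | h2 <;> simp_all
  rcases S3099.result ⟨hp⟩ h1 (even_of_perf hp) with ⟨F, _, _, ho, h3, ⟨e⟩⟩ | h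
  · replace e := e0.trans e
    have hn' : ∀ {K : Type} [Group K] (e : G ≃* K), ¬ Red (ρ.comp e.symm.toMonoidHom) :=
      fun e h => hn (h.of_comp e.symm.surjective)
    rcases sl2_card (ρ := ρ.comp e.symm.toMonoidHom) (hρ.comp e.symm.injective) (hn' e) ho with
      h9 | ⟨hp, k, hk⟩
    · exact Or.inr ⟨F, _, _, h9, ⟨e⟩⟩
    by_cases h5 : Fintype.card F = 5
    · exact Or.inl ⟨e.trans (Class.slCongr _ (ZMod.ringEquivOfPrime F Nat.prime_five h5).symm)⟩
    have := Fact.mk hp
    let e' := e.trans (Class.slCongr _ (ZMod.ringEquivOfPrime F hp rfl).symm)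
    obtain ⟨m, hm⟩ := ho
    refine (fermat hk (by omega) (ρ := ρ.comp e'.symm.toMonoidHom) (hρ.comp e'.symm.injective)
      (hn' e') fun g hg => (sq (e'.symm g) ?_).resolve_left fun h1 => ?_).elim
    · rw [← map_mul, map_eq_one_iff _ e'.symm.injective]
      exact Subtype.ext (by simp [hg])
    · have h2 : g = 1 := (map_eq_one_iff _ e'.symm.injective).1 (hρ (h1.trans (map_one ρ).symm))
      have h4 : (1 : ZMod (Fintype.card F)) = -1 := by simpa [h2] using congrFun (congrFun hg 0) 0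
      have h6 : ((2 : ℕ) : ZMod (Fintype.card F)) = 0 := by
        rw [Nat.cast_two, ← one_add_one_eq_two]; nth_rw 1 [h4]; simp
      have := Nat.le_of_dvd two_pos ((ZMod.natCast_eq_zero_iff _ _).1 h6)
      omega
  · exact (not_2A7 (ρ := ρ.comp e0.symm.toMonoidHom) (hρ.comp e0.symm.injective)
      (fun h => hn (h.of_comp e0.symm.surjective)) h).elim

end Cfsg.Agent.GD2
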