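import Cfsg.Agent.GD2.N1aC

/-! S3259, five anticommuting reflections: the conjugate neighbours of `t 0`. -/

set_option autoImplicit false
set_option linter.unusedSectionVars false

namespace Cfsg.Agent.GD2

open Subgroup Cfsg.Agent.PLocal.Amb

variable {R : Type*} [Ring R] [Algebra ℚ R] [Nontrivial R] [Rk2 R]
variable {G : Type*} [Group G] [HasDistribNeg G] {ρ : G →* R}

theorem Bs.no4 (h : Bs ρ) {t : Fin 5 → G} (ht : ∀ a, Rg (t a))
    (ha : ∀ a b, a ≠ b → t a * t b = -(t b * t a)) [Finite G] {g r u₁ u₂ u₃ u₄ : G}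
    (hg : ∀ a, Pm (g * t a * g⁻¹) (t ((Equiv.swap 0 2 * Equiv.swap 0 1 : Equiv.Perm _) a))) (hr : r * r = 1)
    (h1 : Pm u₁ (t 1)) (h2 : Pm u₂ (t 2)) (h3 : Pm u₃ (t 3)) (h4 : Pm u₄ (t 4)) :
    2 * ρ r ≠ ρ u₁ + ρ u₂ + ρ u₃ + ρ u₄ := fun e => by
  have e' : 2 * ρ (g * r * g⁻¹) =
      ρ (g * u₁ * g⁻¹) + ρ (g * u₂ * g⁻¹) + ρ (g * u₃ * g⁻¹) + ρ (g * u₄ * g⁻¹) := by
    simp only [map_mul, ← add_mul, ← mul_add, ← e]
    simp only [two_mul, add_mul, mul_add]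
  have g1 : Pm (g * u₁ * g⁻¹) (t 2) := (h1.conj g).trans (hg 1)
  have g2 : Pm (g * u₂ * g⁻¹) (t 0) := (h2.conj g).trans (hg 2)
  have g3 : Pm (g * u₃ * g⁻¹) (t 3) := (h3.conj g).trans (hg 3)
  have g4 : Pm (g * u₄ * g⁻¹) (t 4) := (h4.conj g).trans (hg 4)
  have hr' : g * r * g⁻¹ * (g * r * g⁻¹) = 1 := by rw [conj_mul, hr]; simp
  generalize g * r * g⁻¹ = r', g * u₁ * g⁻¹ = w₁, g * u₂ * g⁻¹ = w₂, g * u₃ * g⁻¹ = w₃,
    g * u₄ * g⁻¹ = w₄ at *
  have z : ∀ {x y : G} {a b : Fin 5}, Pm x (t a) → Pm y (t b) → a ≠ b →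
      ρ x * ρ y + ρ y * ρ x = 0 := fun {x y a b} f f' n => by
    have : x * t b = -(t b * x) := by rw [f.anti (ha _ _ n.symm), neg_neg]
    rw [h.r_anti (f'.anti this), neg_add_cancel]
  have o : ∀ {x y : G} {a : Fin 5}, Pm x (t a) → Pm y (t a) → ∃ k : ℤ,
      ρ x * ρ y + ρ y * ρ x = 2 * (2 * k + 1) := fun {x y a} f f' => by
    have := (h.rf ((ht a).pm f')).sq
    rcases f.trans f'.symm with rfl | rfl
    · exact ⟨0, by simp [this, one_add_one_eq_two]⟩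
    · exact ⟨-1, by simp [h.neg, this]; norm_num⟩
  obtain ⟨k1, f1⟩ := o h2 g1
  obtain ⟨k2, f2⟩ := o h3 g3
  obtain ⟨k3, f3⟩ := o h4 g4
  have i1 : ∀ x : G, IsIntegral ℤ (ρ x) := fun x =>
    zi_pow (orderOf_pos x) (by rw [← map_pow, pow_orderOf_eq_one, map_one])
  refine zi_half (zi_pair (i1 (r * r')) (i1 (r' * r)) (by
    simp [← map_mul, mul_assoc, n1sq hr, n1sq hr', hr, hr'])).1 (k1 + k2 + k3 + 1)
    (sub_eq_zero.1 (two_cancel ?_))
  have : 2 * ρ r * (2 * ρ r') + 2 * ρ r' * (2 * ρ r) =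
      2 * (2 * k1 + 1) + 2 * (2 * k2 + 1) + 2 * (2 * k3 + 1) := by
    rw [e, e']
    simp only [mul_add, add_mul] at f1 f2 f3 ⊢
    linear_combination (norm := abel1) f1 + f2 + f3 + z h1 g1 (by decide) + z h1 g2 (by decide) +
      z h1 g3 (by decide) + z h1 g4 (by decide) + z h2 g2 (by decide) + z h2 g3 (by decide) +
      z h2 g4 (by decide) + z h3 g1 (by decide) + z h3 g2 (by decide) + z h3 g4 (by decide) +
      z h4 g1 (by decide) + z h4 g2 (by decide) + z h4 g3 (by decide)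
  rw [← sub_eq_zero.2 this]
  simp only [map_mul, two_mul, mul_add, add_mul, Int.cast_add, Int.cast_one]
  abel

/-- a conjugate of `± t 0` commuting with `t 0` up to sign is one of the `± t a` -/
theorem Bs.n1a [Finite G] (h : Bs ρ) {t : Fin 5 → G} (ht : ∀ a, Rg (t a))
    (ha : ∀ a b, a ≠ b → t a * t b = -(t b * t a))
    (hX : ∀ σ : Equiv.Perm (Fin 5), Equiv.Perm.sign σ = 1 → ∃ g, ∀ a, Pm (g * t a * g⁻¹) (t (σ a)))
    {g r : G} (hr : Pm (g * t 0 * g⁻¹) r) (hc : Pm (r * t 0) (t 0 * r)) : ∃ a, Pm r (t a) := by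
  rcases hc with hc | hc
  · exact ⟨0, h.pm (ht 0) (((ht 0).conj g).pm hr.symm) hc⟩
  obtain ⟨g0, hg⟩ := hX (Equiv.swap 0 2 * Equiv.swap 0 1) (by decide)
  have P : ∀ {e f c d : Fin 5}, [e, f, c, d].Nodup → t c * t d ∈ Pk ρ (t e) (t f) :=
    fun {e f c d} hd => by
      obtain ⟨x, h1, h2, h3⟩ : ∃ x, [f, x, c, d].Nodup ∧ [x, f, c, d].Nodup ∧ e ∉ [f, x, c, d] := by
        revert e f c d; decide
      have k := c4_of ht ha hd
      have k' := c4_of ht ha h1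
      have key : ∀ I : G, I * (t c * t d) = t e →
          (∃ g, 2 * ρ g = (1 + ρ I) * (1 + ρ (t c * t d))) →
            ∃ a, ρ a = ep (ρ (t e)) + ρ (t c * t d) * ep (-ρ (t e)) := fun I e1 ⟨g, e2⟩ =>
        ⟨g, sub_eq_zero.1 (two_cancel (by
          have e3 : t c * t d * t e = -I := by
            rw [← mul_left_inj (t c * t d), neg_mul, e1]; simp [mul_assoc, k.nf]
          rw [mul_sub, e2, mul_add 2, two_ep, ← mul_assoc, ← (Commute.ofNat_right _ 2).eq, mul_assoc,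
            two_ep, add_mul, mul_add, mul_add, mul_add, mul_neg, ← map_mul, ← map_mul, e1, e3, h.neg]
          simp only [one_mul, mul_one]
          abel))⟩
      refine ⟨by simp [mul_assoc, k.nf], by simp [mul_assoc, k.nf], ?_⟩
      rcases h.prod5 ht ha h1 h3 with p | p
      · exact key _ p (h.a8 ht ha hX h1)
      · exact key _ (by rw [k'.ba, neg_mul, p, neg_neg]) (h.a8 ht ha hX h2)
  have k := c4_of ht ha (a := 1) (b := 2) (c := 3) (d := 4) (by decide)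
  have hq : Qu (t 2 * t 3) (t 3 * t 4) :=
    ⟨by simp [mul_assoc, k.nf], by simp [mul_assoc, k.nf], by simp [mul_assoc, k.nf]⟩
  have st := ha 1 0 (by decide)
  have le : ∀ e f : Fin 5, [e, f, 2, 3].Nodup → [e, f, 3, 4].Nodup → ∀ q ∈ Q8 hq,
      q ∈ Pk ρ (t e) (t f) := fun e f h1 h2 q m => by
    obtain ⟨N, n1, -⟩ := h.exists_Pk (ht e).sq (t f)
    exact (n1 q).1 (hq.le ((n1 _).2 (P h1)) ((n1 _).2 (P h2)) m)
  have f3 : F3 ρ (t 0) (t 1) (t 2 * t 3) (t 3 * t 4) :=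
    ⟨⟨h, ht 0, (ht 1).sq, st, g0, hg 0⟩, hq, fun y => ⟨fun m => h.mem_Q8 hq fun q mq => by
      obtain ⟨N, n1, -⟩ := h.exists_Pk (ht 0).sq (t 1)
      have m' := (n1 _).1 (mul_mem ((n1 _).2 m) ((n1 _).2 (le 0 1 (by decide) (by decide) q mq)))
      have e := h.Pk_four (ht 0) st (hg 0) m'
      generalize y * q = z at *
      have c : ∀ {x : G}, z * x = x * z → z * z * x = x * (z * z) := fun e => Commute.mul_left e e
      exact (h.dom (ht 0) st (c m'.1) (c m'.2.1) (y := 1) (by simp) (by simp) (by simp)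
        (by simpa [pow_succ, mul_assoc] using e)).imp_left fun e =>
          h.dom (ht 0) st m'.1 m'.2.1 (by simp) (by simp) (by simp) (by simp [e]),
      le 0 1 (by decide) (by decide) y⟩, le 1 0 (by decide) (by decide)⟩
  have p2 : Pm (t 1 * (t 3 * t 4) * t 0) (t 2) := by
    simpa [mul_assoc] using h.prod5 ht ha (a := 1) (b := 3) (c := 4) (d := 0) (e := 2) (by decide)
      (by decide)
  have p3 : Pm (t 1 * (t 2 * t 3 * (t 3 * t 4)) * t 0) (t 3) := by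
    simpa [mul_assoc, k.nf] using h.prod5 ht ha (a := 1) (b := 2) (c := 4) (d := 0) (e := 3)
      (by decide) (by decide)
  have p4 : Pm (t 1 * (t 2 * t 3) * t 0) (t 4) := by
    simpa [mul_assoc] using h.prod5 ht ha (a := 1) (b := 2) (c := 3) (d := 0) (e := 4) (by decide)
      (by decide)
  rcases f3.main (fun r u v w hr h1 h2 h3 e => h.no4 ht ha hg hr (Pm.neg _) (h2.trans p2)
    (h3.trans p3) (h1.trans p4) (by rw [e]; abel)) ⟨g, hr⟩ hc with e | e | e | e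
  exacts [⟨1, e⟩, ⟨4, e.trans p4⟩, ⟨2, e.trans p2⟩, ⟨3, e.trans p3⟩]

end Cfsg.Agent.GD2
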