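import Cfsg.Agent.GD2.Int

/-! S3259, five anticommuting reflections: products and the elements `(1 + I)(1 + I') / 2`. -/

set_option autoImplicit false
set_option linter.unusedSectionVars false

namespace Cfsg.Agent.GD2

open Subgroup Cfsg.Agent.PLocal.Amb

variable {R : Type*} [Ring R] [Algebra ℚ R] [Nontrivial R] [Rk2 R]
variable {G : Type*} [Group G] [HasDistribNeg G] {ρ : G →* R}

theorem n1anti {M : Type*} [Monoid M] [HasDistribNeg M] {a b : M} (h : b * a = -(a * b)) (x : M) :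
    b * (a * x) = -(a * (b * x)) := by rw [← mul_assoc, h, neg_mul, mul_assoc]

theorem n1sq {M : Type*} [Monoid M] {a : M} (h : a * a = 1) (x : M) : a * (a * x) = x := by
  rw [← mul_assoc, h, one_mul]

/-- four anticommuting involutions -/
structure C4 {M : Type*} [Monoid M] [HasDistribNeg M] (a b c d : M) : Prop where
  aa : a * a = 1
  bb : b * b = 1
  cc : c * c = 1
  dd : d * d = 1
  ba : b * a = -(a * b)
  ca : c * a = -(a * c)
  da : d * a = -(a * d)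
  cb : c * b = -(b * c)
  db : d * b = -(b * d)
  dc : d * c = -(c * d)

/-- rewriting rules for the normal form of words in four anticommuting involutions -/
theorem C4.nf {M : Type*} [Monoid M] [HasDistribNeg M] {a b c d : M} (h : C4 a b c d) :
    (a * a = 1 ∧ b * b = 1 ∧ c * c = 1 ∧ d * d = 1 ∧ b * a = -(a * b) ∧ c * a = -(a * c) ∧
      d * a = -(a * d) ∧ c * b = -(b * c) ∧ d * b = -(b * d) ∧ d * c = -(c * d)) ∧
    ∀ x, a * (a * x) = x ∧ b * (b * x) = x ∧ c * (c * x) = x ∧ d * (d * x) = x ∧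
      b * (a * x) = -(a * (b * x)) ∧ c * (a * x) = -(a * (c * x)) ∧ d * (a * x) = -(a * (d * x)) ∧
      c * (b * x) = -(b * (c * x)) ∧ d * (b * x) = -(b * (d * x)) ∧ d * (c * x) = -(c * (d * x)) :=
  ⟨⟨h.aa, h.bb, h.cc, h.dd, h.ba, h.ca, h.da, h.cb, h.db, h.dc⟩, fun x => ⟨n1sq h.aa x, n1sq h.bb x,
    n1sq h.cc x, n1sq h.dd x, n1anti h.ba x, n1anti h.ca x, n1anti h.da x, n1anti h.cb x,
    n1anti h.db x, n1anti h.dc x⟩⟩

theorem bs_units : Bs (Units.coeHom R) := ⟨Units.val_injective, rfl⟩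

theorem Bs.u_neg (h : Bs ρ) (g : G) : ρ.toHomUnits (-g) = -ρ.toHomUnits g := Units.ext (h.neg g)

theorem Bs.u_inj (h : Bs ρ) {a b : G} (e : ρ.toHomUnits a = ρ.toHomUnits b) : a = b :=
  h.inj (congrArg Units.val e)

theorem Bs.u_pm (h : Bs ρ) {a b : G} : Pm (ρ.toHomUnits a) (ρ.toHomUnits b) ↔ Pm a b := by
  rw [h.pm_iff, bs_units.pm_iff]; rfl

theorem Bs.u_rg (h : Bs ρ) {t : G} (ht : Rg t) : Rg (ρ.toHomUnits t) :=
  ⟨by rw [← map_mul, ht.sq, map_one], fun e => ht.ne (h.u_pm.1 (by rwa [map_one]))⟩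

theorem Bs.u_anti (h : Bs ρ) {a b : G} (e : a * b = -(b * a)) :
    ρ.toHomUnits a * ρ.toHomUnits b = -(ρ.toHomUnits b * ρ.toHomUnits a) := by
  rw [← map_mul, e, h.u_neg, map_mul]

theorem Bs.u_qu (h : Bs ρ) {i j : G} (hq : Qu i j) : Qu (ρ.toHomUnits i) (ρ.toHomUnits j) :=
  ⟨by rw [← map_mul, hq.ii, h.u_neg, map_one], by rw [← map_mul, hq.jj, h.u_neg, map_one],
    h.u_anti hq.ij⟩

theorem Bs.r_anti (h : Bs ρ) {a b : G} (e : a * b = -(b * a)) : ρ a * ρ b = -(ρ b * ρ a) := by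
  rw [← map_mul, e, h.neg, map_mul]

theorem C4.map (hb : Bs ρ) {a b c d : G} (h : C4 a b c d) : C4 (ρ a) (ρ b) (ρ c) (ρ d) :=
  have k : ∀ {x : G}, x * x = 1 → ρ x * ρ x = 1 := fun e => by rw [← map_mul, e, map_one]
  ⟨k h.aa, k h.bb, k h.cc, k h.dd, hb.r_anti h.ba, hb.r_anti h.ca, hb.r_anti h.da, hb.r_anti h.cb,
    hb.r_anti h.db, hb.r_anti h.dc⟩

/-- a `2`-element centralising two anticommuting reflections and a quaternion group -/
theorem Bs.two_pow (h : Bs ρ) {t s i j : G} (ht : Rg t) (ha : s * t = -(t * s)) (hq : Qu i j)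
    (it : i * t = t * i) (is : i * s = s * i) (k : ℕ) : ∀ x : G, x * t = t * x → x * s = s * x →
      x * i = i * x → x * j = j * x → x ^ 2 ^ k = 1 → Pm x 1 := by
  induction k with
  | zero => exact fun x _ _ _ _ e => Or.inl (by simpa using e)
  | succ k ih =>
    intro x xt xs xi xj e
    have m : ∀ {y : G}, x * y = y * x → x * x * y = y * (x * x) := fun e => by
      rw [mul_assoc, e, ← mul_assoc, e, mul_assoc]
    rcases ih (x * x) (m xt) (m xs) (m xi) (m xj) (by rw [← sq, ← pow_mul, ← pow_succ', e]) with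
      e | e
    · exact h.dom ht ha xt xs (by simp) (by simp) (by simp) (by simp [e])
    · exact (h.not_both xj.symm ((h.dom ht ha xt xs it is xi (e.trans hq.ii.symm)).anti hq.ji)).elim

section Five

variable {t : Fin 5 → G} (ht : ∀ a, Rg (t a)) (ha : ∀ a b, a ≠ b → t a * t b = -(t b * t a))
include ht ha

theorem c4_of {a b c d : Fin 5} (hd : [a, b, c, d].Nodup) : C4 (t a) (t b) (t c) (t d) := by
  simp only [List.nodup_cons, List.mem_cons, not_or, List.not_mem_nil] at hd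
  obtain ⟨⟨h1, h2, h3, -⟩, ⟨h4, h5, -⟩, ⟨h6, -⟩, -⟩ := hd
  exact ⟨(ht a).sq, (ht b).sq, (ht c).sq, (ht d).sq, ha _ _ (Ne.symm h1), ha _ _ (Ne.symm h2),
    ha _ _ (Ne.symm h3), ha _ _ (Ne.symm h4), ha _ _ (Ne.symm h5), ha _ _ (Ne.symm h6)⟩

theorem Bs.prod5 (h : Bs ρ) {a b c d e : Fin 5} (hd : [a, b, c, d].Nodup) (he : e ∉ [a, b, c, d]) :
    Pm (t a * t b * (t c * t d)) (t e) := by
  have k := c4_of ht ha hd
  simp only [List.mem_cons, not_or, List.not_mem_nil] at he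
  obtain ⟨h1, h2, h3, h4, -⟩ := he
  refine (h.cases (ht e) (by simp [mul_assoc, k.nf]) ?_).resolve_left fun f =>
    h.not_both (f.comm (c := t a) (by simp)) (by simp [mul_assoc, k.nf])
  simp [mul_assoc, ha _ _ h4, n1anti (ha _ _ h1), n1anti (ha _ _ h2), n1anti (ha _ _ h3)]

end Five

theorem C4.half {a b c d : R} (k : C4 a b c d) : ∃ H : Rˣ, 2 * (H : R) = (1 + a * b) * (1 + c * d) ∧
    H ^ 4 = 1 ∧ H * a = -(b * H) ∧ H * b = a * H ∧ H * c = -(d * H) ∧ H * d = c * H ∧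
    ∀ y : R, y * a = a * y → y * b = b * y → y * c = c * y → y * d = d * y → y * H = H * y := by
  have q : ∀ x y z : R, x * y = z + z + z + z → (1 / 2 : ℚ) • x * (1 / 2 : ℚ) • y = z :=
    fun x y z e => by rw [smul_mul_smul_comm, e]; module
  have h1 := q ((1 + a * b) * (1 + c * d)) ((1 - a * b) * (1 - c * d)) 1 (by
    simp [mul_add, add_mul, mul_sub, sub_mul, mul_assoc, k.nf]; abel)
  have h2 := q ((1 - a * b) * (1 - c * d)) ((1 + a * b) * (1 + c * d)) 1 (by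
    simp [mul_add, add_mul, mul_sub, sub_mul, mul_assoc, k.nf]; abel)
  have h3 := q ((1 + a * b) * (1 + c * d)) ((1 + a * b) * (1 + c * d)) (a * b * (c * d)) (by
    simp [mul_add, add_mul, mul_assoc, k.nf]; abel)
  refine ⟨⟨_, _, h1, h2⟩, ?_, Units.ext ?_, ?_, ?_, ?_, ?_, fun y ya yb yc yd => ?_⟩
  · rw [two_mul, ← two_smul ℚ, smul_smul]; simp
  · rw [Units.val_pow_eq_pow_val, show (4 : ℕ) = 2 * 2 from rfl, pow_mul, sq, sq, h3]
    simp [mul_assoc, k.nf]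
  iterate 4
    simp only [smul_mul_assoc, mul_smul_comm, ← smul_neg]
    congr 1
    simp [mul_add, add_mul, mul_assoc, k.nf]
    abel
  · have m : ∀ {x z : R}, y * x = x * y → y * z = z * y → y * (1 + x * z) = (1 + x * z) * y :=
      fun e f => ((Commute.one_right y).add_right (Commute.mul_right e f)).eq
    simp only [smul_mul_assoc, mul_smul_comm]
    exact congrArg _ (Commute.mul_right (m ya yb) (m yc yd)).eq

theorem Bs.a8 [Finite G] (h : Bs ρ) {t : Fin 5 → G} (ht : ∀ a, Rg (t a))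
    (ha : ∀ a b, a ≠ b → t a * t b = -(t b * t a))
    (hX : ∀ σ : Equiv.Perm (Fin 5), Equiv.Perm.sign σ = 1 → ∃ g, ∀ a, Pm (g * t a * g⁻¹) (t (σ a)))
    {a b c d : Fin 5} (hd : [a, b, c, d].Nodup) :
    ∃ g, 2 * ρ g = (1 + ρ (t a * t b)) * (1 + ρ (t c * t d)) := by
  obtain ⟨e, he⟩ : ∃ e, e ∉ [a, b, c, d] := by
    revert a b c d; decide
  have k := c4_of ht ha hd
  have p := h.prod5 ht ha hd he
  obtain ⟨H, h0, h4, r1, r2, r3, r4, r5⟩ := (k.map h).half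
  simp only [List.nodup_cons, List.mem_cons, not_or, List.not_mem_nil, ← Ne.eq_def] at hd he
  obtain ⟨⟨h1, h2, h3, -⟩, ⟨h5, h6, -⟩, ⟨h7, -⟩, -⟩ := hd
  obtain ⟨e1, e2, e3, e4, -⟩ := he
  obtain ⟨g, hg⟩ := hX (Equiv.swap a b * Equiv.swap c d) (by simp [h1, h7])
  have g1 := hg a
  have g2 := hg b
  have g3 := hg c
  have g4 := hg d
  simp only [Equiv.Perm.mul_apply, Equiv.swap_apply_left, Equiv.swap_apply_right,
    Equiv.swap_apply_of_ne_of_ne h2 h3, Equiv.swap_apply_of_ne_of_ne h5 h6,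
    Equiv.swap_apply_of_ne_of_ne (Ne.symm h3) (Ne.symm h6),
    Equiv.swap_apply_of_ne_of_ne (Ne.symm h2) (Ne.symm h5)] at g1 g2 g3 g4
  have fl : ∀ (x : Fin 5) (y u : G), e ≠ x → Pm y u → Pm u (t x) → ∃ z : G, z * y * z⁻¹ = u ∧
      ∀ w : G, w * t e = -(t e * w) → w * t x = -(t x * w) → z * w * z⁻¹ = w := fun x y u ex f f' => by
    rcases f with rfl | rfl
    · exact ⟨1, by simp, by simp⟩
    · refine ⟨t e * t x, ?_, fun w w1 w2 => ?_⟩
      · rw [mul_inv_eq_iff_eq_mul]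
        rcases f' with rfl | rfl <;> simp [mul_assoc, n1anti (ha _ _ ex.symm)]
      · rw [mul_inv_eq_iff_eq_mul, n1anti w1, w2]; simp [mul_assoc]
  have an : ∀ {x y : Fin 5} {w : G}, x ≠ y → Pm w (t x) → w * t y = -(t y * w) := fun n f => by
    rw [f.anti (ha _ _ n.symm), neg_neg]
  obtain ⟨z1, a1, b1⟩ := fl b _ (-t b) e2 (g1.trans (Pm.neg _).symm) (Pm.neg _)
  obtain ⟨z2, a2, b2⟩ := fl a _ (t a) e1 g2 Pm.rfl
  obtain ⟨z3, a3, b3⟩ := fl d _ (-t d) e4 (g3.trans (Pm.neg _).symm) (Pm.neg _)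
  obtain ⟨z4, a4, b4⟩ := fl c _ (t c) e3 g4 Pm.rfl
  obtain ⟨g, q1, q2, q3, q4⟩ : ∃ g, g * t a * g⁻¹ = -t b ∧ g * t b * g⁻¹ = t a ∧
      g * t c * g⁻¹ = -t d ∧ g * t d * g⁻¹ = t c := by
    have cj : ∀ w, z1 * z2 * z3 * z4 * g * w * (z1 * z2 * z3 * z4 * g)⁻¹ =
        z1 * (z2 * (z3 * (z4 * (g * w * g⁻¹) * z4⁻¹) * z3⁻¹) * z2⁻¹) * z1⁻¹ := fun w => by group
    refine ⟨z1 * z2 * z3 * z4 * g, ?_, ?_, ?_, ?_⟩ <;> rw [cj]
    · rw [b4 _ (an e2.symm g1) (an h5 g1), b3 _ (an e2.symm g1) (an h6 g1),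
        b2 _ (an e2.symm g1) (an h1.symm g1), a1]
    · rw [b4 _ (an e1.symm g2) (an h2 g2), b3 _ (an e1.symm g2) (an h3 g2), a2,
        b1 _ (ha _ _ e1.symm) (ha _ _ h1)]
    · rw [b4 _ (an e4.symm g3) (an h7.symm g3), a3, b2 _ (an e4.symm (Pm.neg _)) (an h3.symm (Pm.neg _)),
        b1 _ (an e4.symm (Pm.neg _)) (an h6.symm (Pm.neg _))]
    · rw [a4, b3 _ (ha _ _ e3.symm) (ha _ _ h7), b2 _ (ha _ _ e3.symm) (ha _ _ h2.symm),
        b1 _ (ha _ _ e3.symm) (ha _ _ h5.symm)]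
  obtain ⟨C, hC⟩ : ∃ C, ρ.toHomUnits g = H * C := ⟨_, (mul_inv_cancel_left H _).symm⟩
  have cm : ∀ {x y : G}, g * x * g⁻¹ = y → H * ρ x = ρ y * H → Commute C (ρ.toHomUnits x) :=
    fun {x y} e f => by
      have f' : H * ρ.toHomUnits x = ρ.toHomUnits y * H := Units.ext f
      refine mul_left_cancel (a := H) ?_
      rw [← mul_assoc, ← mul_assoc, f', mul_assoc _ H, ← hC, ← map_mul, ← map_mul, ← e]; simp
  have c1 := cm q1 (by rw [r1, h.neg, neg_mul])
  have c2 := cm q2 r2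
  have c3 := cm q3 (by rw [r3, h.neg, neg_mul])
  have c4 := cm q4 r4
  have c5 : Commute C (ρ.toHomUnits (t e)) := (h.u_pm.2 p.symm).comm (by
    simp only [map_mul]; exact (c1.mul_right c2).mul_right (c3.mul_right c4))
  have cH : Commute H C := (Units.ext (r5 C (congrArg Units.val c1) (congrArg Units.val c2)
    (congrArg Units.val c3) (congrArg Units.val c4))).symm
  obtain ⟨u, m, hm, hn⟩ := Nat.exists_eq_two_pow_mul_odd (orderOf_pos g).ne'
  have hq : Qu (t c * t d) (t d * t e) :=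
    ⟨by simp [mul_assoc, k.nf], by simp [mul_assoc, n1anti (ha _ _ e4), (ht e).sq, k.nf], by
      simp [mul_assoc, n1anti (ha _ _ e3), ha _ _ e4, k.nf]⟩
  have := bs_units.two_pow (h.u_rg (ht a)) (h.u_anti k.ba) (h.u_qu hq)
    (by rw [← map_mul, ← map_mul]; simp [mul_assoc, k.nf])
    (by rw [← map_mul, ← map_mul]; simp [mul_assoc, k.nf]) (u + 2) (C ^ m) (c1.pow_left m)
    (c2.pow_left m) (by rw [map_mul]; exact (c3.mul_right c4).pow_left m)
    (by rw [map_mul]; exact (c4.mul_right c5).pow_left m) (by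
      have e : ρ.toHomUnits (g ^ (orderOf g * 4)) = 1 := by simp [pow_mul]
      rw [map_pow, hC, cH.mul_pow, mul_comm _ 4, pow_mul H, h4, one_pow, one_mul, hn] at e
      rw [← pow_mul, ← e]; congr 1; ring)
  have e : Pm (ρ.toHomUnits (g ^ (m * m))) H := by
    obtain ⟨n, rfl⟩ := hm
    rw [map_pow, hC, cH.mul_pow, pow_mul C, show (2 * n + 1) * (2 * n + 1) = 4 * (n * n + n) + 1 by
      ring, pow_succ H, pow_mul H, h4, one_pow, one_mul]
    rcases this with e | e <;> rw [e] <;> simp [Pm, pow_succ, pow_mul]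
  rw [map_mul, map_mul, ← h0]
  rcases e with e | e
  · exact ⟨_, congrArg (fun u : Rˣ => 2 * (u : R)) e⟩
  · exact ⟨-g ^ (m * m), congrArg (fun u : Rˣ => 2 * (u : R)) (by rw [h.u_neg, e, neg_neg] :
      ρ.toHomUnits (-g ^ (m * m)) = H)⟩

end Cfsg.Agent.GD2
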