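import Cfsg.Agent.GD2.N1aA

/-! S3259: diagonal coordinates with respect to two anticommuting reflections. -/

set_option autoImplicit false
set_option linter.unusedSectionVars false

namespace Cfsg.Agent.GD2

open Subgroup Cfsg.Agent.PLocal.Amb

variable {R : Type*} [Ring R] [Algebra ℚ R] [Nontrivial R] [Rk2 R]
variable {G : Type*} [Group G] [HasDistribNeg G] {ρ : G →* R} {t s i j x y r : G} {a b c d : Rˣ}

/-- the commutant of `t` and `s` -/
def Cz (ρ : G →* R) (t s : G) : Subring R := Subring.centralizer {ρ t, ρ s}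

theorem mem_Cz {z : R} : z ∈ Cz ρ t s ↔ ρ t * z = z * ρ t ∧ ρ s * z = z * ρ s := by
  simp [Cz, Subring.mem_centralizer_iff]

theorem Cz.inv (h : (a : R) ∈ Cz ρ t s) : ((a⁻¹ : Rˣ) : R) ∈ Cz ρ t s :=
  mem_Cz.2 ⟨Commute.units_inv_right (mem_Cz.1 h).1, Commute.units_inv_right (mem_Cz.1 h).2⟩

theorem Cz.ep (h : (a : R) ∈ Cz ρ t s) : ep (ρ t) * a = a * ep (ρ t) ∧
    ep (-ρ t) * a = a * ep (-ρ t) :=
  ⟨(ep_comm (mem_Cz.1 h).1.symm).symm, (ep_comm (by simp [(mem_Cz.1 h).1])).symm⟩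

theorem Cz.of (h1 : x * t = t * x) (h2 : x * s = s * x) : ρ x ∈ Cz ρ t s :=
  mem_Cz.2 ⟨by rw [← map_mul, ← h1, map_mul], by rw [← map_mul, ← h2, map_mul]⟩

/-- `x = diag (a, b)` -/
structure Dg (ρ : G →* R) (t s x : G) (a b : Rˣ) : Prop where
  eq : ρ x = a * ep (ρ t) + b * ep (-ρ t)
  ma : (a : R) ∈ Cz ρ t s
  mb : (b : R) ∈ Cz ρ t s

/-- two anticommuting conjugate reflections -/
structure F2 (ρ : G →* R) (t s : G) : Prop extends Bs ρ where
  rt : Rg t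
  ss : s * s = 1
  st : s * t = -(t * s)
  cj : ∃ g, Pm (g * t * g⁻¹) s

namespace F2

variable (h : F2 ρ t s)
include h

theorem tt : ρ t * ρ t = 1 := (h.rf h.rt).sq

theorem mul_aux (ha : (c : R) ∈ Cz ρ t s) (hb : (d : R) ∈ Cz ρ t s) (a b : R) :
    (a * ep (ρ t) + b * ep (-ρ t)) * (c * ep (ρ t) + d * ep (-ρ t)) =
      a * c * ep (ρ t) + b * d * ep (-ρ t) := by
  have e1 := ep_mul h.tt
  have e2 := ep_mul (x := -ρ t) (by simp [h.tt])
  have e3 := ep_orth h.tt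
  have e4 := ep_orth' h.tt
  have k : ∀ {e f : R} {u : Rˣ}, e * u = u * e → ∀ z, z * e * (u * f) = z * u * (e * f) :=
    fun e z => by rw [mul_assoc, ← mul_assoc _ _ _, ← mul_assoc _ (_ : R), mul_assoc z, e,
      ← mul_assoc, mul_assoc]
  rw [add_mul, mul_add, mul_add, k (Cz.ep ha).1, k (Cz.ep hb).1, k (Cz.ep ha).2, k (Cz.ep hb).2,
    e1, e2, e3, e4]
  simp

theorem mul (h1 : Dg ρ t s x a b) (h2 : Dg ρ t s y c d) : Dg ρ t s (x * y) (a * c) (b * d) :=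
  ⟨by rw [map_mul, h1.eq, h2.eq, h.mul_aux h2.ma h2.mb]; rfl, mul_mem h1.ma h2.ma,
    mul_mem h1.mb h2.mb⟩

omit h in
theorem cen (h1 : x * t = t * x) (h2 : x * s = s * x) :
    Dg ρ t s x (ρ.toHomUnits x) (ρ.toHomUnits x) :=
  ⟨by rw [← mul_add, ep_add, mul_one]; rfl, Cz.of h1 h2, Cz.of h1 h2⟩

omit h in
theorem diag (h1 : Dg ρ t s x a a) : ρ.toHomUnits x = a :=
  Units.ext (by rw [← mul_one (a : R), ← ep_add (ρ t), mul_add]; exact h1.eq)

theorem ext (h1 : Dg ρ t s x a b) (h2 : Dg ρ t s y a b) : x = y := h.inj (h1.eq.trans h2.eq.symm)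

theorem inv (h1 : Dg ρ t s x a b) : Dg ρ t s x⁻¹ a⁻¹ b⁻¹ := by
  refine ⟨?_, Cz.inv h1.ma, Cz.inv h1.mb⟩
  have := h.mul_aux (Cz.inv h1.ma) (Cz.inv h1.mb) a b
  rw [← h1.eq, Units.mul_inv, Units.mul_inv, one_mul, one_mul, ep_add] at this
  rw [← mul_one (ρ x⁻¹), ← this, ← mul_assoc, ← map_mul, inv_mul_cancel, map_one, one_mul]

theorem swap (h1 : Dg ρ t s x a b) : Dg ρ t s (s * x * s) b a := by
  refine ⟨?_, h1.mb, h1.ma⟩
  have e1 := ep_anti (h.r_anti h.st)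
  have e2 := ep_anti (x := -ρ t) (y := ρ s) (by simp [h.r_anti h.st])
  have e3 : ρ s * ρ s = 1 := by rw [← map_mul, h.ss, map_one]
  rw [map_mul, map_mul, h1.eq, mul_add, add_mul, ← mul_assoc, ← mul_assoc, (mem_Cz.1 h1.ma).2,
    (mem_Cz.1 h1.mb).2, mul_assoc _ (ρ s), mul_assoc _ (ρ s), e1, e2, neg_neg]
  simp only [mul_assoc, e3, mul_one, add_comm]

theorem pow (h1 : Dg ρ t s x a b) (n : ℕ) : Dg ρ t s (x ^ n) (a ^ n) (b ^ n) := by
  induction n with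
  | zero => simpa using cen (ρ := ρ) (x := 1) (t := t) (s := s) (by simp) (by simp)
  | succ n ih => simpa only [pow_succ] using h.mul ih h1

theorem self : Dg ρ t s t 1 (-1) :=
  ⟨by simp [← sub_eq_add_neg, ep_sub], one_mem _, neg_mem (one_mem _)⟩

theorem comm (h1 : Dg ρ t s x a b) (h2 : Dg ρ t s y c d) (e : a * c = c * a) (f : b * d = d * b) :
    x * y = y * x := h.ext (h.mul h1 h2) (e ▸ f ▸ h.mul h2 h1)

theorem comm_t (h1 : Dg ρ t s x a b) : x * t = t * x := h.comm h1 h.self (by simp) (by simp)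

theorem of_Pk {k : G} (hk : k ∈ Pk ρ t s) : ∃ y, Dg ρ t s y 1 (ρ.toHomUnits k) :=
  let ⟨h1, h2, y, e⟩ := hk; ⟨y, by simpa using e, one_mem _, Cz.of h1 h2⟩

theorem to_Pk (h1 : Dg ρ t s y 1 d) : ∃ k ∈ Pk ρ t s, ρ.toHomUnits k = d := by
  have h2 := h.mul h1 (h.swap h1)
  rw [one_mul, mul_one] at h2
  have h3 := diag h2
  have h4 : ρ (y * (s * y * s)) = d := congrArg Units.val h3
  refine ⟨_, ⟨h.comm_t h2, h.inj ?_, y, by rw [h4]; simpa using h1.eq⟩, h3⟩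
  rw [map_mul, map_mul ρ s, h4, (mem_Cz.1 h1.mb).2]

theorem exists_dg (hr : r * r = 1) (ha : r * t = -(t * r)) : ∃ a, Dg ρ t s (s * r) a a⁻¹ := by
  have m : ∀ {x y : G}, x * t = t * x → x * y = 1 → y * t = t * y → (ρ x * ep (ρ t) + ρ y * ep (-ρ t)) *
      (ρ y * ep (ρ t) + ρ x * ep (-ρ t)) = 1 := fun {x y} xt xy yt => by
    have k : ∀ {z : G}, z * t = t * z → ep (ρ t) * ρ z = ρ z * ep (ρ t) ∧
        ep (-ρ t) * ρ z = ρ z * ep (-ρ t) := fun e =>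
      ⟨(ep_comm (by rw [← map_mul, e, map_mul])).symm,
        (ep_comm (by rw [mul_neg, neg_mul, ← map_mul, e, map_mul])).symm⟩
    have yx := mul_eq_one_comm.1 xy
    have k' : ∀ {e f u : R}, e * u = u * e → ∀ z, z * e * (u * f) = z * u * (e * f) :=
      fun e z => by rw [mul_assoc, ← mul_assoc _ _ _, ← mul_assoc _ (_ : R), mul_assoc z, e,
        ← mul_assoc, mul_assoc]
    rw [add_mul, mul_add, mul_add, k' (k yt).1, k' (k xt).1, k' (k yt).2, k' (k xt).2, ep_mul h.tt,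
      ep_orth h.tt, ep_orth' h.tt, ep_mul (x := -ρ t) (by simp [h.tt]), ← map_mul, ← map_mul ρ y x,
      xy, yx]
    simp [ep_add]
  have x1 : s * r * t = t * (s * r) := by simp [mul_assoc, ha, n1anti h.st]
  have x2 : r * s * t = t * (r * s) := by simp [mul_assoc, h.st, n1anti ha]
  have x3 : s * r * (r * s) = 1 := by simp [mul_assoc, n1sq hr, h.ss]
  have c1 : ∀ {x y : G}, x * t = t * x → y * t = t * y → s * x = y * s → s * y = x * s →
      ρ x * ep (ρ t) + ρ y * ep (-ρ t) ∈ Cz ρ t s := fun {x y} xt yt e f => by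
    have e1 := ep_anti (h.r_anti h.st)
    have e2 := ep_anti (x := -ρ t) (y := ρ s) (by simp [h.r_anti h.st])
    refine mem_Cz.2 ⟨?_, ?_⟩
    · have p : ∀ {z : G}, z * t = t * z → Commute (ρ t) (ρ z) := fun e => by
        rw [Commute, SemiconjBy, ← map_mul, ← e, map_mul]
      exact ((p xt).mul_right (ep_comm rfl)).add_right ((p yt).mul_right (ep_comm (by simp)))
    · rw [mul_add, add_mul, ← mul_assoc, ← mul_assoc, ← map_mul, ← map_mul, e, f, map_mul, map_mul,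
        mul_assoc, mul_assoc, e1, e2, neg_neg, add_comm, mul_assoc, mul_assoc]
  have y1 : s * (s * r) = r * s * s := by simp [mul_assoc, n1sq h.ss, h.ss]
  have y2 : s * (r * s) = s * r * s := (mul_assoc _ _ _).symm
  refine ⟨⟨_, _, m x1 x3 x2, m x2 (mul_eq_one_comm.1 x3) x1⟩, ?_, c1 x1 x2 y1 y2, c1 x2 x1 y2 y1⟩
  have e2 := ep_mul (x := -ρ t) (by simp [h.tt])
  simp only [Units.inv_mk, add_mul, mul_assoc, ep_mul h.tt, ep_orth h.tt, ep_orth' h.tt, e2, mul_zero,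
    add_zero, zero_add]
  rw [← mul_add, ep_add, mul_one]

theorem dom {u v : R} (hu : u ∈ Cz ρ t s) (hv : v ∈ Cz ρ t s) (e : u * v = 0) : u = 0 ∨ v = 0 :=
  (h.rf h.rt).dom (by rw [← map_mul, h.ss, map_one]) (h.r_anti h.st) (mem_Cz.1 hu).2
    (mem_Cz.1 hv).1.symm (mem_Cz.1 hv).2 e

end F2

/-- `a` is the coordinate of a conjugate of `± t` anticommuting with `t` -/
def SS (ρ : G →* R) (t s : G) (a : Rˣ) : Prop :=
  ∃ r, (∃ g, Pm (g * t * g⁻¹) r) ∧ Dg ρ t s (s * r) a a⁻¹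

theorem cj_conj (h : ∃ g, Pm (g * t * g⁻¹) r) (k : G) : ∃ g, Pm (g * t * g⁻¹) (k * r * k⁻¹) :=
  let ⟨g, e⟩ := h; ⟨k * g, by simpa [mul_assoc] using e.conj k⟩

theorem F2.rg (h : F2 ρ t s) (hr : ∃ g, Pm (g * t * g⁻¹) r) : Rg r :=
  let ⟨g, e⟩ := hr; (h.rt.conj g).pm e.symm

theorem F2.anti (h : F2 ρ t s) (h1 : Dg ρ t s (s * r) a b) : r * t = -(t * r) := by
  have := congrArg (s * ·) (h.comm_t h1)
  simpa [mul_assoc, n1sq h.ss, n1anti h.st] using this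

theorem SS.pow (h : F2 ρ t s) (ha : SS ρ t s a) (n : ℕ) : SS ρ t s (a ^ n) := by
  obtain ⟨r, h1, h2⟩ := ha
  refine ⟨s * (s * r) ^ n, ?_, by simpa [n1sq h.ss] using h.pow h2 n⟩
  have rr := (h.rg h1).sq
  induction n using Nat.twoStepInduction with
  | zero => simpa using h.cj
  | one => simpa [n1sq h.ss] using h1
  | more n ih _ =>
    have := cj_conj ih (s * r)⁻¹
    rwa [mul_inv_rev, inv_eq_of_mul_eq_one_right rr, inv_eq_of_mul_eq_one_right h.ss, mul_inv_rev,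
      inv_eq_of_mul_eq_one_right rr, inv_eq_of_mul_eq_one_right h.ss, show r * s * (s * (s * r) ^ n) *
        (s * r) = s * (s * r) ^ (n + 2) by
      rw [pow_succ, pow_succ']; simp [mul_assoc, n1sq h.ss]] at this

theorem SS.mul (h : F2 ρ t s) (ha : SS ρ t s a) (hy : Dg ρ t s y 1 d) : SS ρ t s (d * a) := by
  obtain ⟨r, h1, h2⟩ := ha
  refine ⟨y * r * y⁻¹, cj_conj h1 y, ?_⟩
  simpa [mul_assoc, n1sq h.ss] using h.mul (h.mul (h.swap hy) h2) (h.inv hy)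

/-- a suitable element of `Pk r t` -/
theorem F2.exists_k [Finite G] (h : F2 ρ t s) (hi : i ∈ Pk ρ t s) (ii : i * i = -1)
    (hr : ∃ g, Pm (g * t * g⁻¹) r) (ha : r * t = -(t * r)) {P : Subgroup G} (hP : IsPGroup 2 P)
    (hc : ∀ c ∈ P, c * r = r * c ∧ c * t = t * c) :
    ∃ k ∈ Pk ρ r t, -k ∈ Pk ρ r t ∧ k * k = -1 ∧ ∀ c ∈ P, Pm (k * c) (c * k) := by
  have rr := h.rg hr
  have ta : t * r = -(r * t) := by rw [ha, neg_neg]
  obtain ⟨N, n1, n2, n3⟩ := h.exists_Pk rr.sq t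
  obtain ⟨g, e⟩ := hr
  obtain ⟨k, k1, k2, k3, k4⟩ := exists_cenZ (N := N) hP (isPGroup_iff.2 fun k hk => ⟨2,
      h.Pk_four rr ta (g := g⁻¹) (by simpa [mul_assoc] using e.symm.conj g⁻¹) ((n1 k).1 hk)⟩)
    (fun c m => n3 c (hc c m).1 (hc c m).2) fun hle => by
      obtain ⟨y, hy⟩ := h.of_Pk hi
      have y2 : y * y = t := h.ext (h.mul hy hy) (by
        rw [one_mul, ← map_mul, ii, h.u_neg, map_one]; exact h.self)
      have f : F2 ρ (g * t * g⁻¹) t :=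
        ⟨h.toBs, h.rt.conj g, h.rt.sq, e.anti ta, g⁻¹, by simp [mul_assoc, Pm]⟩
      have m := h.mem_Pk f.rt.sq f.ss f.st (a := g * y * g⁻¹) (by simp [← y2, mul_assoc]) (by
        have := congrArg (fun z => ρ g * z * ρ g⁻¹) (congrArg (· * ep (ρ t)) hy.eq)
        simp only [Units.val_one, one_mul, add_mul, mul_assoc, ep_mul h.tt, ep_orth' h.tt, mul_zero,
          add_zero] at this
        have q : ep (ρ (g * t * g⁻¹)) = ρ g * (ep (ρ t) * ρ g⁻¹) := by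
          simp only [ep, map_mul, smul_mul_assoc, mul_smul_comm, add_mul, mul_add, one_mul,
            mul_assoc]
          rw [← map_mul ρ g g⁻¹, mul_inv_cancel, map_one]
        rw [q, ← mul_assoc, ← map_mul, inv_mul_cancel_right, map_mul, mul_assoc, this])
      have m2 : g * y * g⁻¹ * (t * (g * y * g⁻¹) * t) ∈ Pk ρ r t := by
        rcases e.symm with e | e <;> rw [e]
        exacts [m.1, h.Pk_neg f.ss f.st m.1]
      have : g * y * g⁻¹ * (g * y * g⁻¹) = 1 := by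
        rcases hle ((n1 _).2 m2) with e | e <;> rw [e] at m
        · rw [h.inj (m.2.trans (by simp [ep_add]) : _ = ρ 1), one_mul]
        · rw [h.inj (m.2.trans (by
            rw [h.neg1, neg_one_mul, ← sub_eq_add_neg, ep_sub]) : _ = ρ (g * t * g⁻¹)), f.rt.sq]
      rw [conj_mul, y2] at this
      exact f.rt.ne (Or.inl this)
  have m := (n1 k).1 k1
  exact ⟨k, m, (n1 _).1 (neg_mem' n2 k1), k3.resolve_left fun e => k2
    (h.toBs.dom h.rt ha m.2.1 m.1 (by simp) (by simp) (by simp) (by simp [e])),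
    fun c m => k4 c (mem_sup_left m)⟩

theorem F2.half' [Finite G] (h : F2 ρ t s) (hr : ∃ g, Pm (g * t * g⁻¹) r)
    (h1 : Dg ρ t s (s * r) a a⁻¹) {k q : G} (k1 : k ∈ Pk ρ r t) (k2 : -k ∈ Pk ρ r t)
    (k3 : k * k = -1) (q1 : q ∈ Pk ρ s t) (q2 : q * q = -1) (q3 : q * r = r * q)
    (e : k * q = q * k) : ∃ w : R, IsIntegral ℤ w ∧ 2 * w = a + (a⁻¹ : Rˣ) := by
  have rr := (h.rg hr).sq
  have q4 : q ∈ Pk ρ r t := by
    rcases (h.toBs.dom h.rt (h.anti h1) k1.2.1 k1.1 q1.2.1 q3 e (k3.trans q2.symm)).symm with e | e <;>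
      rwa [e]
  obtain ⟨w, w1, w2⟩ := h.half h.ss rr q1 q4 q2
  refine ⟨w, w1, ?_⟩
  have h2 := (h.inv h1).eq
  rw [mul_inv_rev, inv_eq_of_mul_eq_one_right rr, inv_eq_of_mul_eq_one_right h.ss, inv_inv] at h2
  rw [w2, h1.eq, h2, ← mul_one ((a : R) + _), ← ep_add (ρ t)]
  simp only [add_mul, mul_add]
  abel

end Cfsg.Agent.GD2
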