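import Cfsg.Agent.GD2.N1aB

/-! S3259: the coordinates of the neighbours of a reflection with quaternion root subgroup. -/

set_option autoImplicit false
set_option linter.unusedSectionVars false

namespace Cfsg.Agent.GD2

open Subgroup Cfsg.Agent.PLocal.Amb

variable {R : Type*} [Ring R] [Algebra ℚ R] [Nontrivial R] [Rk2 R]
variable {G : Type*} [Group G] [HasDistribNeg G] {ρ : G →* R} {t s i j q r : G} {a u : Rˣ}

/-- the root subgroups of `t` and `s` are given by the quaternion group `⟨i, j⟩` -/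
structure F3 (ρ : G →* R) (t s i j : G) : Prop extends F2 ρ t s where
  qu : Qu i j
  P : ∀ k, k ∈ Pk ρ t s ↔ k ∈ Q8 qu
  P' : ∀ k ∈ Q8 qu, k ∈ Pk ρ s t

theorem Bs.u_mem (h : Bs ρ) (hq : Qu i j) : u ∈ Q8 (h.u_qu hq) ↔ ∃ q ∈ Q8 hq, ρ.toHomUnits q = u := by
  constructor
  · have := hq.neg_mem
    refine fun m => (h.u_qu hq).le (X := (Q8 hq).map ρ.toHomUnits) ⟨_, hq.i_mem, rfl⟩
      ⟨_, hq.j_mem, rfl⟩ m
  · rintro ⟨q, m, rfl⟩
    exact hq.le (X := (Q8 (h.u_qu hq)).comap ρ.toHomUnits) (h.u_qu hq).i_mem (h.u_qu hq).j_mem m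

namespace F3

variable (h : F3 ρ t s i j)
include h

/-- the quaternion group in the units -/
abbrev U : Subgroup Rˣ := Q8 (h.u_qu h.qu)

theorem change {i' j' : G} (hq : Qu i' j') (hi : i' ∈ Q8 h.qu) (hj : j' ∈ Q8 h.qu) :
    ∃ h' : F3 ρ t s i' j', h'.U = h.U :=
  ⟨⟨h.toF2, hq, fun k => by rw [h.Q8_eq h.qu hq hi hj]; exact h.P k,
    fun k => by rw [h.Q8_eq h.qu hq hi hj]; exact h.P' k⟩,
    bs_units.Q8_eq _ _ ((h.u_mem h.qu).2 ⟨_, hi, rfl⟩) ((h.u_mem h.qu).2 ⟨_, hj, rfl⟩)⟩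

theorem dg (m : q ∈ Q8 h.qu) : Dg ρ t s q (ρ.toHomUnits q) (ρ.toHomUnits q) :=
  F2.cen ((h.P q).2 m).1 ((h.P q).2 m).2.1

theorem root (m : u ∈ h.U) : ∃ y, Dg ρ t s y 1 u := by
  obtain ⟨q, m', rfl⟩ := (h.u_mem h.qu).1 m
  exact h.of_Pk ((h.P q).2 m')

theorem norm (ha : SS ρ t s a) : a ∈ 𝐍[h.U] := by
  obtain ⟨r, -, h1⟩ := ha
  have k : ∀ {x : G} {b c : Rˣ}, Dg ρ t s x b c → ∀ u ∈ h.U, c * u * c⁻¹ ∈ h.U := fun e u m => by
    obtain ⟨y, hy⟩ := h.root m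
    have := h.mul (h.mul e hy) (h.inv e)
    rw [mul_one, mul_inv_cancel] at this
    obtain ⟨k, k1, k2⟩ := h.to_Pk this
    exact (h.u_mem h.qu).2 ⟨k, (h.P k).1 k1, k2⟩
  refine mem_normalizer_iff.2 fun u => ⟨fun m => ?_, fun m => ?_⟩
  · simpa using k (h.inv h1) u m
  · simpa [mul_assoc] using k h1 _ m

theorem comm_r (h1 : Dg ρ t s (s * r) a a⁻¹) {c : G} {b : Rˣ} (h2 : Dg ρ t s c b b)
    (e : b * a = a * b) : c * r = r * c := by
  have e1 := h.comm h2 h1 e (Commute.inv_right e)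
  have e2 : c * s = s * c := h.inj (by
    rw [map_mul, map_mul, show ρ c = b from congrArg Units.val (F2.diag h2), (mem_Cz.1 h2.ma).2])
  rw [← mul_assoc, e2, mul_assoc, mul_assoc] at e1
  exact mul_left_cancel e1

variable [Finite G]

theorem cen_half (ha : SS ρ t s a) (hi : a * ρ.toHomUnits i = ρ.toHomUnits i * a)
    (hj : a * ρ.toHomUnits j = ρ.toHomUnits j * a) :
    ∃ w : R, IsIntegral ℤ w ∧ 2 * w = a + (a⁻¹ : Rˣ) := by
  obtain ⟨r, h1, h2⟩ := ha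
  have c : ∀ q ∈ Q8 h.qu, q * r = r * q := fun q m => h.comm_r h2 (h.dg m)
    ((h.u_qu h.qu).comm hi hj ((h.u_mem h.qu).2 ⟨q, m, rfl⟩)).symm
  obtain ⟨k, k1, k2, k3, k4⟩ := h.exists_k ((h.P i).2 h.qu.i_mem) h.qu.ii h1 (h.anti h2) h.qu.two
    fun q m => ⟨c q m, ((h.P q).2 m).1⟩
  have f := fun q (m : q ∈ Q8 h.qu) (e : q * q = -1) => h.half' h1 h2 k1 k2 k3 (h.P' q m) e (c q m)
  rcases k4 i h.qu.i_mem with e | e
  · exact f i h.qu.i_mem h.qu.ii e
  rcases k4 j h.qu.j_mem with e' | e'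
  · exact f j h.qu.j_mem h.qu.jj e'
  · exact f _ (mul_mem h.qu.i_mem h.qu.j_mem) h.qu.kk (by simp [mul_assoc, n1anti e, e'])

theorem cen_pm (ha : SS ρ t s a) (hi : a * ρ.toHomUnits i = ρ.toHomUnits i * a)
    (hj : a * ρ.toHomUnits j = ρ.toHomUnits j * a) : Pm a 1 := by
  obtain ⟨r, h1, h2⟩ := id ha
  have o : ∀ n, (s * r) ^ n = 1 ↔ a ^ n = 1 := fun n =>
    ⟨fun e => by
      have h3 := h.pow h2 n
      have h4 := h3.eq
      rw [e, map_one] at h4
      have h5 := congrArg (· * ep (ρ t)) h4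
      have h6 := (h.swap h3).eq
      rw [e, mul_one, h.ss, map_one] at h6
      have h7 := congrArg (· * ep (-ρ t)) h6
      simp only [one_mul, add_mul, mul_assoc, ep_mul h.tt, ep_orth' h.tt, ep_orth h.tt, mul_zero,
        add_zero, zero_add, ep_mul (x := -ρ t) (by simp [h.tt])] at h5 h7
      exact Units.ext (by rw [← mul_one ((a ^ n : Rˣ) : R), ← ep_add (ρ t), mul_add, ← h5, ← h7, ep_add]; rfl),
    fun e => h.ext (h.pow h2 n) (by
      rw [inv_pow, e]; simpa using F2.cen (ρ := ρ) (x := 1) (t := t) (s := s) (by simp) (by simp))⟩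
  have pos := orderOf_pos (s * r)
  rcases (orderOf (s * r)).eq_two_pow_or_exists_odd_prime_and_dvd with ⟨k, e⟩ | ⟨p, hp, ⟨m, e⟩, ho⟩
  · have m := mem_Cz.1 h2.ma
    have mi := (h.P i).2 h.qu.i_mem
    exact bs_units.two_pow (h.u_rg h.rt) (h.u_anti h.st) (h.u_qu h.qu)
      (by rw [← map_mul, mi.1, map_mul]) (by rw [← map_mul, mi.2.1, map_mul]) k a
      (Units.ext m.1.symm) (Units.ext m.2.symm) hi hj ((o _).1 (e ▸ pow_orderOf_eq_one _))
  · exfalso
    obtain ⟨w, w1, w2⟩ := h.cen_half (ha.pow h.toF2 m) (Commute.pow_left hi m) (Commute.pow_left hj m)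
    have b1 : (a ^ m) ^ p = 1 := by rw [← pow_mul, ← o, mul_comm m, ← e, pow_orderOf_eq_one]
    have b2 : a ^ m ≠ 1 := fun k => by
      have := Nat.le_of_dvd (Nat.pos_of_mul_pos_left (e ▸ pos)) (orderOf_dvd_of_pow_eq_one ((o m).2 k))
      have := hp.two_le
      have := Nat.pos_of_mul_pos_left (e ▸ pos)
      nlinarith
    have b3 := (h.pow h2 m).ma
    generalize a ^ m = b at *
    have b4 : ((b * b : Rˣ) : R) ^ p = 1 := by
      rw [← Units.val_pow_eq_pow_val, ← sq, ← pow_mul, mul_comm, pow_mul, b1]; simp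
    refine not_half (n := 1) ho b4 ((h.dom (sub_mem (mul_mem b3 b3) (one_mem _))
      (sum_mem fun n _ => pow_mem (mul_mem b3 b3) n) (by
        rw [sub_mul, one_mul]; exact sub_eq_zero.2 (mul_nm b4))).resolve_left fun k => b2 ?_)
      hp.pos (c := ((b⁻¹ : Rˣ) : R)) (by rw [← Units.val_pow_eq_pow_val, inv_pow, b1]; simp)
      (by simp) w1 (by simp [w2, mul_add, add_comm])
    obtain ⟨n, rfl⟩ := ho
    have : b * b = 1 := Units.ext (sub_eq_zero.1 k)
    rwa [pow_succ, pow_mul, sq, this, one_pow, one_mul] at b1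

theorem mul' (ha : SS ρ t s a) (m : u ∈ h.U) : SS ρ t s (u * a) :=
  let ⟨_, hy⟩ := h.root m; ha.mul h.toF2 hy

theorem inner (ha : SS ρ t s a) (hi : Pm (a * ρ.toHomUnits i) (ρ.toHomUnits i * a))
    (hj : Pm (a * ρ.toHomUnits j) (ρ.toHomUnits j * a)) : a ∈ h.U := by
  obtain ⟨q, m, c, rfl, ci, cj⟩ := (h.u_qu h.qu).inner hi hj
  refine mul_mem m ((h.cen_pm ?_ ci cj).mem (h.u_qu h.qu).neg_mem (one_mem _))
  simpa using h.mul' ha (inv_mem m)

theorem of_comm (ha : SS ρ t s a) (hi : a * ρ.toHomUnits i = ρ.toHomUnits i * a) : a ∈ h.U := by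
  have hq := h.u_qu h.qu
  rcases bs_units.conj_j hq (h.norm ha) (Or.inl hi) with e | e
  · exact h.inner ha (Or.inl hi) e
  exfalso
  have c1 : a * a * ρ.toHomUnits i = ρ.toHomUnits i * (a * a) := Commute.mul_left hi hi
  have c2 : a * a * ρ.toHomUnits j = -(ρ.toHomUnits j * (a * a)) := by
    have k : ∀ x, a * (ρ.toHomUnits i * x) = ρ.toHomUnits i * (a * x) := fun x => by
      rw [← mul_assoc, hi, mul_assoc]
    have k2 : ∀ x, a * (ρ.toHomUnits j * x) = a * ρ.toHomUnits j * x := fun x => (mul_assoc _ _ _).symm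
    rcases e with e | e <;> simp only [mul_assoc, e, k, k2 a, hq.ii', mul_neg, neg_mul, neg_neg]
  have m : a * a ∈ h.U := h.inner (by simpa [sq] using ha.pow h.toF2 2) (Or.inl c1) (Or.inr c2)
  have e2 : Pm (a * a) (ρ.toHomUnits i) := (bs_units.comm_i hq m c1).resolve_left fun k =>
    bs_units.not_both (k.comm (by simp)).symm c2
  obtain ⟨r, h1, h2⟩ := ha
  obtain ⟨y, hy⟩ := h.root m
  have h3 := h.mul h2 hy
  rw [mul_one, inv_mul_cancel_left] at h3
  have e3 : Pm (s * r * y * (s * r * y)) i := h.u_pm.1 (by rw [map_mul, F2.diag h3]; exact e2)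
  have cr := h.comm_r h2 h3 rfl
  have ct := h.comm_t h3
  generalize s * r * y = c at *
  obtain ⟨k, k1, k2, k3, k4⟩ := h.exists_k ((h.P i).2 h.qu.i_mem) h.qu.ii h1 (h.anti h2)
    (P := zpowers c) (isPGroup_iff.2 fun x ⟨n, hn⟩ => ⟨3, by
      have : c ^ 8 = 1 := by
        rw [show c ^ 8 = c * c * (c * c) * (c * c * (c * c)) by simp only [pow_succ, pow_zero,
          one_mul, mul_assoc], e3.sq, h.qu.ii]; simp
      rw [← hn, ← zpow_natCast, ← zpow_mul, mul_comm, zpow_mul, zpow_natCast]; simp [this]⟩)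
    fun x ⟨n, hn⟩ => hn ▸ ⟨Commute.zpow_left cr n, Commute.zpow_left ct n⟩
  obtain ⟨w, w1, w2⟩ := h.half' h1 h2 k1 k2 k3 (h.P' i h.qu.i_mem) h.qu.ii
    (e3.symm.comm (Commute.mul_right cr.symm cr.symm)).symm (e3.symm.comm (by
      rcases k4 c (mem_zpowers c) with e | e
      · exact Commute.mul_right e e
      · simp [n1anti e, e, mul_assoc]))
  have a4 : a⁻¹ * a⁻¹ = -(a * a) := by
    rw [← mul_inv_rev]; exact inv_of_sq (e2.sq.trans hq.ii)
  refine zi_half (zi_pair w1 w1 rfl).2 0 (sub_eq_zero.1 (two_cancel ?_))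
  have : 2 * w * (2 * w) = 2 := by
    rw [w2, add_mul, mul_add, mul_add, Units.mul_inv, Units.inv_mul, ← Units.val_mul,
      ← Units.val_mul, a4, Units.val_neg, ← one_add_one_eq_two]
    abel
  rw [← sub_eq_zero.2 this, Int.cast_zero, mul_zero, zero_add, mul_sub, mul_one]
  simp only [two_mul, mul_add, add_mul]

theorem of_fix (ha : SS ρ t s a) (m : u ∈ h.U) (h1 : ¬ Pm u 1) (e : Pm (a * u * a⁻¹) u) :
    a ∈ h.U := by
  obtain ⟨q, mq, rfl⟩ := (h.u_mem h.qu).1 m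
  obtain ⟨b, m', hq⟩ := h.qu.partner mq fun k => h1 (by simpa using h.u_pm.2 k)
  obtain ⟨h', e'⟩ := h.change hq mq m'
  rw [← e']
  rcases e with e | e
  · exact h'.of_comm ha (mul_inv_eq_iff_eq_mul.1 e)
  · have mb := (h'.u_qu hq).j_mem
    refine (mul_mem_cancel_left mb).1 (h'.of_comm (h'.mul' ha mb) ?_)
    rw [mul_assoc, mul_inv_eq_iff_eq_mul.1 e, neg_mul, mul_neg, (h'.u_qu hq).ji', neg_neg]

theorem cyc (ha : SS ρ t s a) (hn : a ∉ h.U) : Pm (a ^ 3) 1 ∧ ∃ v w : Rˣ, v ∈ h.U ∧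
    a * ρ.toHomUnits i * a⁻¹ = v ∧ a * v * a⁻¹ = w ∧ Qu (ρ.toHomUnits i) v ∧
      Pm w (ρ.toHomUnits i * v) := by
  have hq := h.u_qu h.qu
  have nf := fun u m h1 e => hn (h.of_fix (u := u) ha m h1 e)
  have N := fun u (m : u ∈ h.U) => conj_mem_of_mem_normalizer (h.norm ha) m
  have mI := hq.i_mem
  have c := fun u : Rˣ => (Pm.rfl (a := u))
  have vv : ∀ u : Rˣ, u * u = -1 → a * u * a⁻¹ * (a * u * a⁻¹) = -1 := fun u e => by simp [e]
  have hv : Qu (ρ.toHomUnits i) (a * ρ.toHomUnits i * a⁻¹) := by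
    rcases N _ mI with e | e | e | e
    · exact absurd e (bs_units.ne_one (vv _ hq.ii))
    · exact absurd e (nf _ mI (bs_units.ne_one hq.ii))
    · exact hq.pm (c _) e
    · exact hq.next.next.symm.pm (Or.inl (by simp [hq.ji', hq.jj])) e
  have mv := N _ mI
  have hw : Pm (a * (a * ρ.toHomUnits i * a⁻¹) * a⁻¹)
      (ρ.toHomUnits i * (a * ρ.toHomUnits i * a⁻¹)) := by
    have := N _ mv
    rw [U, ← bs_units.Q8_eq hq hv mI mv] at this
    rcases this with e | e | e | e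
    · exact absurd e (bs_units.ne_one (vv _ hv.jj))
    · refine absurd ?_ (nf _ (mul_mem mI mv) (bs_units.ne_one hv.kk))
      rw [← conj_mul]
      exact ((c _).mul e).trans (Or.inr hv.ji)
    · exact absurd e (nf _ mv (bs_units.ne_one hv.jj))
    · exact e
  refine ⟨by_contra fun k => nf _ (h.of_fix (ha.pow h.toF2 3) mI (bs_units.ne_one hq.ii) ?_) k
    (Or.inl (by group)), _, _, mv, rfl, rfl, hv, hw⟩
  have := (c (a * ρ.toHomUnits i * a⁻¹)).mul hw
  rw [conj_mul] at this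
  replace := (hw.conj a).trans this
  rw [hv.ji', hv.jj] at this
  simpa [pow_succ, mul_assoc] using this

theorem three (h1 : ∃ g, Pm (g * t * g⁻¹) r) (h2 : Dg ρ t s (s * r) a a⁻¹) (hn : a ∉ h.U)
    (h3 : a ^ 3 = 1) : ∃ u v w, Pm u (s * i * t) ∧ Pm v (s * j * t) ∧ Pm w (s * (i * j) * t) ∧
      2 * ρ r = ρ (-s) + ρ u + ρ v + ρ w := by
  obtain ⟨-, v, w, m, e1, e2, hv, hw⟩ := h.cyc ⟨r, h1, h2⟩ hn
  have hq := h.u_qu h.qu
  have mw := hw.mem hq.neg_mem (mul_mem hq.i_mem m)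
  obtain ⟨q, mq, rfl⟩ := (h.u_mem h.qu).1 (id m)
  obtain ⟨q', mq', rfl⟩ := (h.u_mem h.qu).1 (id mw)
  have e3 : a * ρ.toHomUnits q' * a⁻¹ = ρ.toHomUnits i := by
    rw [← e2, ← e1, show a * (a * (a * ρ.toHomUnits i * a⁻¹) * a⁻¹) * a⁻¹ =
      a ^ 3 * ρ.toHomUnits i * (a ^ 3)⁻¹ by simp [pow_succ, mul_assoc], h3]; simp
  have u : ∀ {x y : Rˣ}, a * x * a⁻¹ = y → (a : R) * x = y * a := fun e =>
    congrArg Units.val (mul_inv_eq_iff_eq_mul.1 e)
  have hw' : Pm q' (i * q) := h.u_pm.1 (by rwa [map_mul])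
  have hv' : Qu i q := ⟨h.qu.ii, h.u_inj (by rw [map_mul, hv.jj, h.u_neg, map_one]),
    h.u_inj (by rw [map_mul, hv.ij, h.u_neg, map_mul])⟩
  have mW : ρ i + ρ q + ρ q' ∈ Cz ρ t s :=
    add_mem (add_mem (h.dg h.qu.i_mem).ma (h.dg mq).ma) (h.dg mq').ma
  have aW : (a : R) * (ρ i + ρ q + ρ q') = (ρ i + ρ q + ρ q') * a := by
    have f1 : (a : R) * ρ i = ρ q * a := u e1
    have f2 : (a : R) * ρ q = ρ q' * a := u e2
    have f3 : (a : R) * ρ q' = ρ i * a := u e3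
    simp only [mul_add, add_mul, f1, f2, f3]; abel
  have WW : (ρ i + ρ q + ρ q') * (ρ i + ρ q + ρ q') = -1 - 1 - 1 := by
    simp only [mul_add, add_mul, ← map_mul]
    rcases hw' with rfl | rfl <;>
      simp only [mul_neg, neg_mul, neg_neg, hv'.ii, hv'.jj, hv'.ji, hv'.ii', hv'.ji', mul_assoc,
        mul_one, h.neg, map_one] <;> abel
  have ma := h2.ma
  have a3 : (a : R) * a * a = 1 := by
    simpa [pow_succ] using congrArg Units.val h3
  have a2 : (a : R) * a = -1 - a := by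
    refine eq_sub_of_add_eq (eq_neg_of_add_eq_zero_left ((h.dom (sub_mem ma (one_mem _))
      (add_mem (add_mem (mul_mem ma ma) ma) (one_mem _)) ?_).resolve_left fun k =>
        hn ?_))
    · simp only [sub_mul, mul_add, ← mul_assoc, a3, one_mul, mul_one]; abel
    · rw [show a = 1 from Units.ext (sub_eq_zero.1 k)]; exact one_mem _
  have ai : ((a⁻¹ : Rˣ) : R) = -1 - a := Units.inv_eq_of_mul_eq_one_right (by
    rw [← a2, ← mul_assoc, a3])
  have key : ∀ W : R, a + a + 1 = W → 2 * ρ r = ρ (-s) + ρ s * W * ρ t := fun W e => by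
    have : 2 * ρ (s * r) = -1 + W * ρ t := by
      have e1 := ep_add (ρ t)
      have e2 := ep_sub (ρ t)
      rw [h2.eq, ai, ← e]
      generalize ep (ρ t) = x, ep (-ρ t) = y at e1 e2
      rw [← e2, show (-1 : R) + _ = -(x + y) + _ by rw [e1]]
      simp only [two_mul, add_mul, mul_sub, sub_mul, one_mul, neg_mul]
      abel
    rw [← n1sq h.ss r, map_mul, two_mul, ← mul_add, ← two_mul, this, h.neg, mul_add, mul_assoc]
    simp
  have cs : Pm q j ∧ Pm q' (i * j) ∨ Pm q (i * j) ∧ Pm q' j := by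
    rcases mq with e | e | e | e
    · exact absurd e (h.ne_one hv'.jj)
    · exact (h.not_both (e.comm rfl) hv'.ij).elim
    · exact Or.inl ⟨e, hw'.trans (Pm.rfl.mul e)⟩
    · exact Or.inr ⟨e, (hw'.trans (Pm.rfl.mul e)).trans (Or.inr (h.qu.ii' j))⟩
  have pm : ∀ {x y : G}, Pm x y → Pm (s * x * t) (s * y * t) := fun e => (Pm.rfl.mul e).mul Pm.rfl
  have two : (a : R) + a + 1 ∈ Cz ρ t s := add_mem (add_mem ma ma) (one_mem _)
  rcases h.dom (sub_mem two mW) (add_mem two mW) (by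
    generalize ρ i + ρ q + ρ q' = W at *
    simp only [sub_mul, mul_add, add_mul, a2, aW, WW, one_mul, mul_one]; abel) with e | e
  · have := key _ (sub_eq_zero.1 e)
    rcases cs with ⟨f, f'⟩ | ⟨f, f'⟩
    · exact ⟨_, _, _, Pm.rfl, pm f, pm f', by simp only [this, map_mul, mul_add, add_mul]; abel⟩
    · exact ⟨_, _, _, Pm.rfl, pm f', pm f, by simp only [this, map_mul, mul_add, add_mul]; abel⟩
  · have := key _ (eq_neg_of_add_eq_zero_left e)
    rcases cs with ⟨f, f'⟩ | ⟨f, f'⟩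
    · exact ⟨_, _, _, Pm.neg _, (Pm.neg _).trans (pm f), (Pm.neg _).trans (pm f'), by
        simp only [this, h.neg, map_mul, mul_add, add_mul, mul_neg, neg_mul]; abel⟩
    · exact ⟨_, _, _, Pm.neg _, (Pm.neg _).trans (pm f'), (Pm.neg _).trans (pm f), by
        simp only [this, h.neg, map_mul, mul_add, add_mul, mul_neg, neg_mul]; abel⟩

theorem main (no : ∀ r u v w, r * r = 1 → Pm u (s * i * t) → Pm v (s * j * t) →
      Pm w (s * (i * j) * t) → 2 * ρ r ≠ ρ (-s) + ρ u + ρ v + ρ w)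
    (h1 : ∃ g, Pm (g * t * g⁻¹) r) (ha : r * t = -(t * r)) :
    Pm r s ∨ Pm r (s * i * t) ∨ Pm r (s * j * t) ∨ Pm r (s * (i * j) * t) := by
  obtain ⟨a, h2⟩ := h.exists_dg (h.rg h1).sq ha
  have hq := h.u_qu h.qu
  have m : a ∈ h.U := by
    by_contra hn
    have k : ∀ a, SS ρ t s a → a ∉ h.U → a ^ 3 ≠ 1 := fun a ⟨r, h1, h2⟩ hn e =>
      let ⟨u, v, w, f1, f2, f3, f4⟩ := h.three h1 h2 hn e
      no r u v w (h.rg h1).sq f1 f2 f3 f4
    rcases (h.cyc ⟨r, h1, h2⟩ hn).1 with e | e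
    · exact k a ⟨r, h1, h2⟩ hn e
    · exact k _ (h.mul' ⟨r, h1, h2⟩ hq.neg_mem) (fun m => hn ((mul_mem_cancel_left hq.neg_mem).1 m))
        (by rw [neg_one_mul, Odd.neg_pow (by decide), e, neg_neg])
  obtain ⟨q, mq, rfl⟩ := (h.u_mem h.qu).1 (id m)
  have k : q * q = -1 → r = s * q * t := fun e => by
    have := h.mul (h.dg mq) h.self
    rw [mul_one, mul_neg, mul_one, ← inv_of_sq (by rw [← map_mul, e, h.u_neg, map_one])] at this
    rw [mul_assoc, ← h.ext h2 this, n1sq h.ss]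
  have pm : ∀ {y : G}, Pm q y → Pm (s * q * t) (s * y * t) := fun e => (Pm.rfl.mul e).mul Pm.rfl
  rcases id mq with e | e | e | e
  · left
    rw [inv_eq_of_mul_eq_one_right (by rw [← map_mul, e.sq, one_mul, map_one])] at h2
    rw [← n1sq h.ss r, h.ext h2 (h.dg mq)]
    simpa using Pm.rfl.mul e
  · exact Or.inr (Or.inl (k (e.sq.trans h.qu.ii) ▸ pm e))
  · exact Or.inr (Or.inr (Or.inl (k (e.sq.trans h.qu.jj) ▸ pm e)))
  · exact Or.inr (Or.inr (Or.inr (k (e.sq.trans h.qu.kk) ▸ pm e)))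

end F3

end Cfsg.Agent.GD2
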