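import Cfsg.Agent.GD2.N2a

/-! S3259: the case of a subgroup `SL₂(5)`, fusion and transfer. -/

set_option autoImplicit false
set_option linter.unusedSectionVars false

namespace Cfsg.Agent.GD2

open Subgroup Cfsg.Agent.PLocal.Amb

variable {R : Type*} [Ring R] [Algebra ℚ R] [Nontrivial R] [Rk2 R]
variable {G : Type*} [Group G] [HasDistribNeg G] [Finite G] {ρ : G →* R}

theorem nb_comm {X : Subgroup G} {c x : G} (hc : c ∈ 𝐂[X]) (hx : x ∈ X) : c * x = x * c :=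
  (mem_centralizer_iff.1 hc x hx).symm

theorem nb_neg (X : Subgroup G) : -1 ∈ 𝐂[X] := mem_centralizer_iff.2 fun _ _ => by simp

theorem nb_cj {X : Subgroup G} {v : G} (hv : v ∈ 𝐂[X]) (g : G) : g * v * g⁻¹ ∈ 𝐂[cj(g, X)] := by
  rw [centralizer_cj]; exact conj_mem_cj g hv

theorem nb_sq {q c : G} (h : c * q = q * c) : q * c * (q * c) = q * q * (c * c) := by
  rw [mul_assoc, ← mul_assoc c, h]; simp only [mul_assoc]

theorem nb_ne {v : G} (h : ¬ Pm v 1) (g : G) : ¬ Pm (g * v * g⁻¹) 1 := fun e =>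
  h (by simpa [mul_assoc] using e.conj g⁻¹)

theorem nb_sqc {v : G} (h : Pm (v * v) 1) (g : G) : Pm (g * v * g⁻¹ * (g * v * g⁻¹)) 1 := by
  simpa using h.conj g

theorem Bs.rg_anti (hb : Bs ρ) {r u : G} (hr : r * r = 1) (hu : u * u = -1) (h : r * u = -(u * r)) :
    Rg (r * u) :=
  ⟨by nth_rewrite 1 [h]; rw [neg_mul, mul_assoc, ← mul_assoc r, hr, one_mul, hu, neg_neg], fun e =>
    hb.not_both (mul_left_cancel (a := r) (by simpa [mul_assoc] using e.comm (c := r) (by simp))) h⟩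

theorem N2H.exA {X X' : Subgroup G} (h : N2H ρ X) {g w r : G} (e : cj(g, X) = X') (hne : X' ≠ X)
    (hw : w ∈ 𝐂[X']) (w2 : w * w = -1) (hr : r ∈ 𝐂[X]) (r2 : Rg r) : r * w ≠ -(w * r) := fun h1 => by
  subst e
  exact hne (h.uq g r r2.ne (Or.inl r2.sq) hr ((h.cj g).rho hw w2
    ((h.cj g).norm hw (h.ne_one w2) (Or.inr w2) (Or.inr h1)) r2 h1))

/-- a Sylow subgroup of `N(X)` with its quaternion group -/
structure NF (ρ : G →* R) (X T : Subgroup G) {i j : G} (hq : Qu i j) : Prop extends N2H ρ X where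
  syl : IsSyl 2 T 𝐍[X]
  Q : T ⊓ X = Q8 hq
  ci : ∀ x ∈ T, Pm (x * i) (i * x)

theorem N2H.exists_NF {X P : Subgroup G} (h : N2H ρ X) (hP : IsPGroup 2 P) (h1 : P ≤ 𝐍[X]) :
    ∃ (T : Subgroup G) (i j : G) (hq : Qu i j), NF ρ X T hq ∧ P ≤ T := by
  obtain ⟨T, hT, h2⟩ := exists_isSyl_ge hP h1
  obtain ⟨i, j, hq, e⟩ := h.x5.syl h.toBs (hT.inf_of_le le_normalizer le_rfl)
  obtain ⟨a, b, hq', e', h3⟩ := h.fix_one hq hT.pgrp (e ▸ le_normalizer_inf le_normalizer hT.le)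
  exact ⟨T, a, b, hq', ⟨h, hT, e.trans e'.symm, h3⟩, h2⟩

namespace NF

variable {X X' T : Subgroup G} {i j : G} {hq : Qu i j} (h : NF ρ X T hq) {a b c g q u v w : G}
include h

theorem qT (h1 : q ∈ Q8 hq) : q ∈ T := (h.Q.ge h1).1

theorem qX (h1 : q ∈ Q8 hq) : q ∈ X := (h.Q.ge h1).2

theorem cI (hc : c ∈ 𝐂[X]) : c * i = i * c := nb_comm hc (h.qX hq.i_mem)

theorem cJ (hc : c ∈ 𝐂[X]) : c * j = j * c := nb_comm hc (h.qX hq.j_mem)

theorem nQ : T ≤ 𝐍[Q8 hq] := h.Q ▸ le_normalizer_inf le_normalizer h.syl.le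

theorem nC : T ≤ 𝐍[𝐂[X]] := le_normalizer_centralizer h.syl.le

theorem pU : IsPGroup 2 ↥(T ⊓ 𝐂[X]) := h.syl.pgrp.to_inf_left

theorem qc (h1 : q ∈ Q8 hq) (h2 : q ∈ 𝐂[X]) : Pm q 1 := h.cent_Q8 hq h1 (h.cI h2) (h.cJ h2)

theorem iC : i ∉ 𝐂[X] := fun e => h.ne_one hq.ii (h.qc hq.i_mem e)

theorem dec' (ha : a ∈ T) (h1 : Pm (a * j) (j * a)) : ∃ q ∈ Q8 hq, ∃ c ∈ T ⊓ 𝐂[X], a = q * c :=
  h.dec h.syl.le hq h.Q.ge ha (h.ci a ha) h1

theorem out (ha : a ∈ T) (h1 : ¬ Pm (a * j) (j * a)) : Pm (a * j) (i * j * a) :=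
  (h.conj_j hq (h.nQ ha) (h.ci a ha)).resolve_left h1

theorem mul_out (ha : a ∈ T) (hb : b ∈ T) (h1 : ¬ Pm (a * j) (j * a)) (h2 : ¬ Pm (b * j) (j * b)) :
    Pm (a * b * j) (j * (a * b)) := by
  have e1 := (Pm.rfl (a := a)).mul (h.out hb h2)
  have e2 := (h.ci a ha).mul (Pm.rfl (a := j * b))
  have e3 := ((Pm.rfl (a := i)).mul (h.out ha h1)).mul (Pm.rfl (a := b))
  simp only [mul_assoc, hq.ii', neg_mul] at e1 e2 e3 ⊢
  exact ((e1.trans e2).trans e3).trans (Pm.neg _)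

theorem top : IsSyl 2 T ⊤ := isSyl_of_isSyl_normalizer (h.syl.mono (le_inf le_top le_normalizer)
  fun g hg => cj_eq_iff.1 (h.pair h.syl (by
    rw [normalizer_cj, ← cj_of_mem_normalizer hg.2]; exact cj_mono g h.syl.le)))

theorem exB (hv : v ∈ 𝐂[cj(g, X)]) (h1 : ¬ Pm v 1) (h2 : Pm (v * v) 1)
    (h3 : ∀ a ∈ T, Pm (a * v) (v * a)) : cj(g, X) = X :=
  h.pair h.syl fun a ha => (h.toN2H.cj g).norm hv h1 h2 (h3 a ha)

theorem iB (hi : i ∈ 𝐂[cj(g, X)]) : False :=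
  h.iC (h.exB hi (h.ne_one hq.ii) (Or.inr hq.ii) h.ci ▸ hi)

theorem exists_U (hu : u ∈ 𝐂[X]) (h2 : Pm (u * u) 1) : ∃ k, k * u * k⁻¹ ∈ T ⊓ 𝐂[X] := by
  obtain ⟨k, hk, e⟩ := h.syl.exists_cj_le (R := zpowers u) (isPGroup_zpowers ⟨2, by
    rw [show u ^ 2 ^ 2 = u * u * (u * u) by simp [pow_succ, mul_assoc], h2.sq, one_mul]⟩)
    (zpowers_le.2 (centralizer_le_normalizer' X hu))
  exact ⟨k, e (conj_mem_cj k (mem_zpowers u)),
    conj_mem_of_mem_normalizer (normalizer_le_normalizer_centralizer X hk) hu⟩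

theorem exM {H : Type*} [Group H] {π : G →* H} (hy : HY ρ π) (hv : v ∈ T ⊓ 𝐂[X]) (v1 : ¬ Pm v 1)
    (v2 : Pm (v * v) 1) (v3 : ∀ a ∈ T, Pm (a * v) (v * a))
    (hU : ∀ c ∈ T ⊓ 𝐂[X], Pm c 1 ∨ Pm c v) {s : G} (hs : s ∈ T) (s1 : ¬ Pm (s * j) (j * s))
    (s2 : Pm (s * s) 1) : False := by
  have pm : ∀ {a b}, Pm a b → b ∈ Q8 hq → a ∈ Q8 hq := Pm.mem hq.neg_mem
  have ss : s * s ∈ Q8 hq := pm s2 (one_mem _)
  have sn := h.nQ hs
  let M : Subgroup G :=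
    { carrier := {x | x ∈ Q8 hq ∨ x * s ∈ Q8 hq}
      one_mem' := Or.inl (one_mem _)
      mul_mem' := by
        rintro x y (hx | hx) (hy | hy)
        · exact Or.inl (mul_mem hx hy)
        · exact Or.inr (mul_assoc x y s ▸ mul_mem hx hy)
        · exact Or.inr (by simpa [mul_assoc] using mul_mem hx (inv_conj_mem_of_mem_normalizer sn hy))
        · have := mul_mem (mul_mem hx (inv_conj_mem_of_mem_normalizer sn hy)) (inv_mem ss)
          exact Or.inl (by simpa [mul_assoc] using this)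
      inv_mem' := by
        rintro x (hx | hx)
        · exact Or.inl (inv_mem hx)
        · have := mul_mem (conj_mem_of_mem_normalizer sn (inv_mem hx)) ss
          exact Or.inr (by simpa [mul_assoc] using this) }
  have m1 : ∀ y ∈ 𝐂[X], ¬ Pm y 1 → y ∉ M := by
    rintro y hy y1 (e | e)
    · exact y1 (h.qc e hy)
    · have := (Pm.rfl (a := y⁻¹)).mul (hq.pm_comm e hq.j_mem)
      rw [← mul_assoc _ j, h.cJ (inv_mem hy)] at this
      exact s1 (by simpa [mul_assoc] using this)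
  have m2 : ∀ b ∈ T, Pm (b * j) (j * b) → b * v ∈ Q8 hq ∨ b ∈ Q8 hq := fun b hb e => by
    obtain ⟨q, h1, c, h2, rfl⟩ := h.dec' hb e
    rcases hU c h2 with e | e
    · exact Or.inr (mul_mem h1 (pm e (one_mem _)))
    · exact Or.inl (mul_assoc q c v ▸ mul_mem h1 (pm ((e.mul Pm.rfl).trans v2) (one_mem _)))
  obtain ⟨g, g1, g2⟩ := hy.thompson (M := M) h.top
    (by rintro x (hx | hx); exacts [h.qT hx, (mul_mem_cancel_right hs).1 (h.qT hx)])
    (Or.inl hq.neg_mem) (relIndex_eq_two_iff_exists_notMem_and.2 ⟨v, hv.1, m1 v hv.2 v1, fun b hb => by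
      by_cases e : Pm (b * j) (j * b)
      · exact (m2 b hb e).imp Or.inl Or.inl
      · refine (m2 _ (mul_mem hb hs) (h.mul_out hb hs e s1)).imp (fun e => Or.inr (pm ?_ e)) Or.inr
        simpa only [mul_assoc] using (Pm.rfl (a := b)).mul (v3 s hs).symm⟩) v2 v3
  have := nb_cj hv.2 g
  exact m1 _ (h.exB this (nb_ne v1 g) (nb_sqc v2 g) g2 ▸ this) (nb_ne v1 g) g1

theorem caseA {H : Type*} [Group H] {π : G →* H} (hy : HY ρ π) (hA : ∀ c ∈ 𝐂[X], c * c ≠ -1) :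
    False := by
  obtain ⟨u, hu, u1, u2⟩ := h.ex
  obtain ⟨k, hk⟩ := h.exists_U hu u2
  obtain ⟨r, hr, r1, r2, r3⟩ := exists_cenZ h.syl.pgrp h.pU (le_normalizer_inf le_normalizer h.nC)
    fun e => nb_ne u1 k (e hk)
  have r4 : Rg r := ⟨r2.resolve_right (hA r hr.2), r1⟩
  have r5 : ∀ a ∈ T, Pm (a * r) (r * a) := fun a ha => (r3 a (mem_sup_left ha)).symm
  have c1 : ∀ c ∈ T ⊓ 𝐂[X], c * r = r * c → Pm c 1 ∨ Pm c r := fun c hc e => by
    obtain ⟨n, hn⟩ := isPGroup_iff.1 h.pU c hc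
    exact h.cent_two hq r4 (h.cI hr.2) (h.cJ hr.2) (h.cI hc.2) (h.cJ hc.2) e hn
  have c2 : ∀ c ∈ T ⊓ 𝐂[X], c * r = r * c := fun c hc => (r5 c hc.1).resolve_right fun e => by
    rcases c1 _ (mul_mem hc hc) (by rw [mul_assoc, e, mul_neg, ← mul_assoc, e]; simp [mul_assoc])
      with (e1 | e1) | e1
    · exact hA _ (mul_mem hc.2 hr.2) (by
        nth_rewrite 1 [e]; rw [neg_mul, mul_assoc, ← mul_assoc c, e1, one_mul, r4.sq])
    · exact hA c hc.2 e1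
    · exact h.not_both (e1.symm.comm (mul_assoc c c c).symm) e
  obtain ⟨g, g1, g2⟩ := hy.zstarS h.top hr.1 r1 r2
  refine h.exM hy hr r1 r2 r5 (fun c hc => c1 c hc (c2 c hc)) g1 (fun e => ?_) (nb_sqc r2 g)
  obtain ⟨q, h1, c, h2, e⟩ := h.dec' g1 e
  exact g2 (h.pm r4 (r4.conj g) (by
    rw [e, mul_assoc, c2 c h2, ← mul_assoc, ← nb_comm hr.2 (h.qX h1), mul_assoc]))

theorem cen (hu : u ∈ T ⊓ 𝐂[X]) (u2 : u * u = -1) (ha : a ∈ T) : Pm (a * u) (u * a) := by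
  simpa using (h.uniq h.pU inf_le_right (conj_mem_of_mem_normalizer
    (le_normalizer_inf le_normalizer h.nC ha) hu) hu (by simp [u2]) u2).mul (Pm.rfl (a := a))

theorem ncomm (hu : u ∈ 𝐂[X]) (u2 : u * u = -1) (hc : c ∈ 𝐂[X]) (c1 : Rg c) : c * u ≠ u * c :=
  fun e => (h.sq_ne hq c1 (h.cI hc) (h.cJ hc) (h.cI hu) (h.cJ hu) e.symm).1 u2

theorem exC (hu : u ∈ T ⊓ 𝐂[X]) (u2 : u * u = -1) (e : cj(g, X) = X') (hne : X' ≠ X) (hw : w ∈ T)
    (hw' : w ∈ 𝐂[X']) (w2 : w * w = -1) :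
    ¬ Pm (w * j) (j * w) ∧ w * i = -(i * w) ∧ w * u = -(u * w) := by
  subst e
  have h1 : ¬ Pm (w * j) (j * w) := fun e => by
    obtain ⟨q, q1, c, c1, rfl⟩ := h.dec' hw e
    have cq := nb_comm c1.2 (h.qX q1)
    have q2 : q * q = -1 := (hq.sq q1).resolve_left fun e => hne (h.uq g _ (h.ne_one w2) (Or.inr w2)
      (mul_mem (e.mem (nb_neg X) (one_mem _)) c1.2) hw')
    have c2 : c * c = 1 := by simpa [nb_sq cq, q2] using w2
    by_cases c3 : Pm c 1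
    · obtain ⟨x, -, hx⟩ := h.x5.conj h.toBs (mul_mem (h.qX q1) (c3.mem h.x5.neg (one_mem _)))
        (h.qX hq.i_mem) w2 hq.ii
      exact h.iB (g := x * g) (by rw [cj_mul]; exact hx.symm.mem (nb_neg _) (nb_cj hw' x))
    have c4 := (h.cen hu u2 c1.1).resolve_left (h.ncomm hu.2 u2 c1.2 ⟨c2, c3⟩)
    refine h.exA rfl hne hw' w2 (mul_mem c1.2 hu.2) (h.rg_anti c2 u2 c4) ?_
    rw [← mul_assoc, nb_comm (mul_mem c1.2 hu.2) (h.qX q1), mul_assoc, mul_assoc, mul_assoc q,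
      ← mul_neg, ← mul_neg, c4, neg_neg]
  have h2 : w * i = -(i * w) := (h.ci w hw).resolve_left fun e =>
    h1 (h.conj_j' hq (h.nQ hw) e (by simp [w2]))
  refine ⟨h1, h2, (h.cen hu u2 hw).resolve_left fun e => hne ?_⟩
  have t1 := h.rg_mul hq u2 (h.cI hu.2) (h.cJ hu.2)
  have t2 : u * i * w = -(w * (u * i)) := by
    rw [← mul_assoc, e, mul_assoc, mul_assoc, h2, mul_neg, neg_neg]
  refine h.exB ((h.toN2H.cj g).rho hw' w2 ((h.toN2H.cj g).norm hw' (h.ne_one w2) (Or.inr w2)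
    (Or.inr t2)) t1 t2) t1.ne (Or.inl t1.sq) fun a ha => ?_
  have e1 := (h.cen hu u2 ha).mul (Pm.rfl (a := i))
  have e2 := (Pm.rfl (a := u)).mul (h.ci a ha)
  simp only [mul_assoc] at e1 e2 ⊢
  exact e1.trans e2

theorem claim (hu : u ∈ T ⊓ 𝐂[X]) (u2 : u * u = -1) (hne : cj(g, X) ≠ X) (hw : w ∈ T)
    (hw' : w ∈ 𝐂[cj(g, X)]) (w2 : w * w = -1) : ∃ k, Pm (k * (w * (u * i)) * k⁻¹) i := by
  obtain ⟨-, wi, wu⟩ := h.exC hu u2 rfl hne hw hw' w2
  have h' := h.toN2H.cj g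
  have nm : ∀ a ∈ T, Pm (w * a) (a * w) → a ∈ T ⊓ 𝐍[cj(g, X)] := fun a ha e =>
    ⟨ha, h'.norm hw' (h.ne_one w2) (Or.inr w2) e.symm⟩
  obtain ⟨T', i', j', hq', f, le⟩ := h'.exists_NF (P := T ⊓ 𝐍[cj(g, X)]) h.syl.pgrp.to_inf_left
    inf_le_right
  have uT := le (nm u hu.1 (Or.inr wu))
  have iT := le (nm i (h.qT hq.i_mem) (Or.inr wi))
  have wT : w ∈ T' ⊓ 𝐂[cj(g, X)] := ⟨le (nm w hw Pm.rfl), hw'⟩
  have u1 := (f.exC wT w2 (cj_inv_cj g X) hne.symm uT hu.2 u2).1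
  have uq : ∀ c ∈ T' ⊓ 𝐂[cj(g, X)], c * c = -1 → Pm c w := fun c hc e =>
    f.uniq f.pU inf_le_right hc wT e w2
  have i1 : ¬ Pm (i * j') (j' * i) := fun e => by
    obtain ⟨q, q1, c, c1, e⟩ := f.dec' iT e
    have cq := nb_comm c1.2 (f.qX q1)
    have wc : w * c = -(c * w) := mul_left_cancel (a := q) (by
      rw [← mul_assoc, ← nb_comm hw' (f.qX q1), mul_assoc, ← e, wi, e, mul_neg, mul_assoc])
    have ii := hq.ii
    rw [e, nb_sq cq] at ii
    rcases hq'.sq q1 with q2 | q2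
    · exact h.not_both ((uq c c1 (by simpa [q2.sq] using ii)).comm rfl) wc
    have c2 : c * c = 1 := by simpa [q2] using ii
    have c3 : Rg c := ⟨c2, fun e => h.not_both (e.comm (by simp)) wc⟩
    have cw : c * w = -(w * c) := by rw [wc, neg_neg]
    have e1 : q⁻¹ * (u * q * u⁻¹) = c * (u * c * u⁻¹)⁻¹ := by
      rw [eq_mul_inv_iff_mul_eq, mul_assoc, conj_mul, ← e, h.cI hu.2, e]; group
    have e2 := f.qc (mul_mem (inv_mem q1) (conj_mem_of_mem_normalizer (f.nQ uT) q1))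
      (e1 ▸ mul_mem c1.2 (inv_mem (conj_mem_of_mem_normalizer (f.nC uT) c1.2)))
    rw [e1, ← pm_iff] at e2
    rcases (by simpa using e2.mul (Pm.rfl (a := u)) : Pm (c * u) (u * c)) with e3 | e3
    · refine h'.exA (cj_inv_cj g X) hne.symm hu.2 u2 (mul_mem c1.2 hw') (h.rg_anti c2 w2 cw) ?_
      rw [mul_assoc, wu, mul_neg, ← mul_assoc, e3, mul_assoc]
    · exact h'.exA (cj_inv_cj g X) hne.symm hu.2 u2 c1.2 c3 e3
  obtain ⟨q, q1, c, c1, e⟩ := f.dec' (mul_mem uT iT) (f.mul_out uT iT u1 i1)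
  have t1 := h.rg_mul hq u2 (h.cI hu.2) (h.cJ hu.2)
  have t2 : w * (u * i) = u * i * w := by
    rw [← mul_assoc, wu, neg_mul, mul_assoc, wi, mul_neg, neg_neg, mul_assoc]
  have cq := nb_comm c1.2 (f.qX q1)
  have wq := nb_comm hw' (f.qX q1)
  have wc : w * c = c * w := mul_left_cancel (a := q) (by
    rw [← mul_assoc, ← wq, mul_assoc, ← e, t2, e, mul_assoc])
  rcases hq'.sq q1 with q2 | q2
  · exact (f.ncomm hw' w2 c1.2 (t1.pm (by simpa [e] using (q2.mul (Pm.rfl (a := c))).symm))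
      wc.symm).elim
  have c2 : c * c = -1 := by
    have := t1.sq
    rw [e, nb_sq cq, q2, neg_one_mul] at this
    exact neg_eq_iff_eq_neg.1 this
  have e1 : Pm (w * (u * i)) q := by
    have := (Pm.rfl (a := q * w)).mul (uq c c1 c2)
    rw [mul_assoc q w w, w2, mul_neg, mul_one, ← wq, mul_assoc, ← e] at this
    exact this.trans (Pm.neg q)
  obtain ⟨x, -, hx⟩ := h'.x5.conj h.toBs (f.qX q1) (conj_mem_cj g (h.qX hq.i_mem)) q2 (hq.conj g).ii
  exact ⟨g⁻¹ * x, by simpa [mul_assoc] using ((e1.conj x).trans hx).conj g⁻¹⟩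

theorem caseB {H : Type*} [Group H] {π : G →* H} (hy : HY ρ π) (hu : u ∈ T ⊓ 𝐂[X])
    (u2 : u * u = -1) : False := by
  obtain ⟨g, hw, w1⟩ := hy.zstarS h.top hu.1 (h.ne_one u2) (Or.inr u2)
  have hw' := nb_cj hu.2 g
  have w2 : g * u * g⁻¹ * (g * u * g⁻¹) = -1 := by simp [u2]
  have hne : cj(g, X) ≠ X := fun e => w1 (h.uniq h.pU inf_le_right ⟨hw, e ▸ hw'⟩ hu w2 u2)
  obtain ⟨wj, wi, wu⟩ := h.exC hu u2 rfl hne hw hw' w2
  obtain ⟨k, hk⟩ := h.claim hu u2 hne hw hw' w2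
  have nc : ∀ x, ¬ Pm (x * (g * u * g⁻¹) * x⁻¹) (g * u * g⁻¹ * (u * i)) := fun x e =>
    h.iB (g := k * (x * g)) (by
      rw [cj_mul, cj_mul]
      exact ((e.conj k).trans hk).symm.mem (nb_neg _) (nb_cj (nb_cj hw' x) k))
  generalize g * u * g⁻¹ = w at *
  let K : Subgroup G :=
    { carrier := {x | Pm x 1 ∨ Pm x u}
      one_mem' := Or.inl Pm.rfl
      mul_mem' := by
        rintro x y (hx | hx) (hy | hy)
        · exact Or.inl (by simpa using hx.mul hy)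
        · exact Or.inr (by simpa using hx.mul hy)
        · exact Or.inr (by simpa using hx.mul hy)
        · exact Or.inl ((hx.mul hy).trans (Or.inr u2))
      inv_mem' := by
        rintro x (hx | hx)
        · exact Or.inl (by simpa using hx.inv)
        · exact Or.inr (hx.inv.trans (Or.inr (inv_of_sq u2))) }
  by_cases hU : T ⊓ 𝐂[X] ≤ K
  · exact h.exM hy hu (h.ne_one u2) (Or.inr u2) (fun a => h.cen hu u2) hU hw wj (Or.inr w2)
  obtain ⟨c, hc, c1, c2, c3⟩ := exists_cen h.syl.pgrp inf_le_left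
    (le_normalizer_inf le_normalizer h.nC) (le_normalizer_iff_cj.2 fun a ha =>
      cj_le_iff_forall.2 (by
        rintro x (hx | hx)
        · exact Or.inl (by simpa using hx.conj a)
        · exact Or.inr ((hx.conj a).trans (by
            simpa using (h.cen hu u2 ha).mul (Pm.rfl (a := a⁻¹)))))) hU
  rcases c3 w hw with e | e
  · have e1 : Pm (c * w) (w * c) := pm_iff.2 (by simpa [mul_assoc] using e)
    rcases c2 with (e2 | e2) | e2
    · have c4 : Rg c := ⟨e2, fun e => c1 (Or.inl e)⟩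
      have c5 := (h.cen hu u2 hc.1).resolve_left (h.ncomm hu.2 u2 hc.2 c4)
      rcases e1 with e1 | e1
      · refine h.exA rfl hne hw' w2 (mul_mem hc.2 hu.2) (h.rg_anti e2 u2 c5) ?_
        rw [← mul_assoc, ← e1, mul_assoc, mul_assoc, wu, mul_neg, neg_neg]
      · exact h.exA rfl hne hw' w2 hc.2 c4 e1
    · exact c1 (Or.inr (h.uniq h.pU inf_le_right hc hu e2 u2))
    · refine h.not_both (e2.symm.comm ?_) wu
      rcases e1 with e1 | e1 <;> rw [mul_assoc, e1, ← mul_assoc] <;> simp [← mul_assoc, e1]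
  · refine nc (j * c) ?_
    have e1 := (e.mul (Pm.rfl (a := w))).conj j
    have e2 := ((Pm.rfl (a := i)).mul (h.out hw wj)).conj u
    rw [← mul_assoc j u, ← h.cJ hu.2] at e1
    rw [← mul_assoc w, wu, neg_mul, mul_assoc u, wi, mul_neg, neg_neg]
    have e3 := (e2.trans (Or.inr (by simp [mul_assoc, hq.ii']) : Pm _ (u * (j * w) * u⁻¹))).mul
      (Pm.rfl (a := u * j⁻¹))
    simp only [mul_assoc, mul_inv_rev, inv_mul_cancel_left, mul_inv_cancel, inv_mul_cancel,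
      mul_one] at e1 e3 ⊢
    exact e1.trans e3.symm

end NF

/-- PROOF. "central" = commutes up to sign with all of T.  T Sylow in N(X) is Sylow in G (N(T) ≤ N(X) by `pair`; `isSyl_of_isSyl_normalizer`).
Q = T ⊓ X = Q8 i j with i central (`fix_one`), U = T ⊓ C(X), T0 = {a ∈ T | a j = ± j a} = Q U (`dec`); a ∈ T \ T0 has a j = ± i j a (`conj_j`), so a product of two such is in T0.
(B) v ∈ C(cj(g,X)), v ≠ ±1 = v², v central ⇒ cj(g,X) = X  (`norm` for cj(g,X), `pair`).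
(A) X' = cj(g,X) ≠ X, w ∈ C(X'), w² = -1, r ∈ C(X) a reflection ⇒ r w ≠ - w r (`norm`, `rho` for X', `uq`).
(M) If U ⊆ {±1, ±v}, v ∈ U central, v ≠ ±1 = v², s ∈ T \ T0 with s² = ±1: M = Q ⊔ ⟨s⟩ = Q ∪ Q s has index 2 in T (x ∈ M xor v x ∈ M; `relIndex_eq_two_iff`),
`HY.thompson` gives a central g v g⁻¹ ∈ M; it is not q s (it fixes ± j), so it lies in Q; by (B) it lies in C(X) too, so it is ±1 (`cent_Q8`): contradiction.
Case A: no element of C(X) has square -1.  r ∈ U central reflection (`exists_cenZ`); U = {±1, ±r} (c commuting with r: `cent_two`; c anticommuting: c² commutes with r, c² = ±r would make c commute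
with r, c² = 1 gives (c r)² = -1).  `zstarS`: s = g r g⁻¹ ∈ T, s ≠ ±r, s r = - r s (`Bs.pm`), s ∉ T0 as Q U centralises r.  (M).
Case B: u0 ∈ U, u0² = -1, central (`uniq`); reflections r ∈ U anticommute with u0 (`sq_ne`).
(C) (state it for arbitrary X, T, i, j, u0 as above) w ∈ T ∩ C(X'), X' = cj(g,X) ≠ X, w² = -1 ⇒ w ∉ T0, w i = - i w, w u0 = - u0 w.  If w = q c: q ≠ ±1 (`uq`), c² = 1; c a reflection r: r u0 ∈ C(X) is a reflection
anticommuting with w, against (A); c = ±1: w ∈ X, ± i = x w x⁻¹ (`X5.conj`) ∈ C(cj(x g, X)) is central, (B) gives i ∈ C(X), false.  w i = i w contradicts `conj_j'`.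
If w u0 = u0 w then t = u0 i is a central reflection anticommuting with w, t ∈ C(X') (`norm`, `rho`), (B) gives X' = X.
`zstarS` gives w = g u0 g⁻¹ ∈ T, w ≠ ± u0; X' = cj(g,X) ≠ X (`uniq`).  t = u0 i commutes with w.  Claim w t is conjugate to ± i, hence (B again: i ∉ C(X)) not to ± u0 or ± w.
Take T' Sylow in N(X') containing the 2-group ⟨u0, i, w⟩ (`norm`), Q' = Q8 i' j', T0'.  (C) for (X', T', w; u0) gives u0 ∉ T0'.  If i ∈ T0', i = q c, c ∈ C(X') anticommutes with w; q = ±1 gives c = ± w (`uniq`), false;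
so q² = -1, c = r a reflection; u0 commutes with q r and normalises Q', C(X'), Q' ∩ C(X') = ±1, so u0 r = ± r u0 and u0 anticommutes with r or w r, against (A).  So i ∉ T0', t ∈ T0', t = q c, c commutes with w;
q = ±1 contradicts `sq_ne`; so c² = -1, c = ± w, w t = ± q ∈ X', conjugate to ± g i g⁻¹ (`X5.conj`).
Finally K = {±1, ±u0} = ⟨u0⟩.  If U ≤ K use (M) with v = u0, s = w.  Otherwise `exists_cen` (P = T, N = U, K): c ∈ U \ K, c² ∈ K, c w c⁻¹ w⁻¹ ∈ K.  If c w c⁻¹ = ± u0 w then, as j w j⁻¹ = ± i w,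
(j c) w (j c)⁻¹ = ± t w = ± w t, contradiction.  If c w = ± w c: c² = ± u0 would commute with w; c² = -1 gives c = ± u0; c² = 1: c is a reflection, c or c u0 anticommutes with w, against (A). -/
theorem HY.n2 {H : Type*} [Group H] {π : G →* H} (h : HY ρ π) {X : Subgroup G} (hX : N2H ρ X) :
    False := by
  obtain ⟨T, i, j, hq, f, -⟩ := hX.exists_NF IsPGroup.of_bot bot_le
  by_cases hA : ∀ c ∈ 𝐂[X], c * c ≠ -1
  · exact f.caseA h hA
  push Not at hA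
  obtain ⟨c, hc, c2⟩ := hA
  obtain ⟨k, hk⟩ := f.exists_U hc (Or.inr c2)
  exact f.caseB h hk (by simp [c2])

end Cfsg.Agent.GD2
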