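import Cfsg.Agent.GD2.Defs
import Cfsg.Prelude.Def_SporadicB

/-! S3259, irreducible groups without reflections, part 1. -/

set_option autoImplicit false
set_option linter.unusedSectionVars false

namespace Cfsg.Agent.GD2

open Subgroup Matrix

variable {R : Type*} [Ring R] [Algebra ℚ R] [Nontrivial R] [Rk2 R]
variable {G : Type*} [Group G]

theorem nr_abs [Finite G] (ρ : G →* R) {p : ℕ} {c d : G} (hc : c ^ p = 1) (hd : d ∈ zpowers c) :
    ρ d * en p (ρ c) = en p (ρ c) := by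
  obtain ⟨k, rfl⟩ := mem_powers_iff_mem_zpowers.2 hd
  have h1 : ρ c * en p (ρ c) = en p (ρ c) := mul_en (by rw [← map_pow, hc, map_one])
  induction k with
  | zero => simp
  | succ k ih =>
    simp only at ih ⊢
    rw [pow_succ, map_mul, mul_assoc, h1]
    exact ih (pow_mem (mem_zpowers c) k)

theorem nr_gen [Finite G] {p : ℕ} (hp : p.Prime) {c d : G} (hc : orderOf c = p)
    (hd : d ∈ zpowers c) (h1 : d ≠ 1) : orderOf d = p ∧ c ∈ zpowers d := by
  have h2 : orderOf d = p := by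
    have := orderOf_dvd_of_mem_zpowers hd
    rw [hc] at this
    exact ((Nat.dvd_prime hp).1 this).resolve_left fun e => h1 (orderOf_eq_one_iff.1 e)
  refine ⟨h2, ?_⟩
  have : zpowers d = zpowers c := eq_of_le_of_card_ge (zpowers_le.2 hd)
    (by rw [Nat.card_zpowers, Nat.card_zpowers, h2, hc])
  rw [this]; exact mem_zpowers c

theorem nr_en_comm (ρ : G →* R) {p q : ℕ} {a b : G} (h : a * b = b * a) :
    en p (ρ a) * en q (ρ b) = en q (ρ b) * en p (ρ a) :=
  en_conj (en_conj (by rw [← map_mul, ← map_mul, h])).symm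

theorem nr_en_eq [Finite G] (ρ : G →* R) {p : ℕ} (hp : p.Prime) {c d : G} (hc : orderOf c = p)
    (hd : d ∈ zpowers c) (h1 : d ≠ 1) : en p (ρ d) = en p (ρ c) := by
  obtain ⟨h2, h3⟩ := nr_gen hp hc hd h1
  have a := en_abs hp.ne_zero (nr_abs ρ (hc ▸ pow_orderOf_eq_one c) hd)
  have b := en_abs hp.ne_zero (nr_abs ρ (h2 ▸ pow_orderOf_eq_one d) h3)
  have hcm : c * d = d * c := by
    obtain ⟨k, rfl⟩ := hd
    exact (Commute.zpow_right (Commute.refl c) k).eq
  rw [← b, nr_en_comm ρ hcm, a]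

theorem nr_ne_one {ρ : G →* R} (hρ : Function.Injective ρ) {p : ℕ} {c : G} (hc : c ^ p = 1)
    (h1 : c ≠ 1) : en p (ρ c) ≠ 1 := fun e => by
  have := mul_en (p := p) (x := ρ c) (by rw [← map_pow, hc, map_one])
  rw [e, mul_one, ← map_one ρ] at this
  exact h1 (hρ this)

theorem TQ.half [Fintype G] {ρ : G →* R} {T : R →ₗ[ℚ] ℚ} (h : TQ ρ T) {e : R} (he : e ∈ Sp ρ)
    (h1 : e * e = e) (h2 : e ≠ 1) : T e = 0 ∨ T e = 1 / 2 := by
  rcases h.idem e he h1 with a | a | a
  · left; rw [a, map_zero]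
  · exact absurd a h2
  · exact Or.inr a

/-- No Frobenius group `Z_p ⋊ Z_r`, `r` odd. -/
theorem TQ.no_frob [Fintype G] {ρ : G →* R} {T : R →ₗ[ℚ] ℚ} (h : TQ ρ T) {p r : ℕ} (hp : p.Prime)
    (hr : r.Prime) (hr2 : r ≠ 2) {c x : G} (hc : orderOf c = p) (hx : orderOf x = r)
    (hn : x * c * x⁻¹ ∈ zpowers c) : x * c = c * x := by
  by_contra hne
  have cp : c ^ p = 1 := hc ▸ pow_orderOf_eq_one c
  have xr : x ^ r = 1 := hx ▸ pow_orderOf_eq_one x
  have c1 : c ≠ 1 := fun e => hne (by simp [e])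
  have x1 : x ≠ 1 := fun e => hne (by simp [e])
  have hK := en_idem (x := ρ c) hp.ne_zero (by rw [← map_pow, cp, map_one])
  have hX := en_idem (x := ρ x) hr.ne_zero (by rw [← map_pow, xr, map_one])
  have K1 := nr_ne_one h.inj cp c1
  have X1 := nr_ne_one h.inj xr x1
  have cm : ρ x * en p (ρ c) = en p (ρ c) * ρ x := by
    rw [en_conj (y := ρ (x * c * x⁻¹)) (by rw [← map_mul, ← map_mul, inv_mul_cancel_right]),
      nr_en_eq ρ hp hc hn (fun e => c1 (by simpa using e))]
  have cm2 : en p (ρ c) * en r (ρ x) = en r (ρ x) * en p (ρ c) := en_conj cm.symm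
  have a1 := h.half (en_mem ρ c) hK K1
  have a2 := h.half (en_mem ρ x) hX X1
  have a3 := h.half (mul_mem (en_mem (p := p) ρ c) (en_mem (p := r) ρ x)) (by
    rw [mul_assoc, ← mul_assoc (en r _), ← cm2, mul_assoc, hX, ← mul_assoc, hK]) (fun e => K1 (by
    rw [← e, ← mul_one (en p (ρ c))]
    nth_rw 1 [← e]
    rw [← mul_assoc, hK, mul_one]))
  have nz : ∀ k : ℕ, x ^ k * c * (x ^ k)⁻¹ ∈ zpowers c := fun k => by
    induction k with
    | zero => simp
    | succ k ih =>
      obtain ⟨j, hj⟩ := ih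
      have : x ^ (k + 1) * c * (x ^ (k + 1))⁻¹ = (x * c * x⁻¹) ^ j := by
        simp only at hj
        rw [conj_zpow, hj, pow_succ']; group
      rw [this]; exact zpow_mem hn j
  have key : ∀ m, 0 < m → m < r → T (en p (ρ c) * ρ x ^ m) = T (ρ x ^ m) := fun m h0 hm => by
    have y1 : x ^ m ≠ 1 := pow_ne_one_of_lt_orderOf h0.ne' (hx ▸ hm)
    obtain ⟨-, j, hj⟩ := nr_gen hr hx (pow_mem (mem_zpowers x) m) y1
    have hz := nz m
    rw [← map_pow]
    generalize x ^ m = y at *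
    have hd : c * (y * c * y⁻¹)⁻¹ ∈ zpowers c := mul_mem (mem_zpowers c) (inv_mem hz)
    have d1 : c * (y * c * y⁻¹)⁻¹ ≠ 1 := fun e => hne (by
      rw [mul_inv_eq_one, eq_mul_inv_iff_mul_eq] at e
      rw [← hj]
      exact (Commute.zpow_left (show Commute y c from e.symm) j).eq)
    have hcm : Commute c (y * c * y⁻¹)⁻¹ := by
      obtain ⟨k, hk⟩ := hz
      rw [← hk]
      exact (Commute.zpow_right (Commute.refl c) k).inv_right
    have e1 : ∀ l : ℕ, T (ρ (c * (y * c * y⁻¹)⁻¹) ^ l * ρ y) = T (ρ y) := fun l => by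
      rw [← map_pow, ← map_mul, hcm.mul_pow, inv_pow, conj_pow, ← h.conj (c ^ l) y]
      congr 2; group
    rw [← nr_en_eq ρ hp hc hd d1, en, nm, smul_mul_assoc, Finset.sum_mul, map_smul, map_sum]
    simp only [e1, Finset.sum_const, Finset.card_range, smul_eq_mul, nsmul_eq_mul]
    have : (p : ℚ) ≠ 0 := Nat.cast_ne_zero.2 hp.ne_zero
    field_simp
  have hr0 : (r : ℚ) ≠ 0 := Nat.cast_ne_zero.2 hr.ne_zero
  have main : (r : ℚ) * (T (en r (ρ x)) - T (en p (ρ c) * en r (ρ x))) = 1 - T (en p (ρ c)) := by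
    have : T (en r (ρ x)) - T (en p (ρ c) * en r (ρ x)) = (r : ℚ)⁻¹ *
        ∑ m ∈ Finset.range r, (T (ρ x ^ m) - T (en p (ρ c) * ρ x ^ m)) := by
      generalize en p (ρ c) = e
      rw [en, nm, mul_smul_comm, Finset.mul_sum, map_smul, map_smul, map_sum, map_sum,
        Finset.sum_sub_distrib, mul_sub]; rfl
    rw [this, mul_inv_cancel_left₀ hr0, Finset.sum_eq_single 0 (fun m hm h0 => by
      rw [key m (Nat.pos_of_ne_zero h0) (Finset.mem_range.1 hm), sub_self])
      (fun h => absurd (Finset.mem_range.2 hr.pos) h), pow_zero, mul_one, h.one]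
  have r3 : (3 : ℚ) ≤ r := by
    have := hr.two_le
    exact_mod_cast (by omega : 3 ≤ r)
  rcases a1 with a1 | a1 <;> rcases a2 with a2 | a2 <;> rcases a3 with a3 | a3 <;>
    rw [a1, a2, a3] at main <;> linarith

theorem not_2A7 [Finite G] {ρ : G →* R} (hρ : Function.Injective ρ) (hn : ¬ Red ρ)
    (h : Cfsg.IsNonsplitDoubleCover G ↥(alternatingGroup (Fin 7))) : False := by
  obtain ⟨h2, ⟨φ⟩, -⟩ := h
  let _ := Fintype.ofFinite G
  obtain ⟨T, hT⟩ := exists_TQ hρ hn
  let π : G →* Equiv.Perm (Fin 7) := (alternatingGroup (Fin 7)).subtype.comp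
    (φ.toMonoidHom.comp (QuotientGroup.mk' (center G)))
  have hk : ∀ g, π g = 1 ↔ g ∈ center G := fun g => by
    change ((φ (g : G ⧸ center G) : alternatingGroup (Fin 7)) : Equiv.Perm (Fin 7)) = 1 ↔ _
    rw [OneMemClass.coe_eq_one, MulEquiv.map_eq_one_iff, QuotientGroup.eq_one_iff]
  have hs : ∀ s ∈ alternatingGroup (Fin 7), ∃ g, π g = s := fun s hs => by
    obtain ⟨g, hg⟩ := QuotientGroup.mk'_surjective (center G) (φ.symm ⟨s, hs⟩)
    refine ⟨g, ?_⟩
    change ((φ (QuotientGroup.mk' (center G) g) : alternatingGroup (Fin 7)) :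
      Equiv.Perm (Fin 7)) = s
    rw [hg, MulEquiv.apply_symm_apply]
  have hsq : ∀ g, π g = 1 → g ^ 2 = 1 := fun g hg => by
    rw [← h2]; exact congrArg Subtype.val (pow_card_eq_one' (x := (⟨g, (hk g).1 hg⟩ : center G)))
  let c' : Equiv.Perm (Fin 7) := Equiv.swap 0 1 * Equiv.swap 1 2 * Equiv.swap 2 3 *
    Equiv.swap 3 4 * Equiv.swap 4 5 * Equiv.swap 5 6
  let x' : Equiv.Perm (Fin 7) := Equiv.swap 1 2 * Equiv.swap 2 4 * Equiv.swap 3 6 * Equiv.swap 6 5
  have c7 : c' ^ 7 = 1 := by decide +kernel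
  have x3 : x' ^ 3 = 1 := by decide
  have cx : x' * c' * x'⁻¹ * (c' ^ 2)⁻¹ = 1 := by decide +kernel
  have ne : x' * c' ≠ c' * x' := by decide
  obtain ⟨c0, hc0⟩ := hs c' (by simp [c', Equiv.Perm.mem_alternatingGroup])
  obtain ⟨x0, hx0⟩ := hs x' (by simp [x', Equiv.Perm.mem_alternatingGroup])
  have pc : π (c0 ^ 8) = c' := by rw [map_pow, hc0, pow_succ, c7, one_mul]
  have px : π (x0 ^ 4) = x' := by rw [map_pow, hx0, pow_succ, x3, one_mul]
  have qc : (c0 ^ 8) ^ 7 = 1 := by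
    rw [← pow_mul, show 8 * 7 = 7 * 2 * 4 by norm_num, pow_mul, pow_mul,
      hsq _ (by rw [map_pow, hc0, c7]), one_pow]
  have qx : (x0 ^ 4) ^ 3 = 1 := by
    rw [← pow_mul, show 4 * 3 = 3 * 2 * 2 by norm_num, pow_mul, pow_mul,
      hsq (x0 ^ 3) (by rw [map_pow, hx0, x3]), one_pow]
  generalize c0 ^ 8 = c at *
  generalize x0 ^ 4 = x at *
  have k1 : π (x * c * x⁻¹ * (c ^ 2)⁻¹) = 1 := by
    simp only [map_mul, map_inv, map_pow, pc, px, cx]
  have k2 := hsq _ k1
  have k3 : Commute (x * c * x⁻¹ * (c ^ 2)⁻¹) (c ^ 2) :=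
    (mem_center_iff.1 ((hk _).1 k1) _).symm
  have k4 := k3.mul_pow 7
  rw [inv_mul_cancel_right, conj_pow, qc, ← pow_mul, mul_comm 2 7, pow_mul, qc, one_pow, mul_one,
    mul_one, mul_inv_cancel, show 7 = 2 * 3 + 1 by norm_num, pow_succ, pow_mul, k2, one_pow,
    one_mul, eq_comm, mul_inv_eq_one] at k4
  have f7 : Fact (Nat.Prime 7) := ⟨by norm_num⟩
  have := hT.no_frob (p := 7) (r := 3) (by norm_num) (by norm_num) (by norm_num) (c := c) (x := x)
    (orderOf_eq_prime qc fun e => ne (by rw [← pc, e]; simp))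
    (orderOf_eq_prime qx fun e => ne (by rw [← px, e]; simp))
    (by rw [k4]; exact pow_mem (mem_zpowers c) 2)
  exact ne (by rw [← pc, ← px, ← map_mul, this, map_mul])

section SL

variable {F : Type*} [Field F]

/-- upper unitriangular matrices -/
def nrU : Multiplicative F →* SpecialLinearGroup (Fin 2) F where
  toFun := fun b => ⟨!![1, b.toAdd; 0, 1], by simp [det_fin_two]⟩
  map_one' := Subtype.ext (by ext i j; fin_cases i <;> fin_cases j <;> simp)
  map_mul' := fun a b => Subtype.ext (by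
    change (!![1, (a * b).toAdd; 0, 1] : Matrix (Fin 2) (Fin 2) F) =
      !![1, a.toAdd; 0, 1] * !![1, b.toAdd; 0, 1]
    simp [add_comm])

/-- diagonal matrices -/
def nrD : Fˣ →* SpecialLinearGroup (Fin 2) F where
  toFun := fun a => ⟨!![(a : F), 0; 0, (a : F)⁻¹], by simp [det_fin_two]⟩
  map_one' := Subtype.ext (by ext i j; fin_cases i <;> fin_cases j <;> simp)
  map_mul' := fun a b => Subtype.ext (by
    change (!![((a * b : Fˣ) : F), 0; 0, ((a * b : Fˣ) : F)⁻¹] : Matrix (Fin 2) (Fin 2) F) =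
      !![(a : F), 0; 0, (a : F)⁻¹] * !![(b : F), 0; 0, (b : F)⁻¹]
    simp [mul_comm])

theorem nrU_coe (b : Multiplicative F) :
    (nrU b : Matrix (Fin 2) (Fin 2) F) = !![1, b.toAdd; 0, 1] := rfl

theorem nrD_coe (a : Fˣ) :
    (nrD a : Matrix (Fin 2) (Fin 2) F) = !![(a : F), 0; 0, (a : F)⁻¹] := rfl

theorem nrU_inj : Function.Injective (nrU (F := F)) := fun a b h => by
  have := congrArg (fun g : SpecialLinearGroup (Fin 2) F => g.1 0 1) h
  simpa [nrU_coe] using this

theorem nrD_inj : Function.Injective (nrD (F := F)) := fun a b h => by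
  have := congrArg (fun g : SpecialLinearGroup (Fin 2) F => g.1 0 0) h
  exact Units.ext (by simpa [nrD_coe] using this)

theorem nrD_conj (a : Fˣ) (b : F) : nrD a * nrU (Multiplicative.ofAdd b) =
    nrU (Multiplicative.ofAdd ((a : F) ^ 2 * b)) * nrD a := by
  refine Matrix.SpecialLinearGroup.ext _ _ fun i j => ?_
  rw [Matrix.SpecialLinearGroup.coe_mul, Matrix.SpecialLinearGroup.coe_mul, nrU_coe, nrU_coe, nrD_coe]
  fin_cases i <;> fin_cases j <;> simp
  field_simp

theorem nrU_pow (b : F) (m : ℕ) : nrU (Multiplicative.ofAdd b) ^ m =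
    nrU (Multiplicative.ofAdd ((m : F) * b)) := by
  rw [← map_pow, ← ofAdd_nsmul, nsmul_eq_mul]

theorem nrU_ord {p : ℕ} [Fact p.Prime] [CharP F p] {b : F} (hb : b ≠ 0) :
    orderOf (nrU (Multiplicative.ofAdd b)) = p :=
  orderOf_eq_prime (by rw [nrU_pow, CharP.cast_eq_zero, zero_mul]; exact map_one _) fun e =>
    hb (by simpa using nrU_inj (e.trans (map_one _).symm))

end SL

theorem sl2_card {F : Type*} [Field F] [Fintype F] {ρ : SpecialLinearGroup (Fin 2) F →* R}
    (hρ : Function.Injective ρ) (hn : ¬ Red ρ) (ho : Odd (Fintype.card F)) :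
    Fintype.card F = 9 ∨ ((Fintype.card F).Prime ∧ ∃ k, Fintype.card F = 2 ^ k + 1) := by
  classical
  obtain ⟨p, hch⟩ := CharP.exists F
  obtain ⟨n, hp, hq⟩ := FiniteField.card F p
  have := Fact.mk hp
  obtain ⟨T, hT⟩ := exists_TQ hρ hn
  let u : F → SpecialLinearGroup (Fin 2) F := fun b => nrU (Multiplicative.ofAdd b)
  have ui : Function.Injective u := fun a b h => Multiplicative.ofAdd.injective (nrU_inj h)
  have u0 : u 0 = 1 := map_one nrU
  have up : ∀ b, u b ^ p = 1 := fun b => by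
    change nrU _ ^ p = 1
    rw [nrU_pow, CharP.cast_eq_zero, zero_mul]; exact u0
  have uc : ∀ a b, u a * u b = u b * u a := fun a b => by
    change nrU _ * nrU _ = nrU _ * nrU _
    rw [← map_mul, mul_comm, map_mul]
  have ucl : ∀ a b, ∀ v ∈ closure {u a, u b}, ∃ β, v = u β := fun a b v hv => by
    have : closure {u a, u b} ≤ nrU.range := (closure_le _).2 (by
      rintro _ (rfl | rfl) <;> exact ⟨_, rfl⟩)
    obtain ⟨β, rfl⟩ := this hv
    exact ⟨β.toAdd, rfl⟩
  by_cases h1 : (n : ℕ) = 1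
  · rw [hq, h1, pow_one]
    refine Or.inr ⟨hp, ?_⟩
    have h2 : p - 1 ≠ 0 := by have := hp.two_le; omega
    refine ⟨_, (Nat.sub_add_cancel hp.pos).symm.trans (congrArg (· + 1)
      (Nat.eq_prime_pow_of_unique_prime_dvd (p := 2) h2 fun {r} hr hd => ?_))⟩
    by_contra hr2
    have := Fact.mk hr
    obtain ⟨a, ha⟩ := exists_prime_orderOf_dvd_card' (G := (ZMod p)ˣ) r (by
      rwa [Nat.card_eq_fintype_card, ZMod.card_units])
    let f := ZMod.castHom (dvd_refl p) F
    have fi : Function.Injective (Units.map (f : ZMod p →* F)) := Units.map_injective f.injective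
    let α := Units.map (f : ZMod p →* F) a
    have hα : orderOf α = r := (orderOf_injective _ fi a).trans ha
    have h3 := hT.no_frob hp hr hr2 (c := u 1) (x := nrD α) (nrU_ord one_ne_zero)
      ((orderOf_injective _ nrD_inj α).trans hα) (by
        rw [nrD_conj, mul_inv_cancel_right]
        refine ⟨(((a : ZMod p) ^ 2).val : ℕ), ?_⟩
        simp only [zpow_natCast, u]
        rw [nrU_pow, ZMod.natCast_val, ← ZMod.castHom_apply (h := dvd_refl p), map_pow]; rfl)
    rw [nrD_conj, mul_left_inj] at h3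
    have h4 : α ^ 2 = 1 := Units.ext (by simpa using ui h3)
    exact hr2 ((Nat.prime_dvd_prime_iff_eq hr Nat.prime_two).1 (hα ▸ orderOf_dvd_of_pow_eq_one h4))
  left
  have hn2 : 2 ≤ (n : ℕ) := by have := n.pos; omega
  have hpp : p ^ 2 ≤ Fintype.card F := hq ▸ Nat.pow_le_pow_right hp.pos hn2
  let e : F → R := fun b => en p (ρ (u b))
  have ee : ∀ b, e b * e b = e b := fun b => en_idem hp.ne_zero (by rw [← map_pow, up, map_one])
  have e1 : ∀ b, b ≠ 0 → e b ≠ 1 := fun b hb => nr_ne_one hρ (up b) fun h => hb (ui (h.trans u0.symm))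
  have ec : ∀ a b, e a * e b = e b * e a := fun a b => nr_en_comm ρ (uc a b)
  let L : F → Finset F := fun b => Finset.univ.filter fun b' => u b' ∈ zpowers (u b)
  have hL : ∀ b, b ≠ 0 → (L b).card ≤ p := fun b hb => by
    rw [← nrU_ord (p := p) hb, ← Nat.card_zpowers, ← Nat.card_eq_finsetCard]
    exact Nat.card_le_card_of_injective (fun x => ⟨u x, (Finset.mem_filter.1 x.2).2⟩)
      fun x y h => Subtype.ext (ui (congrArg Subtype.val h))
  have hL' : ∀ b, b ≠ 0 → ((L b).erase 0).card ≤ p - 1 := fun b hb => by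
    rw [Finset.card_erase_of_mem (Finset.mem_filter.2 ⟨Finset.mem_univ _, u0 ▸ one_mem _⟩)]
    exact Nat.sub_le_sub_right (hL b hb) 1
  obtain ⟨b0, hb0, g0⟩ : ∃ b, b ≠ 0 ∧ e b ≠ 0 := by
    by_contra hno
    push Not at hno
    have h2 : L 1 = Finset.univ := Finset.eq_univ_of_forall fun b =>
      Finset.mem_filter.2 ⟨Finset.mem_univ _, mem_of_free ρ one_ne_zero (nrU_ord one_ne_zero)
        (up b) (uc 1 b) fun v hv v1 _ => by
          obtain ⟨β, rfl⟩ := ucl _ _ v hv
          rw [nm_eq hp.ne_zero, show en p (ρ (u β)) = 0 from hno β fun h => v1 (h ▸ u0),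
            smul_zero, zero_mul]⟩
    have h3 := hL 1 one_ne_zero
    rw [h2, Finset.card_univ] at h3
    have := hp.two_le
    nlinarith
  have line : ∀ b b', b ≠ 0 → e b ≠ 0 → e b' = e b → b' ∈ L b := fun b b' hb gb h => by
    have hI : Idm (e b) := ⟨ee b, gb, e1 b hb⟩
    refine Finset.mem_filter.2 ⟨Finset.mem_univ _, mem_of_free ρ hI.compl.ne0 (nrU_ord hb)
      (up b') (uc b b') fun v hv v1 v2 => ?_⟩
    have h2 : ρ v * e b = e b := by
      clear v1 v2
      induction hv using closure_induction with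
      | mem x hx =>
        rcases hx with rfl | rfl
        · exact mul_en (by rw [← map_pow, up, map_one])
        · rw [← h]; exact mul_en (by rw [← map_pow, up, map_one])
      | one => simp
      | mul x y _ _ hx hy => rw [map_mul, mul_assoc, hy, hx]
      | inv x _ hx =>
        nth_rw 1 [← hx]
        rw [← mul_assoc, ← map_mul, inv_mul_cancel, map_one, one_mul]
    obtain ⟨β, rfl⟩ := ucl _ _ v hv
    have h3 : e β * e b = e b := en_abs hp.ne_zero h2
    have h4 : e β = e b := by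
      rcases hI.cases (ee β) (ec β b) with h4 | h4 | h4 | h4
      · rw [h4, zero_mul] at h3; exact absurd h3.symm gb
      · exact h4
      · rw [h4, sub_mul, one_mul, ee, sub_self] at h3; exact absurd h3.symm gb
      · exact absurd h4 (e1 β fun h => v1 (h ▸ u0))
    rw [nm_eq hp.ne_zero, show en p (ρ (u β)) = e b from h4, smul_mul_assoc, mul_sub, mul_one, ee,
      sub_self, smul_zero]
  have hI : Idm (e b0) := ⟨ee b0, g0, e1 b0 hb0⟩
  obtain ⟨b1, hb1, h2⟩ : ∃ b1, b1 ≠ 0 ∧ ∀ b, b ≠ 0 → e b ≠ 0 → b ∈ L b0 ∨ b ∈ L b1 := by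
    by_cases hx : ∃ b1, b1 ≠ 0 ∧ e b1 = 1 - e b0
    · obtain ⟨b1, hb1, h⟩ := hx
      refine ⟨b1, hb1, fun b hb gb => ?_⟩
      rcases hI.cases (ee b) (ec b b0) with h4 | h4 | h4 | h4
      · exact absurd h4 gb
      · exact Or.inl (line _ _ hb0 g0 h4)
      · exact Or.inr (line _ _ hb1 (h ▸ hI.compl.ne0) (h4.trans h.symm))
      · exact absurd h4 (e1 b hb)
    · refine ⟨b0, hb0, fun b hb gb => Or.inl ?_⟩
      rcases hI.cases (ee b) (ec b b0) with h4 | h4 | h4 | h4
      · exact absurd h4 gb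
      · exact line _ _ hb0 g0 h4
      · exact absurd ⟨b, hb, h4⟩ hx
      · exact absurd h4 (e1 b hb)
  have cnt := Finset.card_le_mul_card_image_of_maps_to (s := (Finset.univ : Finset Fˣ))
    (t := (L b0).erase 0 ∪ (L b1).erase 0) (f := fun a : Fˣ => (a : F) ^ 2 * b0) (fun a _ => by
      have a0 : (a : F) ^ 2 * b0 ≠ 0 := mul_ne_zero (pow_ne_zero _ a.ne_zero) hb0
      have a1 : e ((a : F) ^ 2 * b0) ≠ 0 := fun h => g0 (by
        have h5 : ρ (nrD a) * e b0 = e ((a : F) ^ 2 * b0) * ρ (nrD a) :=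
          en_conj (by rw [← map_mul, ← map_mul]; exact congrArg ρ (nrD_conj a b0))
        have h6 := congrArg (ρ (nrD a)⁻¹ * ·) h5
        simp only [h, zero_mul, mul_zero] at h6
        rwa [← mul_assoc, ← map_mul, inv_mul_cancel, map_one, one_mul] at h6)
      simp only [Finset.mem_union, Finset.mem_erase]
      exact (h2 _ a0 a1).imp (fun h => ⟨a0, h⟩) fun h => ⟨a0, h⟩) 2 (fun b _ => by
      by_cases hx : ∃ a : Fˣ, (a : F) ^ 2 * b0 = b
      · obtain ⟨a, rfl⟩ := hx
        refine (Finset.card_le_card (t := {a, -a}) fun x hx => ?_).trans Finset.card_le_two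
        have h5 := mul_right_cancel₀ hb0 (Finset.mem_filter.1 hx).2
        rcases sq_eq_sq_iff_eq_or_eq_neg.1 h5 with h6 | h6
        · simp [Units.ext h6]
        · simp [show x = -a from Units.ext h6]
      · rw [Finset.filter_eq_empty_iff.2 fun a _ h => hx ⟨a, h⟩]; simp)
  rw [Finset.card_univ, Fintype.card_units] at cnt
  have c2 := Finset.card_union_le ((L b0).erase 0) ((L b1).erase 0)
  have c3 := hL' b0 hb0
  have c4 := hL' b1 hb1
  have p2 := hp.two_le
  have c5 : Fintype.card F + 3 ≤ 4 * p := by omega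
  have p3 : p ≤ 3 := by nlinarith
  have p4 : p ≠ 2 := fun h => by
    rw [hq, h] at ho
    exact absurd (ho.of_dvd_nat (dvd_pow_self 2 n.pos.ne')) (by decide)
  obtain rfl : p = 3 := by omega
  omega

end Cfsg.Agent.GD2
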