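import Cfsg.Agent.GD2.Defs

/-! Quaternion subgroups with centre `±1`. -/

set_option autoImplicit false
set_option linter.unusedSectionVars false

namespace Cfsg.Agent.GD2

open Subgroup Cfsg.Agent.PLocal.Amb

variable {R : Type*} [Ring R] [Algebra ℚ R] [Nontrivial R] [Rk2 R]
variable {G : Type*} [Group G] [HasDistribNeg G] {ρ : G →* R} {i j : G}

theorem Qu.ji (h : Qu i j) : j * i = -(i * j) := h.symm.ij
theorem Qu.ii' (h : Qu i j) (x : G) : i * (i * x) = -x := by rw [← mul_assoc, h.ii, neg_one_mul]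
theorem Qu.jj' (h : Qu i j) (x : G) : j * (j * x) = -x := h.symm.ii' x
theorem Qu.ji' (h : Qu i j) (x : G) : j * (i * x) = -(i * (j * x)) := by
  rw [← mul_assoc, h.ji, neg_mul, mul_assoc]
theorem Qu.kk (h : Qu i j) : i * j * (i * j) = -1 := h.next.jj

/-- the group `{±1, ±i, ±j, ±ij}` -/
def Q8 (h : Qu i j) : Subgroup G where
  carrier := {q | Pm q 1 ∨ Pm q i ∨ Pm q j ∨ Pm q (i * j)}
  one_mem' := Or.inl Pm.rfl
  mul_mem' := by
    rintro a b ((rfl | rfl) | (rfl | rfl) | (rfl | rfl) | (rfl | rfl))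
      ((rfl | rfl) | (rfl | rfl) | (rfl | rfl) | (rfl | rfl)) <;>
      simp [Pm, mul_assoc, h.ii, h.jj, h.ji, h.ii', h.ji']
  inv_mem' := by
    rintro a ((rfl | rfl) | (rfl | rfl) | (rfl | rfl) | (rfl | rfl)) <;>
      simp [Pm, inv_neg, inv_of_sq h.ii, inv_of_sq h.jj, h.ji]

theorem mem_Q8 {h : Qu i j} {q : G} : q ∈ Q8 h ↔ Pm q 1 ∨ Pm q i ∨ Pm q j ∨ Pm q (i * j) := Iff.rfl

theorem Qu.neg_mem (h : Qu i j) : -1 ∈ Q8 h := Or.inl (Pm.neg 1)
theorem Qu.i_mem (h : Qu i j) : i ∈ Q8 h := Or.inr (Or.inl Pm.rfl)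
theorem Qu.j_mem (h : Qu i j) : j ∈ Q8 h := Or.inr (Or.inr (Or.inl Pm.rfl))

theorem Qu.le (h : Qu i j) {X : Subgroup G} (hi : i ∈ X) (hj : j ∈ X) : Q8 h ≤ X := by
  have hz : -1 ∈ X := h.ii ▸ mul_mem hi hi
  rintro q (e | e | e | e)
  exacts [e.mem hz (one_mem X), e.mem hz hi, e.mem hz hj, e.mem hz (mul_mem hi hj)]

theorem Qu.sq (h : Qu i j) {q : G} (hq : q ∈ Q8 h) : Pm q 1 ∨ q * q = -1 := by
  rcases hq with e | e | e | e
  exacts [Or.inl e, Or.inr (e.sq.trans h.ii), Or.inr (e.sq.trans h.jj), Or.inr (e.sq.trans h.kk)]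

theorem Qu.four (h : Qu i j) {q : G} (hq : q ∈ Q8 h) : q ^ 4 = 1 := by
  rw [show q ^ 4 = q * q * (q * q) by rw [← pow_two, ← pow_two, ← pow_mul]]
  rcases h.sq hq with e | e
  · rw [e.sq]; simp
  · simp [e]

theorem Qu.two (h : Qu i j) : IsPGroup 2 (Q8 h) := isPGroup_iff.2 fun _ hx => ⟨2, h.four hx⟩

theorem Qu.comm (h : Qu i j) {c q : G} (ci : c * i = i * c) (cj : c * j = j * c) (hq : q ∈ Q8 h) :
    c * q = q * c :=
  (mem_centralizer_singleton_iff.1 (h.le (X := centralizer {c})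
    (mem_centralizer_singleton_iff.2 ci.symm) (mem_centralizer_singleton_iff.2 cj.symm) hq)).symm

theorem Qu.pm_comm (h : Qu i j) {a b : G} (ha : a ∈ Q8 h) (hb : b ∈ Q8 h) : Pm (a * b) (b * a) := by
  rcases ha with (rfl | rfl) | (rfl | rfl) | (rfl | rfl) | (rfl | rfl) <;>
    rcases hb with (rfl | rfl) | (rfl | rfl) | (rfl | rfl) | (rfl | rfl) <;>
    simp [Pm, mul_assoc, h.ii, h.jj, h.ji, h.ii', h.ji']

/-- any anticommuting pair generates -/
theorem Bs.Q8_eq (hb : Bs ρ) (h : Qu i j) {a b : G} (h' : Qu a b) (ha : a ∈ Q8 h) (hb' : b ∈ Q8 h) :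
    Q8 h' = Q8 h := by
  refine le_antisymm (h'.le ha hb') ?_
  have e := h'.ij
  have m1 := h'.i_mem
  have m2 := h'.j_mem
  have m3 := mul_mem m1 m2
  have z := fun q (hq : q ∈ Q8 h') => neg_mem' h'.neg_mem hq
  rcases ha with (rfl | rfl) | (rfl | rfl) | (rfl | rfl) | (rfl | rfl) <;>
    rcases hb' with (rfl | rfl) | (rfl | rfl) | (rfl | rfl) | (rfl | rfl) <;>
    first
    | (refine (hb.not_both ?_ e).elim; simp; done)
    | (refine h.le ?_ ?_ <;> first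
        | assumption
        | simpa [mul_assoc, h.ii, h.jj, h.ji, h.ii', h.jj', h.ji'] using z _ m1
        | simpa [mul_assoc, h.ii, h.jj, h.ji, h.ii', h.jj', h.ji'] using z _ m2
        | simpa [mul_assoc, h.ii, h.jj, h.ji, h.ii', h.jj', h.ji'] using m3
        | simpa [mul_assoc, h.ii, h.jj, h.ji, h.ii', h.jj', h.ji'] using z _ m3)

/-- each element of order four has a partner -/
theorem Qu.partner (h : Qu i j) {a : G} (ha : a ∈ Q8 h) (h1 : ¬ Pm a 1) : ∃ b ∈ Q8 h, Qu a b := by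
  rcases ha with e | e | e | e
  · exact absurd e h1
  · exact ⟨j, h.j_mem, h.pm e Pm.rfl⟩
  · exact ⟨i, h.i_mem, h.symm.pm e Pm.rfl⟩
  · exact ⟨j, h.j_mem, h.next.symm.pm e Pm.rfl⟩

/-- elements of `Q8` commuting with `i` -/
theorem Bs.comm_i (hb : Bs ρ) (h : Qu i j) {q : G} (hq : q ∈ Q8 h) (hc : q * i = i * q) :
    Pm q 1 ∨ Pm q i := by
  rcases hq with e | e | e | e
  · exact Or.inl e
  · exact Or.inr e
  · exact (hb.not_both hc.symm (e.anti h.ij)).elim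
  · exact (hb.not_both hc.symm (e.anti (by simp [mul_assoc, h.ii', h.ji]))).elim

theorem Bs.cent_Q8 (hb : Bs ρ) (h : Qu i j) {q : G} (hq : q ∈ Q8 h) (hi : q * i = i * q)
    (hj : q * j = j * q) : Pm q 1 :=
  (hb.comm_i h hq hi).resolve_right fun e => hb.not_both hj.symm (e.anti h.ji)

/-- an element fixing `±i`, `±j` acts as an element of `Q8` -/
theorem Qu.inner (h : Qu i j) {a : G} (hi : Pm (a * i) (i * a)) (hj : Pm (a * j) (j * a)) :
    ∃ q ∈ Q8 h, ∃ c, a = q * c ∧ c * i = i * c ∧ c * j = j * c := by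
  have key : ∀ q ∈ Q8 h, q * a * i = i * (q * a) → q * a * j = j * (q * a) →
      ∃ q ∈ Q8 h, ∃ c, a = q * c ∧ c * i = i * c ∧ c * j = j * c := fun q hq h1 h2 =>
    ⟨q⁻¹, inv_mem hq, q * a, by simp, h1, h2⟩
  rcases hi with a1 | a1 <;> rcases hj with a2 | a2
  · exact key 1 (one_mem _) (by simp [a1]) (by simp [a2])
  · exact key i h.i_mem (by simp [mul_assoc, a1]) (by simp [mul_assoc, a2, h.ji'])
  · exact key j h.j_mem (by simp [mul_assoc, a1, h.ji']) (by simp [mul_assoc, a2])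
  · exact key (i * j) (mul_mem h.i_mem h.j_mem) (by simp [mul_assoc, a1, h.ji'])
      (by simp [mul_assoc, a2, h.ji', h.jj'])

/-- a `2`-group normalising `Q8` fixes one of the three cyclic subgroups -/
theorem Bs.fix_one [Finite G] (hb : Bs ρ) (h : Qu i j) {P : Subgroup G} (hP : IsPGroup 2 P)
    (hn : P ≤ 𝐍[Q8 h]) : ∃ (a b : G) (h' : Qu a b), Q8 h' = Q8 h ∧ ∀ x ∈ P, Pm (x * a) (a * x) := by
  obtain ⟨a, h1, h2, -, h4⟩ := exists_cenZ hP h.two hn fun hle => hb.ne_one h.ii (hle h.i_mem)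
  obtain ⟨b, h5, h6⟩ := h.partner h1 h2
  exact ⟨a, b, h6, hb.Q8_eq h h6 h1 h5, fun x hx => (h4 x (mem_sup_left hx)).symm⟩

/-- an element normalising `Q8` and fixing `±i` fixes `±j` or sends it to `±ij` -/
theorem Bs.conj_j (hb : Bs ρ) (h : Qu i j) {a : G} (ha : a ∈ 𝐍[Q8 h]) (hi : Pm (a * i) (i * a)) :
    Pm (a * j) (j * a) ∨ Pm (a * j) (i * j * a) := by
  have h1 : Pm (a * i * a⁻¹) i := by simpa using hi.mul (Pm.rfl (a := a⁻¹))
  have h2 := (h.conj a).pm h1.symm Pm.rfl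
  rcases conj_mem_of_mem_normalizer ha h.j_mem with e | e | e | e
  · exact absurd e (hb.ne_one h2.jj)
  · exact (hb.not_both (e.comm rfl) h2.ij).elim
  · exact Or.inl (by simpa using e.mul (Pm.rfl (a := a)))
  · exact Or.inr (by simpa using e.mul (Pm.rfl (a := a)))

/-- if `a` centralises `i`, normalises `Q8` and `a²` commutes with `j` then `a` fixes `±j` -/
theorem Bs.conj_j' (hb : Bs ρ) (h : Qu i j) {a : G} (ha : a ∈ 𝐍[Q8 h]) (hi : a * i = i * a)
    (h2 : a * a * j = j * (a * a)) : Pm (a * j) (j * a) := by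
  refine (hb.conj_j h ha (Or.inl hi)).resolve_right fun e => hb.not_both h2 ?_
  have k : ∀ x, a * (i * x) = i * (a * x) := fun x => by rw [← mul_assoc, hi, mul_assoc]
  have k2 : ∀ x, a * (j * x) = a * j * x := fun x => (mul_assoc _ _ _).symm
  rcases e with e | e <;> simp [mul_assoc, e, k, k2 a, h.ii']

/-- E4: if every `y q` (`q ∈ Q8`) is `±1` or has square `-1` then `y ∈ Q8` -/
theorem Bs.mem_Q8 (hb : Bs ρ) (h : Qu i j) {y : G}
    (h1 : ∀ q ∈ Q8 h, Pm (y * q) 1 ∨ y * q * (y * q) = -1) : y ∈ Q8 h := by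
  by_contra hy
  have h2 : ∀ q ∈ Q8 h, y * q * (y * q) = -1 := fun q hq => (h1 q hq).resolve_left fun e =>
    hy (by simpa using (e.mul (Pm.rfl (a := q⁻¹))).mem h.neg_mem (by simpa using hq))
  have y2 : y * y = -1 := by simpa using h2 1 (one_mem _)
  have h3 : ∀ q ∈ Q8 h, q * q = -1 → y * q = -(q * y) := fun q hq e => by
    have := inv_of_sq (h2 q hq)
    rw [mul_inv_rev, inv_of_sq y2, inv_of_sq e, neg_mul_neg] at this
    rw [this, neg_neg]
  refine hb.not_both ?_ (h3 _ (mul_mem h.i_mem h.j_mem) h.kk)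
  rw [← mul_assoc, h3 i h.i_mem h.ii, neg_mul, mul_assoc, h3 j h.j_mem h.jj]; simp [mul_assoc]

end Cfsg.Agent.GD2
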