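import Cfsg.Agent.GD2.Int
import Cfsg.Agent.GD2.N2a
import Cfsg.Agent.NG.Main
import Cfsg.Agent.S0501
import Cfsg.Agent.S0112
import Cfsg.Agent.Grp.MaxClass
import Cfsg.Agent.Inv.StrongEmb
import Cfsg.Agent.Misc.Four

/-! S3259: the case of solvable 2-local subgroups. -/

set_option autoImplicit false
set_option linter.unusedSectionVars false

namespace Cfsg.Agent.GD2

open Subgroup Cfsg.Agent.PLocal.Amb

variable {R : Type*} [Ring R] [Algebra ℚ R] [Nontrivial R] [Rk2 R]
variable {G : Type*} [Group G] [HasDistribNeg G] [Finite G] {ρ : G →* R}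

theorem rfa_comm {H : Type*} [Group H] (π : G →* H) {a b : G} (e : a * b = b * a) :
    π a * π b = π b * π a := by rw [← map_mul, e, map_mul]

theorem Bs.hy (h : Bs ρ) (hp : commutator G = ⊤) (ho : oddCore G = ⊥) (h2 : pCore 2 G ≤ Zz G) :
    HY ρ (QuotientGroup.mk' (Zz G)) := by
  have hs := QuotientGroup.mk'_surjective (Zz G)
  refine ⟨h, hs, fun g => QuotientGroup.eq_one_iff g, fun N hN => ?_,
    K.oddCore_eq_bot_of_pCore fun r hr r2 => ?_, ?_⟩
  · rw [← index_comap_of_surjective N hs] at hN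
    have : N.comap (QuotientGroup.mk' (Zz G)) = ⊤ := eq_top_iff.2 fun g _ =>
      mem_of_perf hp _ (fun a b ha hb => (mul_mem_iff_of_index_two hN).2 (iff_of_false ha hb)) g
    rw [this, index_top] at hN
    exact absurd hN (by decide)
  · have := Fact.mk hr
    obtain ⟨P, hP⟩ := exists_isSyl r ((pCore r (G ⧸ Zz G)).comap (QuotientGroup.mk' (Zz G)))
    have h3 := hP.map (QuotientGroup.mk' (Zz G))
    rw [map_comap_eq_self_of_surjective hs] at h3
    have e := h3.eq (isPGroup_pCore' r _) h3.le le_rfl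
    have hN : P.Normal := normalizer_eq_top_iff.1 (eq_top_iff.2 fun g _ => by
      obtain ⟨n, hn, x, hx, rfl⟩ := hP.frattini (g := g) (by rw [normalizer_eq_top]; trivial)
      obtain ⟨y, hy, e2⟩ := e.le hn
      refine mul_mem ?_ hx
      have h4 := Pm.mem (centralizer_le_normalizer' P (n2_negC P)) (QuotientGroup.eq.1 e2) (one_mem _)
      exact (mul_mem_cancel_left (inv_mem (le_normalizer hy))).1 h4)
    obtain ⟨k, hk⟩ := hP.pgrp.exists_card_eq
    have h5 : P ≤ oddCore G := le_sSup ⟨hN, by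
      rw [hk]; exact ((Nat.coprime_primes hr Nat.prime_two).2 r2).pow_left k⟩
    rw [e, le_bot_iff.1 (h5.trans ho.le), Subgroup.map_bot]
  · have h3 := le_pCore' ((isPGroup_pCore' 2 (G ⧸ Zz G)).comap_of_ker_isPGroup
      (QuotientGroup.mk' (Zz G)) (by rw [QuotientGroup.ker_mk']; exact Zz_two))
    refine (eq_bot_iff_forall _).2 fun x hx => ?_
    obtain ⟨g, rfl⟩ := hs x
    exact (QuotientGroup.eq_one_iff g).2 (h2 (h3 hx))

theorem HY.rank4 {H : Type*} [Group H] {π : G →* H} (h : HY ρ π) : PRankLE 2 4 H := by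
  classical
  intro A hA h2
  have hE : IsPGroup 2 (A.comap π) := (isPGroup_iff.2 fun x hx => ⟨1, h2 x hx⟩ :
    IsPGroup 2 A).comap_of_ker_isPGroup π (Zz_two.to_le fun x hx => (h.ker x).1 hx)
  have h3 := S0501.result hE fun B _ hB b2 => by
    have b3 : ∀ x : B, ((x : A.comap π) : G) * ((x : A.comap π) : G) = 1 := fun x => by
      rw [← pow_two]; exact congrArg Subtype.val (b2 _ x.2)
    obtain ⟨r, hr⟩ : ∃ r : G, ∀ x : B, Pm ((x : A.comap π) : G) 1 ∨ Pm ((x : A.comap π) : G) r := by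
      by_cases hx : ∃ y : B, ¬ Pm ((y : A.comap π) : G) 1
      · obtain ⟨y, hy⟩ := hx
        exact ⟨_, fun x => h.cases ⟨b3 y, hy⟩ (b3 x)
          (congrArg (fun z : B => ((z : A.comap π) : G)) (hB.is_comm.comm x y))⟩
      · push Not at hx
        exact ⟨1, fun x => Or.inl (hx x)⟩
    refine (Nat.card_le_card_of_injective (β := ({1, -1, r, -r} : Finset G))
      (fun x : B => ⟨((x : A.comap π) : G), by simpa [Pm, or_assoc] using hr x⟩)
      fun x y e => Subtype.ext (Subtype.ext (Subtype.mk.inj e))).trans ?_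
    rw [Nat.card_eq_finsetCard]
    exact Finset.card_le_four
  let f : (⊤ : Subgroup (A.comap π)) →* A :=
    (π.comp ((A.comap π).subtype.comp (Subgroup.subtype _))).codRestrict A fun x => x.1.2
  have hf : Function.Surjective f := fun a => by
    obtain ⟨g, hg⟩ := h.surj a
    exact ⟨⟨⟨g, by rw [mem_comap, hg]; exact a.2⟩, trivial⟩, Subtype.ext hg⟩
  let φ := QuotientGroup.quotientKerEquivOfSurjective f hf
  have h4 := h3 ⊤ f.ker ⊤ ⟨⟨fun a b => Subtype.ext (φ.injective (by
    rw [coe_mul, coe_mul, map_mul, map_mul, hA.is_comm.comm]))⟩⟩ fun a _ => φ.injective (by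
    rw [map_pow, map_one]; exact Subtype.ext (h2 _ (φ a).2))
  rwa [card_top, Nat.card_congr φ.toEquiv] at h4

theorem HY.cent4 {H : Type*} [Group H] {π : G →* H} (h : HY ρ π) (hr : PRankLE 2 2 H) {t s : G}
    (ht : Rg t) (hs : Rg s) (ha : s * t = -(t * s)) {c : G} (ct : c * t = t * c)
    (cs : c * s = s * c) {n : ℕ} (hn : π c ^ 2 ^ n = 1) : Pm c 1 := by
  by_contra c1
  have hP : IsPGroup 2 (zpowers c) := isPGroup_iff.2 fun x hx => by
    obtain ⟨m, rfl⟩ := hx
    refine ⟨n + 1, ?_⟩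
    have : c ^ 2 ^ (n + 1) = 1 := by
      rw [pow_succ, pow_mul, pow_two, ((h.ker _).1 (by rw [map_pow, hn])).sq, one_mul]
    simp only
    rw [← zpow_natCast, ← zpow_mul, mul_comm, zpow_mul, zpow_natCast, this, one_zpow]
  obtain ⟨k, ⟨m, rfl⟩, k1, k2, -⟩ := exists_cenZ hP hP le_normalizer fun hle => c1 (hle (mem_zpowers c))
  have kt : c ^ m * t = t * c ^ m := (Commute.zpow_left ct m).eq
  have ks : c ^ m * s = s * c ^ m := (Commute.zpow_left cs m).eq
  simp only at k1 k2
  generalize c ^ m = k at *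
  have sq : ∀ {x}, Pm (x * x) 1 → π x * π x = 1 := fun e => by rw [← map_mul, h.ker]; exact e
  have a1 := sq (Or.inl ht.sq)
  have a2 := sq (Or.inl hs.sq)
  have a3 : π t * π s = π s * π t := by
    rw [← map_mul, ← map_mul, h.eq_iff]; exact Or.inr (n2_anti ha)
  have hc : ∀ v ∈ closure {π t, π s}, π k * v = v * π k := fun v hv => by
    rcases (Misc.mem_closure_pair_iff a1 a2 a3).1 hv with rfl | rfl | rfl | rfl
    · simp
    · exact rfa_comm π kt
    · exact rfa_comm π ks
    · rw [← mul_assoc, rfa_comm π kt, mul_assoc, rfa_comm π ks, mul_assoc]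
  have hsq := Misc.sq_eq_one_sup_zpowers (Misc.sq_eq_one_of_mem_closure_pair a1 a2 a3) (sq k2) hc
  have hle := hr _ (Misc.isElementaryAbelian_two_iff.2 hsq).1 hsq
  rw [Misc.card_sup_zpowers_two (sq k2) (fun hk => ?_) (Misc.mem_normalizer_of_comm hc),
    Misc.card_closure_pair a1 a2 a3 (mt (h.ker _).1 ht.ne) (mt (h.ker _).1 hs.ne) fun e =>
      h.not_both ((h.eq_iff.1 e).comm rfl) ha] at hle
  · omega
  rcases (Misc.mem_closure_pair_iff a1 a2 a3).1 hk with e | e | e | e
  · exact k1 ((h.ker _).1 e)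
  · exact h.not_both ks.symm ((h.eq_iff.1 e).anti ha)
  · exact h.not_both kt.symm ((h.eq_iff.1 e).anti (n2_anti ha))
  · rw [← map_mul, h.eq_iff] at e
    exact h.not_both ks.symm (e.anti (by simp [mul_assoc, n2_la ha]))

theorem HY.solv {H : Type*} [Group H] {π : G →* H} (h : HY ρ π)
    (hs : ∀ N : Subgroup H, IsTwoLocal N → Group.IsSolvable N) (t : G) : ¬ Rg t := by
  intro ht
  have := Finite.of_surjective π h.surj
  obtain ⟨g, g1, g2⟩ := h.zstar ht.ne (Or.inl ht.sq)
  have hs' := ht.conj g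
  generalize g * t * g⁻¹ = s at *
  have ha : s * t = -(t * s) := g1.resolve_left fun e => g2 (h.pm ht hs' e)
  have u2 : t * s * (t * s) = -1 := by simp [mul_assoc, n2_la ha, hs'.sq, ht.sq]
  have o1 := h.ord ht.ne (Or.inl ht.sq)
  have o2 := h.ord (h.ne_one u2) (Or.inr u2)
  have nc : ¬ IsConj (π t) (π (t * s)) := fun e => by
    obtain ⟨x, hx⟩ := isConj_iff.1 e
    obtain ⟨x, rfl⟩ := h.surj x
    rw [← map_inv, ← map_mul, ← map_mul, h.eq_iff] at hx
    exact h.ne_neg 1 ((ht.conj x).sq.symm.trans (hx.sq.trans u2))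
  rcases NG.of_solvable_twoLocal (even_iff_two_dvd.2 (o1 ▸ orderOf_dvd_natCard _)) h.idx h.odd h.two
    hs with hr | ⟨M, hM⟩ | hT
  swap
  · exact nc (Inv.SE.isConj hM o1 o2)
  swap
  · exact hT.2.1 h.rank4
  have sq : ∀ {x}, Pm (x * x) 1 → π x * π x = 1 := fun e => by rw [← map_mul, h.ker]; exact e
  have a1 := sq (Or.inl ht.sq)
  have a2 := sq (Or.inl hs'.sq)
  have a3 : π t * π s = π s * π t := by
    rw [← map_mul, ← map_mul, h.eq_iff]; exact Or.inr (n2_anti ha)
  have v2 := Misc.sq_eq_one_of_mem_closure_pair a1 a2 a3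
  have v4 := Misc.card_closure_pair a1 a2 a3 (mt (h.ker _).1 ht.ne) (mt (h.ker _).1 hs'.ne) fun e =>
    g2 (h.eq_iff.1 e).symm
  have mt : π t ∈ closure {π t, π s} := subset_closure (by simp)
  have ms : π s ∈ closure {π t, π s} := subset_closure (by simp)
  obtain ⟨S, hS, hV⟩ := exists_isSyl_ge (p := 2) (L := ⊤) (isPGroup_iff.2 fun x hx => ⟨1, v2 x hx⟩) le_top
  have cen : ∀ x ∈ S, x * π t = π t * x → x * π s = π s * x → x ∈ closure {π t, π s} :=
    fun x hx xt xs => by
    obtain ⟨x, rfl⟩ := h.surj x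
    have key : ∀ y, π y ∈ closure {π t, π s} → y * x * t = t * (y * x) → y * x * s = s * (y * x) →
        π x ∈ closure {π t, π s} := fun y hy e1 e2 => by
      obtain ⟨n, hn⟩ := isPGroup_iff.1 hS.pgrp _ (mul_mem (hV hy) hx)
      have := (h.ker _).2 (h.cent4 hr ht hs' ha e1 e2 (by rw [map_mul]; exact hn))
      rw [map_mul, mul_eq_one_iff_inv_eq] at this
      exact this ▸ inv_mem hy
    rw [← map_mul, ← map_mul, h.eq_iff] at xt xs
    rcases xt with b1 | b1 <;> rcases xs with b2 | b2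
    · exact key 1 (by simp) (by simp [b1]) (by simp [b2])
    · exact key t mt (by simp [mul_assoc, b1]) (by simp [mul_assoc, b2, n2_la ha])
    · exact key s ms (by simp [mul_assoc, b1, n2_la ha]) (by simp [mul_assoc, b2])
    · exact key (t * s) (by rw [map_mul]; exact mul_mem mt ms) (by simp [mul_assoc, b1, n2_la ha])
        (by simp [mul_assoc, b2, n2_la ha])
  obtain ⟨n, hn⟩ := hS.pgrp.exists_card_eq
  have c4 : Nat.card ((closure {π t, π s}).subgroupOf S) = 2 ^ 2 := by
    rw [Nat.card_congr (subgroupOfEquivOfLe hV).toEquiv, v4]; rfl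
  have n2 : 2 ≤ n := (Nat.pow_dvd_pow_iff_le_right one_lt_two).1 (by
    rw [← c4, ← hn]; exact card_subgroup_dvd_card _)
  obtain ⟨c, hc⟩ : ∃ c : S, orderOf c = 2 ^ (n - 1) := by
    by_cases n3 : 3 ≤ n
    · refine Grp.MaxClass.exists_orderOf_of_index_commutator_le n3 hn
        (Grp.MaxClass.index_commutator hn n3 (S0112.result n hn _ c4 (le_antisymm (fun x hx => ?_)
          fun x hx => mem_centralizer_iff.2 fun y hy => Subtype.ext
            (Misc.comm_of_sq v2 _ hy _ hx)))).le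
      exact cen x x.2 (congrArg Subtype.val (hx ⟨_, hV mt⟩ mt)).symm
        (congrArg Subtype.val (hx ⟨_, hV ms⟩ ms)).symm
    · obtain rfl : n = 2 := by omega
      exact ⟨⟨π t, hV mt⟩, by rw [← orderOf_coe]; exact o1⟩
  have hi : (zpowers (c : H)).relIndex S = 2 := by
    rw [relIndex, ← S.coe_subtype, ← MonoidHom.map_zpowers, subgroupOf,
      comap_map_eq_self_of_injective S.subtype_injective]
    exact Grp.MaxClass.index_zpowers_of_orderOf two_pos (by omega) hn hc
  have th : ∀ w : H, orderOf w = 2 → ∃ x, x * w * x⁻¹ ∈ zpowers (c : H) := fun w hw => by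
    rcases Transfer.thompson_transfer_extremal (P := S) (u := w) (T := ⊥) (by
      have := hS.not_dvd_relIndex
      rwa [relIndex_top_right, ← even_iff_two_dvd, Nat.not_even_iff_odd] at this)
      (zpowers_le.2 c.2) hi (hw ▸ pow_orderOf_eq_one w) IsPGroup.of_bot (by simp) with
      ⟨N, -, hN, -⟩ | ⟨x, h4, -⟩
    · exact absurd hN (h.idx N)
    · exact ⟨x, h4⟩
  obtain ⟨x, hx⟩ := th _ o1
  obtain ⟨y, hy⟩ := th _ o2
  have e := Misc.eq_of_isCyclic_of_orderOf_two hx hy ((orderOf_conj' _ _).trans o1)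
    ((orderOf_conj' _ _).trans o2)
  exact nc ((isConj_iff.2 ⟨x, e⟩).trans (isConj_iff.2 ⟨y, rfl⟩).symm)

end Cfsg.Agent.GD2
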