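import Cfsg.Agent.GD2.Int
import Cfsg.Agent.S3761
import Cfsg.Agent.S0015
import Cfsg.Agent.Grp.MaxClass

/-! S3259: 2-groups without a normal four-group; no central element of order four in a perfect group. -/

set_option autoImplicit false
set_option linter.unusedSectionVars false

namespace Cfsg.Agent.GD2

open Subgroup Cfsg.Agent.PLocal.Amb
open scoped commutatorElement

variable {R : Type*} [Ring R] [Algebra ℚ R] [Nontrivial R] [Rk2 R]
variable {G : Type*} [Group G] [HasDistribNeg G] [Finite G] {ρ : G →* R}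

open QuaternionGroup in
theorem z2_quat {m : ℕ} {z : QuaternionGroup m} (hz : ∀ x, x * z = z * x) (h2 : z * z ≠ 1)
    (x y : QuaternionGroup m) : x * y = y * x := by
  rcases z with i | i
  · have := hz (xa 0)
    simp only [xa_mul_a, a_mul_xa, xa.injEq] at this
    exact absurd (by rw [a_mul_a, one_def]; congr 1; linear_combination this) h2
  · have := hz (a 1)
    simp only [xa_mul_a, a_mul_xa, xa.injEq] at this
    rcases x with j | j <;> rcases y with k | k <;>
      simp only [a_mul_a, xa_mul_a, a_mul_xa, xa_mul_xa, xa.injEq, a.injEq]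
    · ring
    · linear_combination j * this
    · linear_combination -k * this
    · linear_combination (j - k) * this

open QuaternionGroup in
theorem z2_quat_cyc {n : ℕ} (h : ∀ x y : QuaternionGroup (2 ^ n), x * y = y * x) :
    IsCyclic (QuaternionGroup (2 ^ n)) := by
  have := h (a 1) (xa 0)
  simp only [xa_mul_a, a_mul_xa, xa.injEq] at this
  have h2 : ((2 : ℕ) : ZMod (2 * 2 ^ n)) = 0 := by push_cast; linear_combination -this
  rw [ZMod.natCast_eq_zero_iff] at h2
  have h3 := Nat.le_of_dvd two_pos h2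
  have h4 : 0 < 2 ^ n := by positivity
  rw [show 2 ^ n = 1 by omega]
  exact quaternionGroup_one_isCyclic

theorem z2_cyc {A : Type*} [Group A] [Finite A] (hA : IsPGroup 2 A) (hc : ∀ x y : A, x * y = y * x)
    (h : ∀ x y : A, x ≠ 1 → y ≠ 1 → x * x = 1 → y * y = 1 → x = y) : IsCyclic A := by
  have k : ∀ H : Subgroup A, Nat.card H = 2 → ∃ x, x ≠ 1 ∧ x * x = 1 ∧ H = zpowers x := fun H hH => by
    obtain ⟨x, hx⟩ := exists_prime_orderOf_dvd_card' (G := H) 2 (by rw [hH])
    rw [← orderOf_coe] at hx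
    exact ⟨x, fun e => by simp [e] at hx, by rw [← pow_two, ← hx, pow_orderOf_eq_one],
      (eq_of_le_of_card_ge (zpowers_le.2 x.2) (by rw [Nat.card_zpowers, hx, hH])).symm⟩
  rcases S0016.result 2 hA (fun H K hH hK => by
    obtain ⟨x, x1, x2, rfl⟩ := k H hH
    obtain ⟨y, y1, y2, rfl⟩ := k K hK
    rw [h x y x1 y1 x2 y2]) with h1 | ⟨-, n, ⟨φ⟩⟩
  · exact h1
  · have := z2_quat_cyc (n := n) fun x y => by
      obtain ⟨x, rfl⟩ := φ.surjective x
      obtain ⟨y, rfl⟩ := φ.surjective y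
      rw [← map_mul, hc, map_mul]
    exact isCyclic_of_surjective φ.symm φ.symm.surjective

theorem Bs.nf (h : Bs ρ) {F : Subgroup G} (hF : IsPGroup 2 F)
    (hn : ∀ t ∈ F, Rg t → ¬ ∀ f ∈ F, Pm (f * t) (t * f)) :
    ∃ c ∈ F, (zpowers c).relIndex F ∣ 2 := by
  have key : ∀ A : Subgroup F, A.Normal → IsMulCommutative A → IsCyclic A := fun A hA hc => by
    have k : ∀ x : A, x ≠ 1 → x * x = 1 → ((x : F) : G) = -1 := fun x x1 x2 => by
      have x3 : ((x : F) : G) * ((x : F) : G) = 1 := congrArg (fun y : A => ((y : F) : G)) x2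
      by_contra x4
      have hr : Rg ((x : F) : G) := ⟨x3, fun e => e.elim
        (fun e => x1 (Subtype.ext (Subtype.ext e))) x4⟩
      refine hn _ (x : F).2 hr fun f hf => ?_
      have := h.pm hr (hr.conj f) (congrArg (fun y : A => ((y : F) : G))
        (hc.is_comm.comm ⟨_, hA.conj_mem _ x.2 ⟨f, hf⟩⟩ x))
      simpa using this.mul (Pm.rfl (a := f))
    exact z2_cyc (hF.to_subgroup A) hc.is_comm.comm fun x y x1 y1 x2 y2 =>
      Subtype.ext (Subtype.ext ((k x x1 x2).trans (k y y1 y2).symm))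
  obtain ⟨U, ⟨h1, h2⟩, hmax⟩ := (Set.toFinite {A : Subgroup F | A.Normal ∧ IsMulCommutative A}).exists_maximal
    ⟨⊥, inferInstance, inferInstance⟩
  have h3 := key U h1 h2
  obtain ⟨a, rfl⟩ := (Subgroup.isCyclic_iff_exists_zpowers_eq_top U).1 h3
  refine ⟨a, a.2, ?_⟩
  have e : (zpowers (a : G)).relIndex F = (zpowers a).index := by
    rw [relIndex, ← F.coe_subtype, ← MonoidHom.map_zpowers, subgroupOf,
      comap_map_eq_self_of_injective F.subtype_injective]
  rw [e]
  by_cases hc : IsMulCommutative F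
  · rw [top_le_iff.1 (hmax ⟨inferInstance, inferInstance⟩ le_top), index_top]; exact one_dvd 2
  have := hF.isNilpotent
  obtain ⟨n, hn'⟩ := (hF.to_subgroup (zpowers a)).exists_card_eq
  rcases S3761.result hF hc _ h3 n hn' (S0015.result _ fun M m1 m2 hle =>
    le_antisymm (hmax ⟨m1, m2⟩ hle) hle) with ⟨-, h4, -⟩ | ⟨-, h4, h5, h6⟩
  · have h5 := (zpowers a).card_mul_index
    rw [hn', h4, pow_succ, mul_right_inj' (by positivity)] at h5
    rw [h5]
  · obtain ⟨g, hg⟩ := isCyclic_iff_exists_orderOf_eq_natCard.1 (key _ inferInstance h4.1)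
    have := orderOf_dvd_of_pow_eq_one (x := g) (n := 2) (Subtype.ext (h4.2 _ g.2))
    rw [hg, h5] at this
    exact absurd this (by decide)

theorem z2_fin {S : Type*} [Group S] (A : Subgroup S) (hA : IsMulCommutative A) (hi : A.index ∣ 2)
    {u : S} (hu : u ∈ commutator S) (hc : ∀ g, g * u = u * g) : u * u = 1 := by
  rcases (Nat.dvd_prime Nat.prime_two).1 hi with h1 | h1
  · rw [index_eq_one] at h1
    subst h1
    rw [commutator_def, commutator_eq_bot_iff_le_centralizer.2 fun a _ => mem_centralizer_iff.2 fun b _ =>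
      congrArg Subtype.val (hA.is_comm.comm ⟨b, trivial⟩ ⟨a, trivial⟩), mem_bot] at hu
    simp [hu]
  · have := normal_of_index_eq_two h1
    obtain ⟨s, hs⟩ := Grp.MaxClass.exists_not_mem_of_index_ne_one (H := A) (by omega)
    obtain ⟨a, ha, e⟩ := (Grp.MaxClass.mem_commutator_iff_of_abelian A hA
      (Grp.MaxClass.sup_zpowers_eq_top_of_prime_index Nat.prime_two h1 hs)).1 hu
    have h2 : a * (s * s) = s * s * a := congrArg Subtype.val
      (hA.is_comm.comm ⟨a, ha⟩ ⟨_, mul_self_mem_of_index_two h1 s⟩)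
    calc u * u = u * (s * u * s⁻¹) := by rw [hc s, mul_inv_cancel_right]
      _ = a * (s * s) * a⁻¹ * (s * s)⁻¹ := by rw [← e, commutatorElement_def]; group
      _ = 1 := by rw [h2]; group

theorem z2_mod {A : Type*} [Group A] [Finite A] (hP : IsPGroup 2 A) (σ : A →* R) {e : R}
    (he : Idm e) (hc : ∀ g, σ g * e = e * σ g) {u : A} (hu : ∀ g, g * u = u * g)
    (h2 : σ (u * u) = -1) (a b : A) : σ ⁅a, b⁆ * e = e := by
  have k : ∀ x y : (cor σ he hc).toHomUnits.range, x * y = y * x := by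
    rcases cor_cyc hP σ he hc with h1 | ⟨-, n, ⟨φ⟩⟩
    · let _ := IsCyclic.commGroup (α := (cor σ he hc).toHomUnits.range)
      exact fun x y => mul_comm x y
    · intro x y
      refine φ.injective ?_
      rw [map_mul, map_mul]
      refine z2_quat (z := φ ((cor σ he hc).toHomUnits.rangeRestrict u)) (fun w => ?_) (fun h3 => ?_) _ _
      · obtain ⟨w, rfl⟩ := φ.surjective w
        obtain ⟨g, rfl⟩ := (cor σ he hc).toHomUnits.rangeRestrict_surjective w
        rw [← map_mul, ← map_mul, hu, map_mul, map_mul]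
      · rw [← map_mul, ← map_mul, MulEquiv.map_eq_one_iff,
          ← map_one (cor σ he hc).toHomUnits.rangeRestrict, cor_eq, h2, map_one, one_mul,
          neg_one_mul] at h3
        exact he.ne0 (eq_zero_of_neg h3.symm)
  have h5 := (cor_eq he hc (a := ⁅a, b⁆) (b := 1)).1 (by
    rw [map_commutatorElement, map_one, commutatorElement_eq_one_iff_mul_comm, k])
  rwa [map_one, one_mul] at h5

theorem Bs.z2 (h : Bs ρ) (hp : commutator G = ⊤) {u : G} (hu : u ∈ center G) : u * u ≠ -1 := by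
  intro h2
  obtain ⟨S⟩ := (inferInstance : Nonempty (Sylow 2 G))
  have h1 := mem_comm_syl hp S hu (k := 2) (by
    rw [show u ^ 2 ^ 2 = u * u * (u * u) by rw [← pow_two, ← pow_two, ← pow_mul]; rfl, h2]; simp)
  rw [← map_subtype_commutator] at h1
  obtain ⟨v, hv, rfl⟩ := h1
  have hc : ∀ g, g * v = v * g := fun g => Subtype.ext (mem_center_iff.1 hu g)
  suffices ∃ A : Subgroup (S : Subgroup G), IsMulCommutative A ∧ A.index ∣ 2 by
    obtain ⟨A, a1, a2⟩ := this
    exact h.ne_neg 1 ((congrArg Subtype.val (z2_fin A a1 a2 hv hc)).symm.trans h2)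
  by_cases hn : ∀ t ∈ (S : Subgroup G), Rg t → ¬ ∀ f ∈ (S : Subgroup G), Pm (f * t) (t * f)
  · obtain ⟨c, -, h3⟩ := h.nf S.2 hn
    exact ⟨(zpowers c).subgroupOf S, inferInstance, h3⟩
  push Not at hn
  obtain ⟨t, ht, hr, h3⟩ := hn
  let A : Subgroup (S : Subgroup G) := (centralizer {t}).subgroupOf S
  have hA : ∀ x : (S : Subgroup G), x ∈ A ↔ (x : G) * t = t * x := fun x =>
    mem_centralizer_singleton_iff
  refine ⟨A, ⟨⟨fun a b => ?_⟩⟩, index_dvd_two_iff.2 ?_⟩
  · let σ : A →* R := ρ.comp ((S : Subgroup G).subtype.comp A.subtype)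
    have he := (h.rf hr).idm
    have hσ : ∀ g, σ g * ep (ρ t) = ep (ρ t) * σ g := fun g => ep_comm (map_comm ρ ((hA _).1 g.2))
    have hv' : ∀ g : A, g * ⟨v, (hA v).2 (mem_center_iff.1 hu t).symm⟩ =
      ⟨v, (hA v).2 (mem_center_iff.1 hu t).symm⟩ * g := fun g => Subtype.ext (hc g)
    have e2 : σ (⟨v, (hA v).2 (mem_center_iff.1 hu t).symm⟩ *
      ⟨v, (hA v).2 (mem_center_iff.1 hu t).symm⟩) = -1 := (congrArg ρ h2).trans h.neg1
    have b1 := z2_mod (S.2.to_subgroup A) σ he hσ hv' e2 a b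
    have b2 := z2_mod (S.2.to_subgroup A) σ he.compl (fun g => by
      rw [mul_sub, sub_mul, mul_one, one_mul, hσ]) hv' e2 a b
    have b3 := congrArg₂ (· + ·) b1 b2
    simp only [← mul_add, add_sub_cancel, mul_one] at b3
    exact commutatorElement_eq_one_iff_mul_comm.1
      (Subtype.ext (Subtype.ext (h.inj (b3.trans (map_one ρ).symm))))
  · by_cases h4 : ∃ a, a ∉ A
    · obtain ⟨a, ha⟩ := h4
      refine ⟨a, fun b => or_iff_not_imp_right.2 fun hb => (hA _).2 ?_⟩
      have c1 := (h3 a a.2).resolve_left (mt (hA a).2 ha)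
      have c2 := (h3 b b.2).resolve_left (mt (hA b).2 hb)
      rw [coe_mul, mul_assoc, c1, mul_neg, ← mul_assoc, c2, neg_mul, neg_neg, mul_assoc]
    · push Not at h4
      exact ⟨1, fun b => Or.inr (h4 b)⟩

end Cfsg.Agent.GD2
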